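import Mathlib.Algebra.Group.Subgroup.Finite
import Mathlib.Algebra.Module.End
import Mathlib.SetTheory.Cardinal.Finite
import Mathlib.Data.FunLike.Fintype

/-!
# Groups generated by transvections, elementwise (McLaughlin's theorem without a field)

`lam i` : points of the module `M`; `Φ i` : a group of endomorphisms `φ` with image in `lam i`, `φ (lam i) = 0`, such
that `1 + φ` permutes the points; every `φ ∈ Φ i` is 0 or injective on every point.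

* `McL.symm` : `JJ lam Φ i j` (`Φ i` moves `lam j`) is symmetric;
* `McL.field` : if some `φ ≠ 0` of `Φ i` kills `lam j` (`JJ i j`), then the set of `ρ` with `ρ Φ i ≤ Φ i` is transitive on
  `lam i - 0`;
* `McL.trans` : then, if `Dist lam Φ`, `JJ` is transitive (on different points);
* `McL.dich` : if `JJ y i`, `JJ y j` : either all values on `lam j` are attained by `φ ∈ Φ y` with `φ (lam i) = 0`, or
  `lam i ≤ lam j + ker (Φ y)`.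
-/

set_option autoImplicit false

namespace Cfsg.Agent.Omega.NO3S.MidQ

/-- see the header -/
structure McL {M ι : Type*} [AddCommGroup M] (lam : ι → AddSubgroup M) (Φ : ι → AddSubgroup (AddMonoid.End M)) :
    Prop where
  fin : Finite M
  two : ∀ m : M, m + m = 0
  val : ∀ i, ∀ φ ∈ Φ i, ∀ m, φ m ∈ lam i
  ker : ∀ i, ∀ φ ∈ Φ i, ∀ a ∈ lam i, φ a = 0
  ti : ∀ i j, ∀ φ ∈ Φ i, ∀ b ∈ lam j, b ≠ 0 → φ b = 0 → ∀ c ∈ lam j, φ c = 0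
  card : ∀ i j, Nat.card (lam i) = Nat.card (lam j)
  surj : ∀ i j, ∀ b ∈ lam j, (∃ φ ∈ Φ i, φ b ≠ 0) → ∀ a ∈ lam i, ∃ φ ∈ Φ i, φ b = a
  cardΦ : ∀ i j, Nat.card (Φ i) = Nat.card (Φ j)
  mv : ∀ i j, ∀ φ ∈ Φ i, ∃ k, (∀ m ∈ lam j, m + φ m ∈ lam k) ∧ ∀ ψ ∈ Φ j, (1 + φ) * ψ * (1 + φ) ∈ Φ k
  lne : ∀ i, ∃ a ∈ lam i, a ≠ 0
  ne : ∀ i, ∃ φ ∈ Φ i, φ ≠ 0
  gen : ∀ φ : AddMonoid.End M, (∀ i, ∀ a ∈ lam i, φ a = 0) → φ = 0
  same : ∀ i j, ∀ a ∈ lam i, a ∈ lam j → a ≠ 0 → lam i = lam j ∧ Φ i = Φ j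

variable {M ι : Type*} [AddCommGroup M] {lam : ι → AddSubgroup M} {Φ : ι → AddSubgroup (AddMonoid.End M)}

/-- `Φ i` moves `lam j` -/
def JJ (lam : ι → AddSubgroup M) (Φ : ι → AddSubgroup (AddMonoid.End M)) (i j : ι) : Prop :=
  ∃ φ ∈ Φ i, ∃ b ∈ lam j, φ b ≠ 0

/-- (DIST) -/
def Dist (lam : ι → AddSubgroup M) (Φ : ι → AddSubgroup (AddMonoid.End M)) : Prop :=
  ∀ i j, ∀ a ∈ lam i, ∀ b ∈ lam j, (∀ k, ∀ φ ∈ Φ k, φ (a + b) = 0) → a + b = 0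

/-- `φ` kills `lam j` -/
def Kl (lam : ι → AddSubgroup M) (φ : AddMonoid.End M) (j : ι) : Prop := ∀ b ∈ lam j, φ b = 0

namespace McL

variable (h : McL lam Φ)
include h

theorem add_eq_zero {a b : M} : a + b = 0 ↔ a = b := by
  constructor
  · intro e
    have h1 := h.two b
    exact add_right_cancel (e.trans h1.symm)
  · rintro rfl
    exact h.two a

theorem two_end (φ : AddMonoid.End M) : φ + φ = 0 := by
  ext m
  exact h.two (φ m)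

theorem moves {i j : ι} (hj : JJ lam Φ i j) {b : M} (hb : b ∈ lam j) (hb0 : b ≠ 0) : ∃ φ ∈ Φ i, φ b ≠ 0 := by
  obtain ⟨φ, hφ, c, hc, hφc⟩ := hj
  exact ⟨φ, hφ, fun e => hφc (h.ti i j φ hφ b hb hb0 e c hc)⟩

theorem ne_zero {i j : ι} {φ : AddMonoid.End M} (hφ : φ ∈ Φ i) (hk : ¬ Kl lam φ j) {b : M} (hb : b ∈ lam j)
    (hb0 : b ≠ 0) : φ b ≠ 0 := fun e => hk (h.ti i j φ hφ b hb hb0 e)

theorem jj {i j : ι} {φ : AddMonoid.End M} (hφ : φ ∈ Φ i) (hk : ¬ Kl lam φ j) : JJ lam Φ i j := by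
  unfold Kl at hk
  push Not at hk
  obtain ⟨b, hb, hb'⟩ := hk
  exact ⟨φ, hφ, b, hb, hb'⟩

theorem kl_of {i j : ι} {φ : AddMonoid.End M} (hφ : φ ∈ Φ i) {b : M} (hb : b ∈ lam j) (hb0 : b ≠ 0)
    (he : φ b = 0) : Kl lam φ j := h.ti i j φ hφ b hb hb0 he

theorem exists_not_kl {i : ι} {φ : AddMonoid.End M} (_hφ : φ ∈ Φ i) (h0 : φ ≠ 0) : ∃ j, ¬ Kl lam φ j := by
  by_contra hcon
  push Not at hcon
  exact h0 (h.gen φ hcon)

/-- bijectivity on the points -/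
theorem exists_pre {i j : ι} {φ : AddMonoid.End M} (hφ : φ ∈ Φ i) (hk : ¬ Kl lam φ j) {a : M} (ha : a ∈ lam i) :
    ∃ b ∈ lam j, φ b = a := by
  have := h.fin
  let f : lam j → lam i := fun b => ⟨φ b, h.val i φ hφ b⟩
  have hinj : Function.Injective f := by
    intro b c hbc
    have h1 : φ b = φ c := congrArg Subtype.val hbc
    by_contra hne
    have h2 : (b : M) - c ≠ 0 := fun e => hne (Subtype.ext (sub_eq_zero.1 e))
    exact h.ne_zero hφ hk (sub_mem b.2 c.2) h2 (by rw [map_sub, h1, sub_self])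
  have hsurj : Function.Surjective f := by
    have : Fintype (lam i) := Fintype.ofFinite _
    have : Fintype (lam j) := Fintype.ofFinite _
    have h1 := h.card j i
    rw [Nat.card_eq_fintype_card, Nat.card_eq_fintype_card] at h1
    exact ((Fintype.bijective_iff_injective_and_card f).2 ⟨hinj, h1⟩).2
  obtain ⟨b, hb⟩ := hsurj ⟨a, ha⟩
  exact ⟨b, b.2, congrArg Subtype.val hb⟩

/-- conjugation by `1 + ψ` if `ψ` kills `lam i` -/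
theorem conj_self {i j : ι} {ψ χ : AddMonoid.End M} (hψ : ψ ∈ Φ j) (hk : Kl lam ψ i) (hχ : χ ∈ Φ i) :
    χ * (1 + ψ) ∈ Φ i := by
  obtain ⟨k, h1, h2⟩ := h.mv j i ψ hψ
  obtain ⟨a, ha, ha0⟩ := h.lne i
  have h3 := h1 a ha
  rw [hk a ha, add_zero] at h3
  have h4 := (h.same i k a ha h3 ha0).2
  have h5 := h2 χ hχ
  rw [← h4] at h5
  have e : (1 + ψ) * χ * (1 + ψ) = χ * (1 + ψ) := by
    have e1 : ψ * χ = 0 := by
      ext m
      exact hk _ (h.val i χ hχ m)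
    rw [add_mul, e1, one_mul, add_zero]
  rwa [e] at h5

/-- **(★)** -/
theorem mul_mem {i j : ι} {ψ χ : AddMonoid.End M} (hψ : ψ ∈ Φ j) (hk : Kl lam ψ i) (hχ : χ ∈ Φ i) : χ * ψ ∈ Φ i := by
  have h1 := h.conj_self hψ hk hχ
  rw [mul_add, mul_one] at h1
  exact ((Φ i).add_mem_cancel_left hχ).1 h1

theorem finΦ (i : ι) : Finite (Φ i) := by
  have := h.fin
  have : Finite (AddMonoid.End M) := DFunLike.finite _
  infer_instance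

/-- left multiplication by an element injective on `lam i` is injective on `Φ i` -/
theorem mul_inj {i j : ι} {g φ ψ : AddMonoid.End M} (hg : g ∈ Φ j) (hk : ¬ Kl lam g i) (hφ : φ ∈ Φ i) (hψ : ψ ∈ Φ i)
    (e : g * φ = g * ψ) : φ = ψ := by
  ext m
  by_contra hne
  have h1 : φ m - ψ m ≠ 0 := fun e => hne (sub_eq_zero.1 e)
  refine h.ne_zero hg hk (sub_mem (h.val i φ hφ m) (h.val i ψ hψ m)) h1 ?_
  rw [map_sub, sub_eq_zero]
  exact DFunLike.congr_fun e m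

/-- **`JJ` is symmetric** -/
theorem symm {i j : ι} (hj : JJ lam Φ i j) : JJ lam Φ j i := by
  by_contra hno
  have hkl : ∀ ψ ∈ Φ j, Kl lam ψ i := fun ψ hψ => by
    by_contra hk
    exact hno (h.jj hψ hk)
  obtain ⟨φ, hφ, b, hb, hφb⟩ := hj
  have hk : ¬ Kl lam φ j := fun e => hφb (e b hb)
  have := h.finΦ i
  have := h.finΦ j
  let f : Φ j → Φ i := fun ψ => ⟨φ * ψ, h.mul_mem ψ.2 (hkl ψ ψ.2) hφ⟩
  have hinj : Function.Injective f := fun ψ ψ' e =>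
    Subtype.ext (h.mul_inj hφ hk ψ.2 ψ'.2 (congrArg Subtype.val e))
  have hsurj : Function.Surjective f := by
    have : Fintype (Φ i) := Fintype.ofFinite _
    have : Fintype (Φ j) := Fintype.ofFinite _
    have h1 := h.cardΦ j i
    rw [Nat.card_eq_fintype_card, Nat.card_eq_fintype_card] at h1
    exact ((Fintype.bijective_iff_injective_and_card f).2 ⟨hinj, h1⟩).2
  obtain ⟨ψ, hψ⟩ := hsurj ⟨φ, hφ⟩
  have h1 : φ * (ψ : AddMonoid.End M) = φ := congrArg Subtype.val hψ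
  apply hφb
  rw [← h1]
  show φ ((ψ : AddMonoid.End M) b) = 0
  rw [h.ker j ψ ψ.2 b hb, map_zero]

/-- `Φ_i^j` is mapped into `Φ_j^i` -/
theorem swap {i j : ι} {g φ : AddMonoid.End M} (hg : g ∈ Φ j) (hφ : φ ∈ Φ i) (hk : Kl lam φ j) :
    g * φ ∈ Φ j ∧ Kl lam (g * φ) i := by
  refine ⟨h.mul_mem hφ hk hg, fun a ha => ?_⟩
  show g (φ a) = 0
  rw [h.ker i φ hφ a ha, map_zero]

/-- every element of `Φ_j^i` is `g φ`, `φ ∈ Φ_i^j`, `g ∈ Φ j` fixed, not killing `lam i` -/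
theorem exists_swap {i j : ι} {g θ : AddMonoid.End M} (hg : g ∈ Φ j) (hgk : ¬ Kl lam g i) (hθ : θ ∈ Φ j)
    (hk : Kl lam θ i) : ∃ φ ∈ Φ i, Kl lam φ j ∧ g * φ = θ := by
  obtain ⟨g', hg', b, hb, hg'b⟩ := h.symm (h.jj hg hgk)
  have hgk' : ¬ Kl lam g' j := fun e => hg'b (e b hb)
  have := h.finΦ j
  let A := {φ : Φ j // Kl lam (φ : AddMonoid.End M) i}
  let f : A → A := fun φ => ⟨⟨g * (g' * φ.1.1), (h.swap hg (h.swap hg' φ.1.2 φ.2).1 (h.swap hg' φ.1.2 φ.2).2).1⟩,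
    (h.swap hg (h.swap hg' φ.1.2 φ.2).1 (h.swap hg' φ.1.2 φ.2).2).2⟩
  have hinj : Function.Injective f := by
    intro φ ψ e
    have e1 : g * (g' * φ.1.1) = g * (g' * ψ.1.1) := congrArg (fun t => t.1.1) e
    have e2 := h.mul_inj hg hgk (h.swap hg' φ.1.2 φ.2).1 (h.swap hg' ψ.1.2 ψ.2).1 e1
    exact Subtype.ext (Subtype.ext (h.mul_inj hg' hgk' φ.1.2 ψ.1.2 e2))
  obtain ⟨φ, hφ⟩ := (Finite.injective_iff_surjective.1 hinj) ⟨⟨θ, hθ⟩, hk⟩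
  exact ⟨g' * φ.1.1, (h.swap hg' φ.1.2 φ.2).1, (h.swap hg' φ.1.2 φ.2).2, congrArg (fun t => t.1.1) hφ⟩

/-! ### The field -/

/-- every `Φ i` contains nonzero elements killing a given joined point -/
def Big (lam : ι → AddSubgroup M) (Φ : ι → AddSubgroup (AddMonoid.End M)) : Prop :=
  ∀ i j, JJ lam Φ i j → ∃ φ ∈ Φ i, Kl lam φ j ∧ φ ≠ 0

/-- `θ ∈ Φ_i^j` moving `d` : some `χ ∈ Φ_i^d` moves `j`. -/
theorem third_of {i j d : ι} (hj : JJ lam Φ i j) {θ : AddMonoid.End M} (hθ : θ ∈ Φ i) (hθj : Kl lam θ j)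
    (hd : ¬ Kl lam θ d) : ∃ χ ∈ Φ i, Kl lam χ d ∧ ¬ Kl lam χ j := by
  obtain ⟨g, hg, a, ha, hga⟩ := h.symm hj
  have hgk : ¬ Kl lam g i := fun e => hga (e a ha)
  obtain ⟨χ, hχ, b, hb, hχb⟩ := hj
  obtain ⟨c, hc, hc0⟩ := h.lne d
  have h1 : g (θ c) ∈ lam j := h.val j g hg _
  have h2 : g (θ c) ≠ 0 := h.ne_zero hg hgk (h.val i θ hθ c) (h.ne_zero hθ hd hc hc0)
  obtain ⟨g', hg', hg'c⟩ := h.surj i j (g (θ c)) h1 (h.moves ⟨χ, hχ, b, hb, hχb⟩ h1 h2) (χ c) (h.val i χ hχ c)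
  have h3 := h.swap hg' (h.swap hg hθ hθj).1 (h.swap hg hθ hθj).2
  refine ⟨χ - g' * (g * θ), sub_mem hχ h3.1, h.kl_of (sub_mem hχ h3.1) hc hc0 ?_, fun e => hχb ?_⟩
  · show χ c - g' (g (θ c)) = 0
    rw [hg'c, sub_self]
  · have h4 : χ b - (g' * (g * θ)) b = 0 := e b hb
    rw [h3.2 b hb, sub_zero] at h4
    exact h4

/-- `g θ` moves `d` -/
theorem not_kl_mul {i j d : ι} {g θ : AddMonoid.End M} (hg : g ∈ Φ j) (hgk : ¬ Kl lam g i) (hθ : θ ∈ Φ i)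
    (hd : ¬ Kl lam θ d) : ¬ Kl lam (g * θ) d := by
  intro e
  unfold Kl at hd
  push Not at hd
  obtain ⟨c, hc, hc'⟩ := hd
  exact h.ne_zero hg hgk (h.val i θ hθ c) hc' (e c hc)

/-- a joined point `d` and `k ∈ Φ_j^i` moving `d`, an element of `Φ_i^j` moving `d`, one of `Φ_i^d` moving `j` -/
theorem exists_third (hB : Big lam Φ) {i j : ι} (hj : JJ lam Φ i j) :
    ∃ d, (∃ θ ∈ Φ i, Kl lam θ j ∧ ¬ Kl lam θ d) ∧ (∃ χ ∈ Φ i, Kl lam χ d ∧ ¬ Kl lam χ j) ∧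
      ∃ k ∈ Φ j, Kl lam k i ∧ ¬ Kl lam k d := by
  obtain ⟨θ, hθ, hθj, hθ0⟩ := hB i j hj
  obtain ⟨d, hd⟩ := h.exists_not_kl hθ hθ0
  obtain ⟨g, hg, a, ha, hga⟩ := h.symm hj
  have hgk : ¬ Kl lam g i := fun e => hga (e a ha)
  exact ⟨d, ⟨θ, hθ, hθj, hd⟩, h.third_of hj hθ hθj hd, g * θ, (h.swap hg hθ hθj).1, (h.swap hg hθ hθj).2,
    h.not_kl_mul hg hgk hθ hd⟩

/-- **the field** -/
theorem field (hB : Big lam Φ) {i : ι} {a a' : M} (ha : a ∈ lam i) (ha0 : a ≠ 0) (ha' : a' ∈ lam i) :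
    ∃ ρ : AddMonoid.End M, (∀ φ ∈ Φ i, ρ * φ ∈ Φ i) ∧ ρ a = a' := by
  -- some `j` is joined
  obtain ⟨φ₀, hφ₀, hφ₀0⟩ := h.ne i
  obtain ⟨j, hj⟩ := h.exists_not_kl hφ₀ hφ₀0
  have hij : JJ lam Φ i j := h.jj hφ₀ hj
  obtain ⟨d, ⟨θ, hθ, hθj, hθd⟩, ⟨χ₀, hχ₀, hχ₀d, hχ₀j⟩, k, hk, hki, hkd⟩ := h.exists_third hB hij
  have hid : JJ lam Φ i d := h.jj hθ hθd
  obtain ⟨g, hg, b, hb, hgb⟩ := h.symm hid
  have hgk : ¬ Kl lam g i := fun e => hgb (e b hb)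
  obtain ⟨c, hc, hc0⟩ := h.lne d
  -- `ρ = g' g` preserves `Φ i`
  have key : ∀ g' ∈ Φ i, ∀ φ ∈ Φ i, (g' * g) * φ ∈ Φ i := by
    intro g' hg' φ hφ
    have hmul : ∀ χ ∈ Φ i, Kl lam χ d → (g' * g) * χ ∈ Φ i ∧ Kl lam ((g' * g) * χ) d := by
      intro χ hχ hχd
      rw [mul_assoc]
      exact h.swap hg' (h.swap hg hχ hχd).1 (h.swap hg hχ hχd).2
    have hkk : (1 + k) * (1 + k) = 1 := by
      have e1 : k * k = 0 := by
        ext m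
        exact h.ker j k hk _ (h.val j k hk m)
      rw [add_mul, mul_add, mul_add, one_mul, mul_one, one_mul, e1, add_zero, add_assoc, h.two_end, add_zero]
    -- the conjugate `χ₀ (1 + k)`, its value at `c`
    have h1 := h.conj_self hk hki hχ₀
    have hval : (χ₀ * (1 + k)) c = χ₀ (k c) := by
      show χ₀ (c + k c) = _
      rw [map_add, hχ₀d c hc, zero_add]
    have h2 : (χ₀ * (1 + k)) c ≠ 0 := by
      rw [hval]
      exact h.ne_zero hχ₀ hχ₀j (h.val j k hk c) (h.ne_zero hk hkd hc hc0)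
    have h3 : (χ₀ * (1 + k)) c ∈ lam i := h.val i _ h1 c
    have h4 : g ((χ₀ * (1 + k)) c) ≠ 0 := h.ne_zero hg hgk h3 h2
    have h5 : g ((χ₀ * (1 + k)) c) ∈ lam d := h.val d g hg _
    obtain ⟨g'', hg'', hg''c⟩ := h.surj i d _ h5 (h.moves hid h5 h4) (φ c) (h.val i φ hφ c)
    -- `φ = ρ'' χ₀ (1 + k) + φ₁`, `φ₁ ∈ Φ_i^d`
    have hmul'' : ∀ χ ∈ Φ i, Kl lam χ d → (g'' * g) * χ ∈ Φ i ∧ Kl lam ((g'' * g) * χ) d := by
      intro χ hχ hχd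
      rw [mul_assoc]
      exact h.swap hg'' (h.swap hg hχ hχd).1 (h.swap hg hχ hχd).2
    have h6 : (g'' * g) * χ₀ * (1 + k) ∈ Φ i := h.conj_self hk hki (hmul'' χ₀ hχ₀ hχ₀d).1
    have h7 : φ - (g'' * g) * χ₀ * (1 + k) ∈ Φ i := sub_mem hφ h6
    have h8 : Kl lam (φ - (g'' * g) * χ₀ * (1 + k)) d := by
      refine h.kl_of h7 hc hc0 ?_
      show φ c - g'' (g ((χ₀ * (1 + k)) c)) = 0
      rw [hg''c, sub_self]
    have h9 := (hmul _ h7 h8).1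
    have h10 := (hmul'' χ₀ hχ₀ hχ₀d)
    have h11 : (g' * g) * ((g'' * g) * χ₀) * (1 + k) ∈ Φ i := h.conj_self hk hki (hmul _ h10.1 h10.2).1
    have e : (g' * g) * φ = (g' * g) * (φ - (g'' * g) * χ₀ * (1 + k)) + (g' * g) * ((g'' * g) * χ₀) * (1 + k) := by
      rw [mul_sub, mul_assoc (g' * g) ((g'' * g) * χ₀) (1 + k), sub_add_cancel]
    rw [e]
    exact add_mem h9 h11
  have h1 : g a ≠ 0 := h.ne_zero hg hgk ha ha0
  have h2 : g a ∈ lam d := h.val d g hg a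
  obtain ⟨g', hg', hg'a⟩ := h.surj i d _ h2 (h.moves hid h2 h1) a' ha'
  exact ⟨g' * g, key g' hg', hg'a⟩

/-! ### Transitivity -/

theorem sq_end {i : ι} {φ : AddMonoid.End M} (hφ : φ ∈ Φ i) : (1 + φ) * (1 + φ) = 1 := by
  have e1 : φ * φ = 0 := by
    ext m
    exact h.ker i φ hφ _ (h.val i φ hφ m)
  rw [add_mul, mul_add, mul_add, one_mul, mul_one, one_mul, e1, add_zero, add_assoc, h.two_end, add_zero]

/-- `mv`, both directions -/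
theorem mv' (i j : ι) {φ : AddMonoid.End M} (hφ : φ ∈ Φ i) : ∃ k, (∀ m ∈ lam j, m + φ m ∈ lam k) ∧
    (∀ ψ ∈ Φ j, (1 + φ) * ψ * (1 + φ) ∈ Φ k) ∧ ∀ ψ ∈ Φ k, (1 + φ) * ψ * (1 + φ) ∈ Φ j := by
  obtain ⟨k, h1, h2⟩ := h.mv i j φ hφ
  obtain ⟨k', h3, h4⟩ := h.mv i k φ hφ
  obtain ⟨b, hb, hb0⟩ := h.lne j
  have h5 := h3 _ (h1 b hb)
  have e : b + φ b + φ (b + φ b) = b := by
    rw [map_add, h.ker i φ hφ _ (h.val i φ hφ b), add_zero, add_assoc, h.two, add_zero]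
  rw [e] at h5
  rw [(h.same k' j b h5 hb hb0).2] at h4
  exact ⟨k, h1, h2, h4⟩

/-- `φ ∈ Φ b` killing `lam a` kills `lam c` -/
theorem kl_kl {a b c : ι} (hba : JJ lam Φ b a) (hac : ¬ JJ lam Φ a c) {φ : AddMonoid.End M} (hφ : φ ∈ Φ b)
    (hk : Kl lam φ a) : Kl lam φ c := by
  obtain ⟨g, hg, u, hu, hgu⟩ := hba
  obtain ⟨φ', hφ', -, rfl⟩ := h.exists_swap hg (fun e => hgu (e u hu)) hφ hk
  intro v hv
  have h1 : φ' v = 0 := by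
    by_contra h2
    exact hac ⟨φ', hφ', v, hv, h2⟩
  show g (φ' v) = 0
  rw [h1, map_zero]

theorem exists_E (hB : Big lam Φ) {y i j : ι} (hkl : ∀ φ ∈ Φ y, Kl lam φ i → Kl lam φ j) (hj : JJ lam Φ y j) {α : M}
    (hα : α ∈ lam i) : ∃ γ ∈ lam j, ∀ φ ∈ Φ y, φ (α + γ) = 0 := by
  by_cases hα0 : α = 0
  · refine ⟨0, zero_mem _, fun φ _ => ?_⟩
    rw [hα0, add_zero, map_zero]
  obtain ⟨g, hg, u, hu, hgu⟩ := hj
  have hgj : ¬ Kl lam g j := fun e => hgu (e u hu)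
  have hgi : ¬ Kl lam g i := fun e => hgj (hkl g hg e)
  obtain ⟨γ, hγ, hγe⟩ := h.exists_pre hg hgj (h.val y g hg α)
  refine ⟨γ, hγ, fun φ hφ => ?_⟩
  obtain ⟨ρ, hρ, hρe⟩ := h.field hB (h.val y g hg α) (h.ne_zero hg hgi hα hα0) (h.val y φ hφ α)
  have h1 : φ - ρ * g ∈ Φ y := sub_mem hφ (hρ g hg)
  have h2 : Kl lam (φ - ρ * g) i := by
    refine h.kl_of h1 hα hα0 ?_
    show φ α - ρ (g α) = 0
    rw [hρe, sub_self]
  have h3 : φ γ - ρ (g γ) = 0 := hkl _ h1 h2 γ hγ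
  rw [hγe, hρe, sub_eq_zero] at h3
  rw [map_add, h3]
  exact h.two _

/-- **LEMMA C** -/
theorem lemC (hB : Big lam Φ) {a b c x : ι} (hba : JJ lam Φ b a) (hbc : JJ lam Φ b c) (hac : ¬ JJ lam Φ a c)
    {θ : AddMonoid.End M} (hθ : θ ∈ Φ a) (hθb : Kl lam θ b) (hθx : ¬ Kl lam θ x) {α γ : M} (hα : α ∈ lam a)
    (hγ : γ ∈ lam c) (hE : ∀ φ ∈ Φ b, φ (α + γ) = 0) : JJ lam Φ x c ∧ ∀ φ ∈ Φ x, φ (α + γ) = 0 := by
  have hca : ¬ JJ lam Φ c a := fun e => hac (h.symm e)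
  obtain ⟨g, hg, u, hu, hgu⟩ := hba
  have hga : ¬ Kl lam g a := fun e => hgu (e u hu)
  have hba : JJ lam Φ b a := ⟨g, hg, u, hu, hgu⟩
  have hgc : ¬ Kl lam g c := fun e => hga (h.kl_kl hbc hca hg e)
  have hk := h.swap hg hθ hθb
  have hkx : ¬ Kl lam (g * θ) x := h.not_kl_mul hg hga hθ hθx
  have hkc : Kl lam (g * θ) c := h.kl_kl hba hac hk.1 hk.2
  have hxa : JJ lam Φ x a := h.symm (h.jj hθ hθx)
  have hxc : JJ lam Φ x c := by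
    obtain ⟨θ', hθ', -, hθe⟩ := h.exists_swap hg hgc hk.1 hkc
    refine h.symm (h.jj hθ' fun e => hkx fun v hv => ?_)
    rw [← hθe]
    show g (θ' v) = 0
    rw [e v hv, map_zero]
  refine ⟨hxc, ?_⟩
  -- `m ∈ Φ_x^a` moving `b`
  obtain ⟨χ, hχ, hχx, hχb⟩ := h.third_of (h.symm hba) hθ hθb hθx
  obtain ⟨gx, hgx, v, hv, hgxv⟩ := hxa
  have hgxa : ¬ Kl lam gx a := fun e => hgxv (e v hv)
  have hxa : JJ lam Φ x a := ⟨gx, hgx, v, hv, hgxv⟩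
  have hm0 := h.swap hgx hχ hχx
  have hm0b : ¬ Kl lam (gx * χ) b := h.not_kl_mul hgx hgxa hχ hχb
  obtain ⟨δ, hδ, hδ0⟩ := h.lne x
  have hβ : (g * θ) δ ∈ lam b := h.val b _ hk.1 δ
  have hβ0 : (g * θ) δ ≠ 0 := h.ne_zero hk.1 hkx hδ hδ0
  obtain ⟨ρ, hρ, hρe⟩ := h.field hB (h.val x _ hm0.1 _) (h.ne_zero hm0.1 hm0b hβ hβ0) hδ
  set k := g * θ with hkdef
  set m := ρ * (gx * χ) with hmdef
  have hmx : m ∈ Φ x := hρ _ hm0.1
  have hma : Kl lam m a := by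
    intro w hw
    show ρ ((gx * χ) w) = 0
    rw [hm0.2 w hw, map_zero]
  have hmc : Kl lam m c := h.kl_kl hxa hac hmx hma
  have hmβ : m (k δ) = δ := hρe
  obtain ⟨e1, h1, h2, -⟩ := h.mv' b x hk.1
  obtain ⟨e2, h3, -, h5⟩ := h.mv' x b hmx
  have h6 : δ + k δ ∈ lam e1 := h1 δ hδ
  have h7 : δ + k δ ∈ lam e2 := by
    have h8 := h3 _ hβ
    rwa [hmβ, add_comm] at h8
  have h8 : δ + k δ ≠ 0 := by
    intro e
    rw [h.add_eq_zero] at e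
    have h9 := (h.same x b δ hδ (e ▸ hβ) hδ0).1
    apply hθx
    intro w hw
    rw [h9] at hw
    exact hθb w hw
  have h9 := (h.same e1 e2 _ h6 h7 h8).2
  have hinj : ∀ {t : AddMonoid.End M} {i : ι}, t ∈ Φ i → ∀ {w : M}, (1 + t) w = 0 → w = 0 := by
    intro t i ht w hw
    have h10 : ((1 + t) * (1 + t)) w = 0 := by
      show (1 + t) ((1 + t) w) = 0
      rw [hw, map_zero]
    rw [h.sq_end ht] at h10
    exact h10
  have hfix : ∀ {t : AddMonoid.End M}, Kl lam t a → Kl lam t c → (1 + t) (α + γ) = α + γ := by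
    intro t h10 h11
    show (α + γ) + t (α + γ) = α + γ
    rw [map_add, h10 α hα, h11 γ hγ, add_zero, add_zero]
  intro ψ hψ
  have h10 := h2 ψ hψ
  rw [h9] at h10
  have h11 := h5 _ h10
  have h12 : ((1 + m) * ((1 + k) * ψ * (1 + k)) * (1 + m)) (α + γ) = 0 := hE _ h11
  have h13 : (1 + m) ((1 + k) (ψ ((1 + k) ((1 + m) (α + γ))))) = 0 := h12
  rw [hfix hma hmc, hfix hk.2 hkc] at h13
  exact hinj hk.1 (hinj hmx h13)

/-- **LEMMA D** -/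
theorem lemD (hB : Big lam Φ) {a b c x : ι} (hba : JJ lam Φ b a) (hbc : JJ lam Φ b c) (hac : ¬ JJ lam Φ a c)
    {α γ : M} (hα : α ∈ lam a) (hγ : γ ∈ lam c) (hE : ∀ φ ∈ Φ b, φ (α + γ) = 0) (hxa : JJ lam Φ x a) :
    JJ lam Φ x c ∧ ∀ φ ∈ Φ x, φ (α + γ) = 0 := by
  obtain ⟨d, ⟨θ, hθ, hθb, hθd⟩, -, -⟩ := h.exists_third hB (h.symm hba)
  obtain ⟨hdc, hEd⟩ := h.lemC hB hba hbc hac hθ hθb hθd hα hγ hE
  have hda : JJ lam Φ d a := h.symm (h.jj hθ hθd)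
  by_cases h1 : ∃ θ ∈ Φ a, Kl lam θ b ∧ ¬ Kl lam θ x
  · obtain ⟨θ', h2, h3, h4⟩ := h1
    exact h.lemC hB hba hbc hac h2 h3 h4 hα hγ hE
  by_cases h5 : ∃ θ ∈ Φ a, Kl lam θ d ∧ ¬ Kl lam θ x
  · obtain ⟨θ', h2, h3, h4⟩ := h5
    exact h.lemC hB hda hdc hac h2 h3 h4 hα hγ hEd
  exfalso
  push Not at h1 h5
  obtain ⟨ψ, hψ, v, hv, hψv⟩ := h.symm hxa
  obtain ⟨δ, hδ, hδ0⟩ := h.lne d
  obtain ⟨ρ, hρ, hρe⟩ := h.field hB (h.val a θ hθ δ) (h.ne_zero hθ hθd hδ hδ0) (h.val a ψ hψ δ)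
  have h2 : Kl lam (ρ * θ) x := by
    refine h1 _ (hρ θ hθ) fun w hw => ?_
    show ρ (θ w) = 0
    rw [hθb w hw, map_zero]
  have h3 : ψ - ρ * θ ∈ Φ a := sub_mem hψ (hρ θ hθ)
  have h4 : Kl lam (ψ - ρ * θ) x := by
    refine h5 _ h3 (h.kl_of h3 hδ hδ0 ?_)
    show ψ δ - ρ (θ δ) = 0
    rw [hρe, sub_self]
  apply hψv
  have h6 : ψ v - (ρ * θ) v = 0 := h4 v hv
  rw [h2 v hv, sub_zero] at h6
  exact h6

/-- **`JJ` is transitive** on different points -/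
theorem trans (hB : Big lam Φ) (hD : Dist lam Φ) {a b c : ι} (hab : JJ lam Φ a b) (hbc : JJ lam Φ b c) (hne : lam a ≠ lam c) :
    JJ lam Φ a c := by
  by_contra hac
  have hba := h.symm hab
  obtain ⟨α, hα, hα0⟩ := h.lne a
  obtain ⟨γ, hγ, hE⟩ := h.exists_E hB (fun φ hφ hk => h.kl_kl hba hac hφ hk) hbc hα
  have hE' : ∀ φ ∈ Φ b, φ (γ + α) = 0 := fun φ hφ => by rw [add_comm]; exact hE φ hφ
  have key : α + γ = 0 := by
    refine hD a c α hα γ hγ fun x φ hφ => ?_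
    by_cases hxa : JJ lam Φ x a
    · exact (h.lemD hB hba hbc hac hα hγ hE hxa).2 φ hφ
    · have hxc : ¬ JJ lam Φ x c := fun e =>
        hxa (h.lemD hB hbc hba (fun e => hac (h.symm e)) hγ hα hE' e).1
      have h1 : φ α = 0 := by
        by_contra h2
        exact hxa ⟨φ, hφ, α, hα, h2⟩
      have h3 : φ γ = 0 := by
        by_contra h2
        exact hxc ⟨φ, hφ, γ, hγ, h2⟩
      rw [map_add, h1, h3, add_zero]
  rw [h.add_eq_zero] at key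
  exact hne (h.same a c α hα (key ▸ hγ) hα0).1

/-- **the dichotomy** for the values of `Φ y` -/
theorem dich (hB : Big lam Φ) {y i j : ι} (hj : JJ lam Φ y j) :
    (∀ φ ∈ Φ y, ∃ φ' ∈ Φ y, (∀ b ∈ lam j, φ' b = φ b) ∧ Kl lam φ' i) ∨
      ∀ α ∈ lam i, ∃ γ ∈ lam j, ∀ φ ∈ Φ y, φ (α + γ) = 0 := by
  by_cases h1 : ∃ φ ∈ Φ y, Kl lam φ i ∧ ¬ Kl lam φ j
  · left
    obtain ⟨φ₀, hφ₀, h2, h3⟩ := h1
    intro φ hφ
    obtain ⟨β, hβ, hβ0⟩ := h.lne j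
    obtain ⟨ρ, hρ, hρe⟩ := h.field hB (h.val y _ hφ₀ β) (h.ne_zero hφ₀ h3 hβ hβ0) (h.val y φ hφ β)
    have h4 : φ - ρ * φ₀ ∈ Φ y := sub_mem hφ (hρ _ hφ₀)
    have h5 : Kl lam (φ - ρ * φ₀) j := by
      refine h.kl_of h4 hβ hβ0 ?_
      show φ β - ρ (φ₀ β) = 0
      rw [hρe, sub_self]
    refine ⟨ρ * φ₀, hρ _ hφ₀, fun b hb => ?_, fun b hb => ?_⟩
    · have h6 : φ b - (ρ * φ₀) b = 0 := h5 b hb
      exact (sub_eq_zero.1 h6).symm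
    · show ρ (φ₀ b) = 0
      rw [h2 b hb, map_zero]
  · right
    push Not at h1
    exact fun α hα => h.exists_E hB h1 hj hα

end McL

end Cfsg.Agent.Omega.NO3S.MidQ
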