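import Cfsg.Agent.Omega.NO3S.MidQ.Base
import Cfsg.Agent.Omega.NO3S.Lin

/-!
# NO-3S, natural lines, critical distance 2: LEMMA F (TEXT 426-1, bb OMEGA #15163, section 1)

* `Mid.lemF` : a subgroup `E X L` attached canonically to the flags `(X, L)`, `X ≤ E X L ≤ I_L`, `E X L ∩ Y = 1` for
  the points `Y ≠ X` of `L`, is `X`;
* `Mid.lemF_flag` : so `C_{I_L / X}(N X L) = 1` if `N X L ≤ C_G(X)` is canonical and does not centralise `L / X`;
* `Mid.lemF_pt` : the same if `N X ≤ C_G(X)` is canonical and `N X ≰ K_X`.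
-/

set_option autoImplicit false
set_option linter.unusedSectionVars false

namespace Cfsg.Agent.Omega.NO3S.MidQ

open Subgroup Cfsg.Agent.Omega.NO3S.PT Cfsg.Agent.Omega.NoFF.Basic Cfsg.Agent.ZN
open scoped Pointwise

variable {G : Type*} [Group G] [Finite G] {S : Sylow 2 G} {P V Z X Y L : Subgroup G}

/-- a subgroup attached canonically to the flags -/
def FlagCan (V Z : Subgroup G) (E : Subgroup G → Subgroup G → Subgroup G) : Prop :=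
  ∀ (g : G) (X L : Subgroup G), IsCj Z X → IsCj V L → X ≤ L → E (cj g X) (cj g L) = cj g (E X L)

/-- a subgroup attached canonically to the points -/
def PtCan (Z : Subgroup G) (E : Subgroup G → Subgroup G) : Prop :=
  ∀ (g : G) (X : Subgroup G), IsCj Z X → E (cj g X) = cj g (E X)

theorem PtCan.flag {E : Subgroup G → Subgroup G} (h : PtCan Z E) (V : Subgroup G) : FlagCan V Z fun X _ => E X :=
  fun g X _ hX _ _ => h g X hX

/-- `{u ∈ C_G(X) : u ∈ W_Y for all points Y of L, [N, u] ≤ X}` -/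
def ff (V Z X L N : Subgroup G) : Subgroup G where
  carrier := {u | u ∈ centralizer (X : Set G) ∧ (∀ Y, IsCj Z Y → Y ≤ L → u ∈ ws V Y) ∧
    ∀ n ∈ N, n * u * n⁻¹ * u⁻¹ ∈ X}
  one_mem' := ⟨one_mem _, fun Y _ _ => one_mem _, fun n _ => by simp⟩
  mul_mem' := by
    rintro a b ⟨ha1, ha2, ha3⟩ ⟨hb1, hb2, hb3⟩
    refine ⟨mul_mem ha1 hb1, fun Y hY hYL => mul_mem (ha2 Y hY hYL) (hb2 Y hY hYL), fun n hn => ?_⟩
    have e : n * (a * b) * n⁻¹ * (a * b)⁻¹ = n * a * n⁻¹ * a⁻¹ * (a * (n * b * n⁻¹ * b⁻¹) * a⁻¹) := by group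
    have e2 : a * (n * b * n⁻¹ * b⁻¹) * a⁻¹ = n * b * n⁻¹ * b⁻¹ := by
      rw [← mem_centralizer_iff.1 ha1 _ (hb3 n hn), mul_inv_cancel_right]
    rw [e, e2]
    exact X.mul_mem (ha3 n hn) (hb3 n hn)
  inv_mem' := by
    rintro a ⟨ha1, ha2, ha3⟩
    refine ⟨inv_mem ha1, fun Y hY hYL => inv_mem (ha2 Y hY hYL), fun n hn => ?_⟩
    have e : n * a⁻¹ * n⁻¹ * a⁻¹⁻¹ = a⁻¹ * (n * a * n⁻¹ * a⁻¹)⁻¹ * a := by group
    have h1 := X.inv_mem (ha3 n hn)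
    rw [e, mul_assoc, mem_centralizer_iff.1 ha1 _ h1, inv_mul_cancel_left]
    exact h1

theorem mem_ff {V Z X L N : Subgroup G} {u : G} : u ∈ ff V Z X L N ↔ u ∈ centralizer (X : Set G) ∧
    (∀ Y, IsCj Z Y → Y ≤ L → u ∈ ws V Y) ∧ ∀ n ∈ N, n * u * n⁻¹ * u⁻¹ ∈ X := Iff.rfl

theorem ff_cj_le (V Z X L N : Subgroup G) (g : G) : cj g (ff V Z X L N) ≤ ff V Z (cj g X) (cj g L) (cj g N) := by
  intro u hu
  rw [mem_cj, mem_ff] at hu
  obtain ⟨h1, h2, h3⟩ := hu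
  refine ⟨?_, fun Y hY hYL => ?_, fun n hn => ?_⟩
  · rw [← cj_centralizer, mem_cj]
    exact h1
  · have h4 := h2 _ (hY.cj g⁻¹) (by rwa [cj_le_iff, inv_inv])
    rw [ws_cj, mem_cj] at h4
    have e : g⁻¹⁻¹ * (g⁻¹ * u * g) * g⁻¹ = u := by group
    rwa [e] at h4
  · have h4 := h3 _ (mem_cj.1 hn)
    rw [mem_cj]
    have e : g⁻¹ * (n * u * n⁻¹ * u⁻¹) * g =
      g⁻¹ * n * g * (g⁻¹ * u * g) * (g⁻¹ * n * g)⁻¹ * (g⁻¹ * u * g)⁻¹ := by group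
    rwa [e]

theorem ff_cj (V Z X L N : Subgroup G) (g : G) : ff V Z (cj g X) (cj g L) (cj g N) = cj g (ff V Z X L N) := by
  refine le_antisymm ?_ (ff_cj_le V Z X L N g)
  have h1 := ff_cj_le V Z (cj g X) (cj g L) (cj g N) g⁻¹
  rw [cj_cj, cj_cj, cj_cj, inv_mul_cancel, cj_one, cj_one, cj_one, cj_le_iff, inv_inv] at h1
  exact h1

namespace Mid

variable (h : Mid S P V Z)
include h

/-- **LEMMA F** -/
theorem lemF {E : Subgroup G → Subgroup G → Subgroup G} (hE : FlagCan V Z E)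
    (h1 : ∀ X L, IsCj Z X → IsCj V L → X ≤ L → X ≤ E X L ∧ ∀ Y, IsCj Z Y → Y ≤ L → E X L ≤ ws V Y)
    (h2 : ∀ X L, IsCj Z X → IsCj V L → X ≤ L → ∀ Y, IsCj Z Y → Y ≤ L → Y ≠ X → E X L ⊓ Y = ⊥)
    (hX : IsCj Z X) (hL : IsCj V L) (hXL : X ≤ L) : E X L = X := by
  refine le_antisymm ?_ (h1 X L hX hL hXL).1
  intro u hu
  by_contra huX
  have huL : ∀ v ∈ E X L, v ∉ X → v ∉ L := by
    intro v hv hvX hvL
    have hv1 : v ≠ 1 := fun e => hvX (e ▸ one_mem _)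
    obtain ⟨Y, hY, hYL, hvY⟩ := h.exists_point hL hvL hv1
    have hYX : Y ≠ X := fun e => hvX (e ▸ hvY)
    have h3 : v ∈ E X L ⊓ Y := ⟨hv, hvY⟩
    rw [h2 X L hX hL hXL Y hY hYL hYX, mem_bot] at h3
    exact hv1 h3
  obtain ⟨Y, hY, hYL, hYX⟩ := h.exists_second hX hL hXL
  -- `u` is in `E Y L`
  have key : ∀ v ∈ E X L, v ∉ X → v ∈ E Y L := by
    intro v hv hvX
    have hvW := (h1 X L hX hL hXL).2
    obtain ⟨g, -, hgv, hgX, -, hgL, -⟩ := h.F2_swap hL hX hY hXL hYL hYX.symm hX hY hXL hYL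
      (hvW X hX hXL hv) (hvW Y hY hYL hv) (huL v hv hvX)
    rw [← hgX, ← hgL, hE g X L hX hL hXL, mem_cj, mul_assoc, ← hgv, inv_mul_cancel_left]
    exact hv
  obtain ⟨c, hc, hc1⟩ := h.pt_ne_bot hX
  have h3 : u * c ∈ E X L := (E X L).mul_mem hu ((h1 X L hX hL hXL).1 hc)
  have h4 : u * c ∉ X := fun e => huX ((X.mul_mem_cancel_right hc).1 e)
  have h5 : c ∈ E Y L := ((E Y L).mul_mem_cancel_left (key u hu huX)).1 (key _ h3 h4)
  have h6 : c ∈ E Y L ⊓ X := ⟨h5, hc⟩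
  rw [h2 Y L hY hL hYL X hX hXL hYX.symm, mem_bot] at h6
  exact hc1 h6

/-- (LIN) for an arbitrary flag -/
theorem lin (hX : IsCj Z X) (hL : IsCj V L) (hXL : X ≤ L) {g v : G} (hg : g ∈ centralizer (X : Set G))
    (hv : v ∈ L) (hvX : v ∉ X) (hgv : g * v * g⁻¹ * v⁻¹ ∈ X) : ∀ u ∈ L, g * u * g⁻¹ * u⁻¹ ∈ X := by
  obtain ⟨T, Q, h'⟩ := h.flag hX hL hXL
  exact h'.pl.lin (fun z hz => (mem_centralizer_iff.1 hg z hz).symm) hv hvX hgv

/-- **LEMMA F**, the form for centralisers: `u ∈ I_L` centralised by `N X L` modulo `X` is in `X`. -/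
theorem lemF_flag {N : Subgroup G → Subgroup G → Subgroup G} (hN : FlagCan V Z N)
    (hc : ∀ X L, IsCj Z X → IsCj V L → X ≤ L → N X L ≤ centralizer (X : Set G))
    (hn : ∀ X L, IsCj Z X → IsCj V L → X ≤ L → ∃ n ∈ N X L, ∃ v ∈ L, n * v * n⁻¹ * v⁻¹ ∉ X)
    (hX : IsCj Z X) (hL : IsCj V L) (hXL : X ≤ L) (hY : IsCj Z Y) (hYL : Y ≤ L) (hYX : Y ≠ X) {u : G}
    (hu : u ∈ ws V X) (hu' : u ∈ ws V Y) (huN : ∀ n ∈ N X L, n * u * n⁻¹ * u⁻¹ ∈ X) : u ∈ X := by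
  have hE : FlagCan V Z fun X L => ff V Z X L (N X L) := by
    intro g X L hX hL hXL
    show ff V Z (cj g X) (cj g L) (N (cj g X) (cj g L)) = cj g (ff V Z X L (N X L))
    rw [hN g X L hX hL hXL]
    exact ff_cj V Z X L (N X L) g
  have key := h.lemF hE (X := X) (L := L) ?_ ?_ hX hL hXL
  · rw [← key]
    refine ⟨?_, fun T hT hTL => ?_, huN⟩
    · rw [mem_centralizer_iff]
      exact fun x hx => (h.ws_comm hX hu (h.pt_le_ws hX hx)).symm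
    · exact h.inf_le hL hX hY hT hXL hYL hTL hYX.symm ⟨hu, hu'⟩
  · intro X L hX hL hXL
    refine ⟨fun x hx => ⟨?_, fun Y hY hYL => ?_, fun n hn => ?_⟩, fun Y hY hYL u hu => hu.2.1 Y hY hYL⟩
    · rw [mem_centralizer_iff]
      exact fun y hy => h.ws_comm hX (h.pt_le_ws hX hy) (h.pt_le_ws hX hx)
    · exact (hXL.trans (le_ws hL hYL)) hx
    · have h1 := mem_centralizer_iff.1 (hc X L hX hL hXL hn) x hx
      rw [← h1, mul_inv_cancel_right, mul_inv_cancel]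
      exact one_mem _
  · intro X L hX hL hXL Y hY hYL hYX
    rw [eq_bot_iff]
    intro y hy
    by_contra hy1
    rw [mem_bot] at hy1
    obtain ⟨n, hnN, v, hvL, hnv⟩ := hn X L hX hL hXL
    exact hnv (h.lin hX hL hXL (hc X L hX hL hXL hnN) (hYL hy.2)
      (fun e => hYX (h.pts_eq hY hX hy.2 e hy1)) (hy.1.2.2 n hnN) v hvL)

/-- a canonical subgroup `N X ≤ C_G(X)` centralising `L / X` for one line `L` is in `K_X` -/
theorem le_kx_of_line {N : Subgroup G → Subgroup G} (hN : PtCan Z N) (hX : IsCj Z X) (hL : IsCj V L) (hXL : X ≤ L)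
    (hc : N X ≤ centralizer (X : Set G)) (hn : ∀ n ∈ N X, ∀ v ∈ L, n * v * n⁻¹ * v⁻¹ ∈ X) : N X ≤ kx V X := by
  intro n hnN
  have hnX := mem_centralizer_iff.1 (hc hnN)
  refine mem_kx.2 ⟨fun x hx => (hnX x hx).symm, ?_⟩
  -- the subgroup of `ws V X` centralised modulo `X`
  have key : ∀ M, IsCj V M → X ≤ M → ∀ v ∈ M, n * v * n⁻¹ * v⁻¹ ∈ X := by
    intro M hM hXM v hv
    obtain ⟨g, hg1, rfl⟩ := h.exists_conj₂ hX hL hXL hX hM hXM
    have h1 : g⁻¹ * n * g ∈ N X := by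
      rw [← mem_cj, ← hN g X hX, ← hg1]
      exact hnN
    have h2 := hn _ h1 _ (mem_cj.1 hv)
    rw [hg1, mem_cj]
    have e : g⁻¹ * (n * v * n⁻¹ * v⁻¹) * g =
      g⁻¹ * n * g * (g⁻¹ * v * g) * (g⁻¹ * n * g)⁻¹ * (g⁻¹ * v * g)⁻¹ := by group
    rwa [e]
  let E : Subgroup G :=
    { carrier := {w | w ∈ centralizer (X : Set G) ∧ n * w * n⁻¹ * w⁻¹ ∈ X}
      one_mem' := ⟨one_mem _, by simp⟩
      mul_mem' := by
        rintro a b ⟨ha1, ha3⟩ ⟨hb1, hb3⟩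
        refine ⟨mul_mem ha1 hb1, ?_⟩
        have e : n * (a * b) * n⁻¹ * (a * b)⁻¹ = n * a * n⁻¹ * a⁻¹ * (a * (n * b * n⁻¹ * b⁻¹) * a⁻¹) := by group
        have e2 : a * (n * b * n⁻¹ * b⁻¹) * a⁻¹ = n * b * n⁻¹ * b⁻¹ := by
          rw [← mem_centralizer_iff.1 ha1 _ hb3, mul_inv_cancel_right]
        rw [e, e2]
        exact X.mul_mem ha3 hb3
      inv_mem' := by
        rintro a ⟨ha1, ha3⟩
        refine ⟨inv_mem ha1, ?_⟩
        have e : n * a⁻¹ * n⁻¹ * a⁻¹⁻¹ = a⁻¹ * (n * a * n⁻¹ * a⁻¹)⁻¹ * a := by group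
        have h1 := X.inv_mem ha3
        rw [e, mul_assoc, mem_centralizer_iff.1 ha1 _ h1, inv_mul_cancel_left]
        exact h1 }
  have hE : ws V X ≤ E := by
    refine ws_le fun M hM hXM v hv => ⟨?_, key M hM hXM v hv⟩
    rw [mem_centralizer_iff]
    exact fun x hx => h.ws_comm hX (h.pt_le_ws hX hx) (h.line_le hM hXM hv)
  exact fun w hw => (hE hw).2

/-- **COROLLARY of LEMMA F**: `u ∈ I_L` centralised by `N X` modulo `X` is in `X`, if `N X ≤ C_G(X)` is canonical and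
not contained in `K_X`. -/
theorem lemF_pt {N : Subgroup G → Subgroup G} (hN : PtCan Z N)
    (hc : ∀ X, IsCj Z X → N X ≤ centralizer (X : Set G)) (hn : ∀ X, IsCj Z X → ¬ N X ≤ kx V X)
    (hX : IsCj Z X) (hL : IsCj V L) (hXL : X ≤ L) (hY : IsCj Z Y) (hYL : Y ≤ L) (hYX : Y ≠ X) {u : G}
    (hu : u ∈ ws V X) (hu' : u ∈ ws V Y) (huN : ∀ n ∈ N X, n * u * n⁻¹ * u⁻¹ ∈ X) : u ∈ X := by
  refine h.lemF_flag (hN.flag V) (fun X L hX _ _ => hc X hX) (fun X L hX hL hXL => ?_) hX hL hXL hY hYL hYX hu hu' huN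
  by_contra hcon
  push Not at hcon
  exact hn X hX (h.le_kx_of_line hN hX hL hXL (hc X hX) hcon)

end Mid

end Cfsg.Agent.Omega.NO3S.MidQ
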