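import Cfsg.Agent.Omega.NO3S.MidQ.NTwoDef

/-!
# NO-3S, natural lines, TYPE N, blocks `SL_m`, `m ≥ 3`: basic facts (TEXT 426-2, THEOREM N2)

* `card_le_mul`, `surj_of_inj`, `mul_of_card`, `card_mul_le`, `card_dec` : counting;
* `NT S P V Z Blk m` : `Mid`, (N) and (SL);
* `NT.bk_mem`, `NT.bk_unique`, `NT.bk_cj`, `NT.exists_pt`, `NT.dec` : blocks;
* `Sb.symm`, `Sb.cj`, `NT.sb_mv`, `NT.sb_move`.
-/

set_option autoImplicit false
set_option linter.unusedSectionVars false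

namespace Cfsg.Agent.Omega.NO3S.MidQ

open Subgroup Cfsg.Agent.Omega.NO3S.PT Cfsg.Agent.Omega.NoFF.Basic Cfsg.Agent.ZN
open scoped Pointwise

variable {G : Type*} [Group G]

/-! ### Counting -/

section Count

variable [Finite G]

/-- `f : H → T` with fibres in cosets of `K` -/
theorem card_le_mul {H T K : Subgroup G} (f : G → G) (hf : ∀ y ∈ H, f y ∈ T)
    (hk : ∀ y ∈ H, ∀ y' ∈ H, f y = f y' → y⁻¹ * y' ∈ K) :
    Nat.card H ≤ Nat.card T * Nat.card (H ⊓ K : Subgroup G) := by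
  classical
  have hr : ∀ t : T, ∃ y : H, (∃ x : H, f x = t) → f y = t := by
    intro t
    by_cases ht : ∃ x : H, f x = t
    · obtain ⟨x, hx⟩ := ht
      exact ⟨x, fun _ => hx⟩
    · exact ⟨1, fun h => absurd h ht⟩
  choose r hr using hr
  have hr' : ∀ y : H, f (r ⟨f y, hf y y.2⟩) = f y := fun y => hr ⟨f y, hf y y.2⟩ ⟨y, rfl⟩
  let F : H → T × (H ⊓ K : Subgroup G) := fun y =>
    (⟨f y, hf y y.2⟩, ⟨((r ⟨f y, hf y y.2⟩ : H) : G)⁻¹ * y,
      H.mul_mem (H.inv_mem (r _).2) y.2, hk _ (r _).2 _ y.2 (hr' y)⟩)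
  have hF : Function.Injective F := by
    intro y y' hyy
    have h1 : (⟨f y, hf y y.2⟩ : T) = ⟨f y', hf y' y'.2⟩ := congrArg Prod.fst hyy
    have h2 : ((r ⟨f y, hf y y.2⟩ : H) : G)⁻¹ * y = ((r ⟨f y', hf y' y'.2⟩ : H) : G)⁻¹ * y' :=
      congrArg Subtype.val (congrArg Prod.snd hyy)
    rw [h1] at h2
    exact Subtype.ext (mul_left_cancel h2)
  have h3 := Nat.card_le_card_of_injective F hF
  rwa [Nat.card_prod] at h3

theorem surj_of_inj {A B : Subgroup G} (hc : Nat.card B ≤ Nat.card A) (f : G → G) (hf : ∀ a ∈ A, f a ∈ B)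
    (hi : ∀ a ∈ A, ∀ a' ∈ A, f a = f a' → a = a') : ∀ b ∈ B, ∃ a ∈ A, f a = b := by
  let F : A → B := fun a => ⟨f a, hf a a.2⟩
  have hF : Function.Injective F := fun a a' h => Subtype.ext (hi a a.2 a' a'.2 (congrArg Subtype.val h))
  have h1 := hF.bijective_of_nat_card_le hc
  intro b hb
  obtain ⟨a, ha⟩ := h1.2 ⟨b, hb⟩
  exact ⟨a, a.2, congrArg Subtype.val ha⟩

/-- `A ∩ B = 1`, `A, B ≤ K` -/
theorem card_mul_le {A B K : Subgroup G} (hA : A ≤ K) (hB : B ≤ K) (hi : ∀ x ∈ A, x ∈ B → x = 1) :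
    Nat.card A * Nat.card B ≤ Nat.card K := by
  let F : A × B → K := fun x => ⟨x.1 * x.2, mul_mem (hA x.1.2) (hB x.2.2)⟩
  have hF : Function.Injective F := by
    rintro ⟨a, b⟩ ⟨a', b'⟩ hx
    have h1 : (a : G) * b = a' * b' := congrArg Subtype.val hx
    have h2 : (a' : G)⁻¹ * a = b' * (b : G)⁻¹ := by
      rw [inv_mul_eq_iff_eq_mul, ← mul_assoc, ← h1, mul_inv_cancel_right]
    have h3 : (a' : G)⁻¹ * a = 1 := hi _ (mul_mem (inv_mem a'.2) a.2) (h2 ▸ mul_mem b'.2 (inv_mem b.2))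
    have h4 : (b' : G) * (b : G)⁻¹ = 1 := by rw [← h2, h3]
    exact Prod.ext (Subtype.ext (inv_mul_eq_one.1 h3).symm) (Subtype.ext (mul_inv_eq_one.1 h4).symm)
  have h3 := Nat.card_le_card_of_injective F hF
  rwa [Nat.card_prod] at h3

theorem mul_of_card {A B K : Subgroup G} (hA : A ≤ K) (hB : B ≤ K) (hi : ∀ x ∈ A, x ∈ B → x = 1)
    (hc : Nat.card K ≤ Nat.card A * Nat.card B) : ∀ x ∈ K, ∃ a ∈ A, ∃ b ∈ B, x = a * b := by
  let F : A × B → K := fun x => ⟨x.1 * x.2, mul_mem (hA x.1.2) (hB x.2.2)⟩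
  have hF : Function.Injective F := by
    rintro ⟨a, b⟩ ⟨a', b'⟩ hx
    have h1 : (a : G) * b = a' * b' := congrArg Subtype.val hx
    have h2 : (a' : G)⁻¹ * a = b' * (b : G)⁻¹ := by
      rw [inv_mul_eq_iff_eq_mul, ← mul_assoc, ← h1, mul_inv_cancel_right]
    have h3 : (a' : G)⁻¹ * a = 1 := hi _ (mul_mem (inv_mem a'.2) a.2) (h2 ▸ mul_mem b'.2 (inv_mem b.2))
    have h4 : (b' : G) * (b : G)⁻¹ = 1 := by rw [← h2, h3]
    exact Prod.ext (Subtype.ext (inv_mul_eq_one.1 h3).symm) (Subtype.ext (mul_inv_eq_one.1 h4).symm)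
  have h1 := hF.bijective_of_nat_card_le (by rwa [Nat.card_prod])
  intro x hx
  obtain ⟨⟨a, b⟩, hab⟩ := h1.2 ⟨x, hx⟩
  exact ⟨a, a.2, b, b.2, (congrArg Subtype.val hab).symm⟩

/-- `|H| |B ∩ C| ≤ |B| |C|` if `H = B C` -/
theorem card_dec {H B C : Subgroup G} (hd : ∀ w ∈ H, ∃ b ∈ B, ∃ d ∈ C, w = b * d) :
    Nat.card H * Nat.card (B ⊓ C : Subgroup G) ≤ Nat.card B * Nat.card C := by
  have hd' : ∀ w : H, ∃ b : B, ∃ d : C, (w : G) = b * d := by
    intro w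
    obtain ⟨b, hb, d, hd, e⟩ := hd w w.2
    exact ⟨⟨b, hb⟩, ⟨d, hd⟩, e⟩
  choose b d hbd using hd'
  let F : H × (B ⊓ C : Subgroup G) → B × C := fun x =>
    (⟨b x.1 * x.2, mul_mem (b x.1).2 x.2.2.1⟩, ⟨(x.2 : G)⁻¹ * d x.1, mul_mem (inv_mem x.2.2.2) (d x.1).2⟩)
  have hF : Function.Injective F := by
    rintro ⟨w, x⟩ ⟨w', x'⟩ hx
    have h1 : (b w : G) * x = b w' * x' := congrArg Subtype.val (congrArg Prod.fst hx)
    have h2 : (x : G)⁻¹ * d w = (x' : G)⁻¹ * d w' := congrArg Subtype.val (congrArg Prod.snd hx)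
    have h3 : (w : G) = w' := by
      rw [hbd w, hbd w']
      calc (b w : G) * d w = b w * x * ((x : G)⁻¹ * d w) := by group
        _ = b w' * x' * ((x' : G)⁻¹ * d w') := by rw [h1, h2]
        _ = b w' * d w' := by group
    have h4 : w = w' := Subtype.ext h3
    subst h4
    have h5 : (x : G) = x' := mul_left_cancel h1
    rw [Subtype.ext h5]
  have h3 := Nat.card_le_card_of_injective F hF
  rwa [Nat.card_prod, Nat.card_prod] at h3

end Count

theorem comm_inj {y y' w : G} (h : y * w * y⁻¹ * w⁻¹ = y' * w * y'⁻¹ * w⁻¹) :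
    y⁻¹ * y' * w = w * (y⁻¹ * y') := by
  have h1 : y * w * y⁻¹ = y' * w * y'⁻¹ := mul_right_cancel h
  have h2 : y⁻¹ * (y * w * y⁻¹) * y' = y⁻¹ * (y' * w * y'⁻¹) * y' := by rw [h1]
  have e1 : y⁻¹ * (y * w * y⁻¹) * y' = w * (y⁻¹ * y') := by group
  have e2 : y⁻¹ * (y' * w * y'⁻¹) * y' = y⁻¹ * y' * w := by group
  rw [← e1, ← e2, h2]

/-- conjugation -/
theorem cj_of_cent {g : G} {H : Subgroup G} (h : ∀ x ∈ H, g * x = x * g) : cj g H = H := by
  rw [cj_eq_iff, mem_normalizer_iff]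
  intro x
  constructor
  · intro hx
    have hx' : x ∈ H := hx
    rw [h x hx', mul_inv_cancel_right]
    exact hx
  · intro hx
    have hx' : g * x * g⁻¹ ∈ H := hx
    have h1 := h _ hx'
    have h2 : g * x * g⁻¹ = x := by
      have h3 : g * (g * x * g⁻¹) = g * x := by rw [h1]; group
      exact mul_left_cancel h3
    rw [h2] at hx'
    exact hx'

/-! ### Pairs in a block -/

variable {V Z X Y R A B A' B' L : Subgroup G} {Blk : Subgroup G → Set (Subgroup G)} {m : ℕ}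

/-- `Mid`, (N) and (SL) -/
structure NT [Finite G] (S : Sylow 2 G) (P V Z : Subgroup G) (Blk : Subgroup G → Set (Subgroup G)) (m : ℕ) : Prop
    extends Mid S P V Z where
  typ : TypN V Z
  slb : SLB V Z Blk m

namespace NT

variable [Finite G] {S : Sylow 2 G} {P : Subgroup G} (h : NT S P V Z Blk m)
include h

theorem card_pt (hX : IsCj Z X) : Nat.card X = Nat.card Z := h.pl.card_pt hX

theorem card_ln (hL : IsCj V L) : Nat.card L = Nat.card Z * Nat.card Z := by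
  rw [h.card_line hL, h.pl.card]

theorem two_le : 2 ≤ Nat.card Z := h.pl.one_lt_card

/-- a point which is contained in a line and in a point -/
theorem not_le_of_ne (hX : IsCj Z X) (hY : IsCj Z Y) (hne : X ≠ Y) : ¬ X ≤ Y := by
  intro e
  obtain ⟨x, hx, hx1⟩ := h.pt_ne_bot hX
  exact hne (h.pts_eq hX hY hx (e hx) hx1)

/-- a point meets a line which does not contain it trivially -/
theorem line_inf (hX : IsCj Z X) (hL : IsCj V L) (hXL : ¬ X ≤ L) {x : G} (hx : x ∈ X) (hx' : x ∈ L) : x = 1 := by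
  by_contra hx1
  obtain ⟨T, hT, hTL, hxT⟩ := h.exists_point hL hx' hx1
  exact hXL ((h.pts_eq hX hT hx hxT hx1).symm ▸ hTL)

theorem bk_unique (hA : Adj V Z A R) {D : Subgroup G} (hD : D ∈ Blk R) (hAD : A ≤ D) : bk Blk R A = D := by
  refine le_antisymm (sSup_le ?_) (le_sSup ⟨hD, hAD⟩)
  rintro D' ⟨hD', hAD'⟩
  by_cases e : D' = D
  · rw [e]
  · exact absurd (fun x hx => h.slb.inf R hA.right D hD D' hD' e x (hAD hx) (hAD' hx))
      (h.not_le_of_ne hA.left hA.right hA.ne)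

theorem bk_mem' (hA : Adj V Z A R) : ∃ D ∈ Blk R, A ≤ D ∧ bk Blk R A = D := by
  obtain ⟨L, hL, hAL, hRL⟩ := hA.line
  obtain ⟨D, hD, hLD⟩ := h.slb.line R hA.right L hL hRL
  exact ⟨D, hD, hAL.trans hLD, h.bk_unique hA hD (hAL.trans hLD)⟩

theorem bk_mem (hA : Adj V Z A R) : bk Blk R A ∈ Blk R := by
  obtain ⟨D, hD, -, h1⟩ := h.bk_mem' hA
  rwa [h1]

theorem le_bk (hA : Adj V Z A R) : A ≤ bk Blk R A := by
  obtain ⟨D, hD, h1, h2⟩ := h.bk_mem' hA
  rwa [h2]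

theorem mid_le_bk (hA : Adj V Z A R) : R ≤ bk Blk R A := (h.slb.le R hA.right _ (h.bk_mem hA)).1

theorem bk_le (hA : Adj V Z A R) : bk Blk R A ≤ ws V R := (h.slb.le R hA.right _ (h.bk_mem hA)).2

theorem card_bk (hA : Adj V Z A R) : Nat.card (bk Blk R A) = Nat.card Z ^ (m + 1) :=
  h.slb.card R hA.right _ (h.bk_mem hA)

theorem bk_cj (hA : Adj V Z A R) (g : G) : bk Blk (cj g R) (cj g A) = cj g (bk Blk R A) :=
  h.bk_unique (hA.cj g) (h.slb.can g R hA.right _ (h.bk_mem hA)) (cj_le_cj.2 (h.le_bk hA))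

theorem bk_eq (hA : Adj V Z A R) (hB : Adj V Z B R) (hAB : B ≤ bk Blk R A) : bk Blk R B = bk Blk R A :=
  h.bk_unique hB (h.bk_mem hA) hAB

theorem line_le_bk (hA : Adj V Z A R) (hL : IsCj V L) (hRL : R ≤ L) (hAL : A ≤ L) : L ≤ bk Blk R A := by
  obtain ⟨D, hD, hLD⟩ := h.slb.line R hA.right L hL hRL
  rwa [h.bk_unique hA hD (hAL.trans hLD)]

/-- the block at `R` depends only on the line -/
theorem bk_line (hA : Adj V Z A R) (hB : Adj V Z B R) (hL : IsCj V L) (hRL : R ≤ L) (hAL : A ≤ L) (hBL : B ≤ L) :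
    bk Blk R B = bk Blk R A := h.bk_eq hA hB (hBL.trans (h.line_le_bk hA hL hRL hAL))

/-- **(S3)** -/
theorem exists_pt (hA : Adj V Z A R) {x : G} (hx : x ∈ bk Blk R A) (hxR : x ∉ R) :
    ∃ B, Adj V Z B R ∧ B ≤ bk Blk R A ∧ x ∈ B := by
  obtain ⟨L, hL, hRL, hxL⟩ := h.slb.all R hA.right _ (h.bk_mem hA) x hx hxR
  obtain ⟨B, hB, hBL, hxB⟩ := h.exists_point hL hxL (fun e => hxR (e ▸ one_mem _))
  have hBR : Adj V Z B R := ⟨hB, hA.right, fun e => hxR (e ▸ hxB), L, hL, hBL, hRL⟩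
  refine ⟨B, hBR, ?_, hxB⟩
  by_cases e : bk Blk R A = bk Blk R B
  · rw [e]; exact h.le_bk hBR
  · exact absurd (h.slb.inf R hA.right _ (h.bk_mem hBR) _ (h.bk_mem hA) e x (h.le_bk hBR hxB) hx) hxR

/-- `C_B(U_A)` is the line `RA` -/
theorem cent (hA : Adj V Z A R) (hL : IsCj V L) (hRL : R ≤ L) (hAL : A ≤ L) {b : G} (hb : b ∈ bk Blk R A)
    (hu : ∀ u ∈ UU V Z A, u * b = b * u) : b ∈ L :=
  h.slb.cent R A hA _ (h.bk_mem hA) (h.le_bk hA) L hL hRL hAL b hb hu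

/-- **the decomposition** `W_R = B D`, `D` centralised by all `U_C`, `C ≤ B` -/
theorem dec (hA : Adj V Z A R) {w : G} (hw : w ∈ ws V R) : ∃ b ∈ bk Blk R A, ∃ d ∈ ws V R, w = b * d ∧
    ∀ C, Adj V Z C R → C ≤ bk Blk R A → ∀ u ∈ UU V Z C, u * d = d * u := by
  have hR := hA.right
  let E : Subgroup G :=
    { carrier := {w | ∃ b ∈ bk Blk R A, ∃ d ∈ ws V R, w = b * d ∧
        ∀ C, Adj V Z C R → C ≤ bk Blk R A → ∀ u ∈ UU V Z C, u * d = d * u}
      one_mem' := ⟨1, one_mem _, 1, one_mem _, (mul_one 1).symm, fun C _ _ u _ => by simp⟩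
      mul_mem' := by
        rintro _ _ ⟨b, hb, d, hd, rfl, h1⟩ ⟨b', hb', d', hd', rfl, h2⟩
        refine ⟨b * b', mul_mem hb hb', d * d', mul_mem hd hd', ?_, fun C hC hCB u hu => ?_⟩
        · have e := h.ws_comm hR hd (h.bk_le hA hb')
          calc b * d * (b' * d') = b * (d * b') * d' := by group
            _ = b * (b' * d) * d' := by rw [e]
            _ = b * b' * (d * d') := by group
        · calc u * (d * d') = (u * d) * d' := by group
            _ = d * (u * d') := by rw [h1 C hC hCB u hu]; group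
            _ = d * d' * u := by rw [h2 C hC hCB u hu]; group
      inv_mem' := by
        rintro _ ⟨b, hb, d, hd, rfl, h1⟩
        refine ⟨b⁻¹, inv_mem hb, d⁻¹, inv_mem hd, ?_, fun C hC hCB u hu => ?_⟩
        · rw [h.ws_comm hR (h.bk_le hA hb) hd, mul_inv_rev]
        · exact (Commute.inv_right (h1 C hC hCB u hu : Commute u d)) }
  have hE : ws V R ≤ E := by
    refine ws_le fun L hL hRL x hx => ?_
    obtain ⟨D, hD, hLD⟩ := h.slb.line R hR L hL hRL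
    by_cases e : D = bk Blk R A
    · exact ⟨x, e ▸ hLD hx, 1, one_mem _, (mul_one x).symm, fun C _ _ u _ => by simp⟩
    · refine ⟨1, one_mem _, x, le_ws hL hRL hx, (one_mul x).symm, fun C hC hCB u hu => ?_⟩
      refine h.slb.other R C hC D hD (fun hCD => ?_) x (hLD hx) u hu
      exact e ((h.bk_unique hC hD hCD).symm.trans (h.bk_eq hA hC hCB))
  exact hE hw

end NT

namespace Sb

variable (hs : Sb V Z Blk R A B)
include hs

theorem ne' : A ≠ B := by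
  rintro rfl
  obtain ⟨L, hL, hAL, hRL⟩ := hs.l.line
  exact hs.ne L hL hRL hAL hAL

variable [Finite G] {S : Sylow 2 G} {P : Subgroup G} (h : NT S P V Z Blk m)
include h

theorem symm : Sb V Z Blk R B A where
  l := hs.r
  r := hs.l
  blk := by
    obtain ⟨D, hD, h1, h2⟩ := hs.blk
    exact ⟨D, hD, h2, h1⟩
  ne := fun L hL hRL hBL hAL => hs.ne L hL hRL hAL hBL

theorem bk_eq : bk Blk R B = bk Blk R A := by
  obtain ⟨D, hD, h1, h2⟩ := hs.blk
  rw [h.bk_unique hs.l hD h1, h.bk_unique hs.r hD h2]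

theorem le_bk : B ≤ bk Blk R A := by
  rw [← hs.bk_eq h]
  exact h.le_bk hs.r

theorem cj (g : G) : Sb V Z Blk (PT.cj g R) (PT.cj g A) (PT.cj g B) where
  l := hs.l.cj g
  r := hs.r.cj g
  blk := ⟨PT.cj g (bk Blk R A), h.slb.can g R hs.l.right _ (h.bk_mem hs.l), cj_le_cj.2 (h.le_bk hs.l),
    cj_le_cj.2 (hs.le_bk h)⟩
  ne := fun L hL hRL hAL hBL => hs.ne (PT.cj g⁻¹ L) (hL.cj g⁻¹) (by rwa [le_cj_iff, inv_inv])
    (by rwa [le_cj_iff, inv_inv]) (by rwa [le_cj_iff, inv_inv])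

end Sb

namespace NT

variable [Finite G] {S : Sylow 2 G} {P : Subgroup G} (h : NT S P V Z Blk m)
include h

theorem sb_mk (hA : Adj V Z A R) (hB : Adj V Z B R) (hAB : B ≤ bk Blk R A)
    (hne : ∀ L, IsCj V L → R ≤ L → A ≤ L → ¬ B ≤ L) : Sb V Z Blk R A B :=
  ⟨hA, hB, ⟨bk Blk R A, h.bk_mem hA, h.le_bk hA, hAB⟩, hne⟩

/-- the same with a given line -/
theorem sb_mk' (hA : Adj V Z A R) (hB : Adj V Z B R) (hAB : B ≤ bk Blk R A) (hL : IsCj V L) (hRL : R ≤ L)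
    (hAL : A ≤ L) (hne : ¬ B ≤ L) : Sb V Z Blk R A B :=
  h.sb_mk hA hB hAB fun M hM hRM hAM => by
    rwa [h.line_unique hA.right hA.left hA.ne.symm hM hL hRM hAM hRL hAL]

/-- `B ∩ C(U_A) = 1` -/
theorem sb_mv (hs : Sb V Z Blk R A B) {b : G} (hb : b ∈ B) (hu : ∀ u ∈ UU V Z A, u * b = b * u) : b = 1 := by
  obtain ⟨L, hL, hAL, hRL⟩ := hs.l.line
  exact h.line_inf hs.r.left hL (hs.ne L hL hRL hAL) hb (h.cent hs.l hL hRL hAL (hs.le_bk h hb) hu)

/-- the points of `R`, `A`, `B`, in one block on different lines, can be moved -/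
theorem sb_move {R' : Subgroup G} (hs : Sb V Z Blk R A B) (hs' : Sb V Z Blk R' A' B') :
    ∃ g : G, cj g R = R' ∧ cj g A = A' ∧ cj g B = B' := by
  obtain ⟨x, hx⟩ := hs.l.right
  obtain ⟨y, hy⟩ := hs'.l.right
  have h1 : cj (y * x⁻¹) R = R' := by rw [hx, hy, cj_cj, inv_mul_cancel_right]
  have h2 := hs.cj h (y * x⁻¹)
  rw [h1] at h2
  obtain ⟨g, hg1, hg2, hg3⟩ := h.slb.two R' _ _ _ _ h2 hs'
  exact ⟨g * (y * x⁻¹), by rw [← cj_cj, h1, hg1], by rw [← cj_cj, hg2], by rw [← cj_cj, hg3]⟩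

end NT

end Cfsg.Agent.Omega.NO3S.MidQ
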