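import Cfsg.Agent.Omega.NO3S.MidQ.NTwoA1
import Cfsg.Agent.Omega.NO3S.MidQ.NTwoA2

/-!
# NO-3S, natural lines, critical distance 2, TYPE N, blocks `SL_m`, `m ≥ 3`: THEOREM N2 (TEXT 426-2, bb OMEGA #16785)

* `NT.not_two_blocks` : the number of blocks is not 2 (it is odd);
* `Mid.no_SLB`, `TN.no_SLB` : **THEOREM N2**.
-/

set_option autoImplicit false
set_option linter.unusedSectionVars false

namespace Cfsg.Agent.Omega.NO3S.MidQ

open Subgroup Cfsg.Agent.Omega.NO3S.PT Cfsg.Agent.Omega.NoFF.Basic Cfsg.Agent.ZN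
open scoped Pointwise

variable {G : Type*} [Group G] {V Z X Y L : Subgroup G} {Blk : Subgroup G → Set (Subgroup G)} {m : ℕ}

/-- `|A| |B| ≤ |K| |A ∩ B|` -/
theorem card_mul_le' [Finite G] {A B K : Subgroup G} (hA : A ≤ K) (hB : B ≤ K) :
    Nat.card A * Nat.card B ≤ Nat.card K * Nat.card (A ⊓ B : Subgroup G) := by
  classical
  have hr : ∀ k : K, ∃ a : A, (∃ x : A, (x : G)⁻¹ * k ∈ B) → (a : G)⁻¹ * k ∈ B := by
    intro k
    by_cases hk : ∃ x : A, (x : G)⁻¹ * k ∈ B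
    · obtain ⟨x, hx⟩ := hk
      exact ⟨x, fun _ => hx⟩
    · exact ⟨1, fun h => absurd h hk⟩
  choose r hr using hr
  have hr' : ∀ x : A × B, ((r ⟨x.1 * x.2, K.mul_mem (hA x.1.2) (hB x.2.2)⟩ : A) : G)⁻¹ * (x.1 * x.2) ∈ B := fun x =>
    hr ⟨x.1 * x.2, K.mul_mem (hA x.1.2) (hB x.2.2)⟩ ⟨x.1, by
      show (x.1 : G)⁻¹ * (x.1 * x.2) ∈ B
      rw [inv_mul_cancel_left]; exact x.2.2⟩
  let F : A × B → K × (A ⊓ B : Subgroup G) := fun x =>
    (⟨x.1 * x.2, K.mul_mem (hA x.1.2) (hB x.2.2)⟩,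
      ⟨((r ⟨x.1 * x.2, K.mul_mem (hA x.1.2) (hB x.2.2)⟩ : A) : G)⁻¹ * x.1,
        A.mul_mem (A.inv_mem (r _).2) x.1.2, by
          have h1 := B.mul_mem (hr' x) (B.inv_mem x.2.2)
          have e : ((r ⟨x.1 * x.2, K.mul_mem (hA x.1.2) (hB x.2.2)⟩ : A) : G)⁻¹ * (x.1 * x.2) * (x.2 : G)⁻¹ =
            ((r ⟨x.1 * x.2, K.mul_mem (hA x.1.2) (hB x.2.2)⟩ : A) : G)⁻¹ * x.1 := by group
          rwa [e] at h1⟩)
  have hF : Function.Injective F := by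
    rintro x y hxy
    have h1 : (⟨x.1 * x.2, K.mul_mem (hA x.1.2) (hB x.2.2)⟩ : K) = ⟨y.1 * y.2, K.mul_mem (hA y.1.2) (hB y.2.2)⟩ :=
      congrArg Prod.fst hxy
    have h2 : ((r ⟨x.1 * x.2, K.mul_mem (hA x.1.2) (hB x.2.2)⟩ : A) : G)⁻¹ * x.1 =
        ((r ⟨y.1 * y.2, K.mul_mem (hA y.1.2) (hB y.2.2)⟩ : A) : G)⁻¹ * y.1 :=
      congrArg Subtype.val (congrArg Prod.snd hxy)
    rw [h1] at h2
    have h3 : (x.1 : G) = y.1 := mul_left_cancel h2
    have h4 : (x.1 : G) * x.2 = y.1 * y.2 := congrArg Subtype.val h1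
    rw [h3] at h4
    exact Prod.ext (Subtype.ext h3) (Subtype.ext (mul_left_cancel h4))
  have h3 := Nat.card_le_card_of_injective F hF
  rwa [Nat.card_prod, Nat.card_prod] at h3

namespace NT

variable [Finite G] {S : Sylow 2 G} {P : Subgroup G} (h : NT S P V Z Blk m)
include h

theorem exists_adj_blk (hX : IsCj Z X) {D : Subgroup G} (hD : D ∈ Blk X) : ∃ A, Adj V Z A X ∧ bk Blk X A = D := by
  have h1 : ∃ y ∈ D, y ∉ X := by
    by_contra hcon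
    push Not at hcon
    have h2 : Nat.card D ≤ Nat.card X := Subgroup.card_le_of_le hcon
    rw [h.slb.card X hX D hD, h.card_pt hX] at h2
    nth_rewrite 2 [← pow_one (Nat.card Z)] at h2
    have h3 := (Nat.pow_le_pow_iff_right (h.two_le)).1 h2
    have h4 := h.slb.three
    omega
  obtain ⟨y, hy, hyX⟩ := h1
  obtain ⟨M, hM, hXM, hyM⟩ := h.slb.all X hX D hD y hy hyX
  obtain ⟨A, hA, hAM, hyA⟩ := h.exists_point hM hyM (fun e => hyX (e ▸ one_mem _))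
  have hAX : Adj V Z A X := ⟨hA, hX, fun e => hyX (e ▸ hyA), M, hM, hAM, hXM⟩
  refine ⟨A, hAX, ?_⟩
  by_contra hne
  exact hyX (h.slb.inf X hX D hD _ (h.bk_mem hAX) hne y hy (h.le_bk hAX hyA))

/-- an element of a block centralised by all `U_C`, `C` in the block, is in `X` -/
theorem blk_cent (hX : IsCj Z X) {D : Subgroup G} (hD : D ∈ Blk X) {x : G} (hx : x ∈ D)
    (hc : ∀ C, Adj V Z C X → C ≤ D → ∀ u ∈ UU V Z C, u * x = x * u) : x ∈ X := by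
  obtain ⟨A, hA, rfl⟩ := h.exists_adj_blk hX hD
  obtain ⟨B, hs⟩ := h.exists_sb hA
  obtain ⟨L, hL, hAL, hXL⟩ := hA.line
  obtain ⟨M, hM, hBM, hXM⟩ := hs.r.line
  have h1 := h.cent hA hL hXL hAL hx (hc A hA (h.le_bk hA))
  have h2 := h.cent hs.r hM hXM hBM (by rw [hs.bk_eq h]; exact hx) (hc B hs.r (hs.le_bk h))
  by_contra hxX
  have hx1 : x ≠ 1 := fun e => hxX (e ▸ one_mem _)
  obtain ⟨T, hT, hTL, hxT⟩ := h.exists_point hL h1 hx1
  obtain ⟨T', hT', hTM, hxT'⟩ := h.exists_point hM h2 hx1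
  have e := h.pts_eq hT hT' hxT hxT' hx1
  have hTX : X ≠ T := fun e => hxX (e ▸ hxT)
  have e2 := h.line_unique hX hT hTX hL hM hXL hTL hXM (e ▸ hTM)
  exact hs.ne L hL hXL hAL (e2 ▸ hBM)

/-- the number of blocks is not 2 -/
theorem not_two_blocks {D0 D1 : Subgroup G} (h0 : D0 ∈ Blk Z) (h1 : D1 ∈ Blk Z) (hV : V ≤ D0) (hne : D1 ≠ D0)
    (hall : ∀ D ∈ Blk Z, D = D0 ∨ D = D1) : False := by
  have hZ := h.pl.isCj_self
  have hVV : IsCj V V := ⟨1, (cj_one V).symm⟩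
  have hZV := h.pl.ZV
  obtain ⟨A0, hA0, hA0V, hA0Z⟩ := h.exists_second hZ hVV hZV
  have hA : Adj V Z A0 Z := ⟨hA0, hZ, hA0Z, V, hVV, hA0V, hZV⟩
  obtain ⟨A1, hA1, hA1D⟩ := h.exists_adj_blk hZ h1
  obtain ⟨M, hM, hA1M, hZM⟩ := hA1.line
  obtain ⟨a, ha1, ha2⟩ := h.exists_conj₂ hZ hVV hZV hZ hM hZM
  have hMD : M ≤ D1 := by rw [← hA1D]; exact h.line_le_bk hA1 hM hZM hA1M
  -- blocks are permuted
  have hperm : ∀ g, cj g Z = Z → ∀ D ∈ Blk Z, cj g D ∈ Blk Z := by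
    intro g hg D hD
    have := h.slb.can g Z hZ D hD
    rwa [hg] at this
  have haD : cj a D0 = D1 := by
    have h2 := hperm a ha1.symm D0 h0
    have h3 : A1 ≤ cj a D0 := by
      refine hA1M.trans ?_
      rw [ha2]
      exact cj_le_cj.2 hV
    rw [← h.bk_unique hA1 h2 h3, hA1D]
  set H := normalizer (Z : Set G) with hH
  set K := H ⊓ normalizer (D0 : Set G) with hK
  have hmem : ∀ b ∈ H, b ∈ K ↔ cj b D0 = D0 := fun b hb => by
    rw [hK, mem_inf, cj_eq_iff]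
    exact ⟨fun e => e.2, fun e => ⟨hb, e⟩⟩
  have haH : a ∈ H := cj_eq_iff.1 ha1.symm
  have hSK : (S : Subgroup G) ≤ K := by
    intro s hs
    have hsZ := h.pl.S_le_N hs
    rw [hmem s hsZ]
    have h2 := hperm s (cj_eq_iff.2 hsZ) D0 h0
    have h3 : A0 ≤ cj s D0 := by
      have e : cj s V = V := cj_eq_iff.2 (h.pl.PN (h.pl.SP hs))
      calc A0 ≤ V := hA0V
        _ = cj s V := e.symm
        _ ≤ cj s D0 := cj_le_cj.2 hV
    rw [← h.bk_unique hA h2 h3, h.bk_unique hA h0 (hA0V.trans hV)]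
  have hidx : (K.subgroupOf H).index = 2 := by
    rw [Subgroup.index_eq_two_iff]
    refine ⟨⟨a, haH⟩, fun b => ?_⟩
    have hb := b.2
    have hbZ := cj_eq_iff.2 hb
    rw [mem_subgroupOf, mem_subgroupOf]
    have e1 : ((b * ⟨a, haH⟩ : H) : G) = (b : G) * a := rfl
    rw [e1, hmem _ (mul_mem hb haH), hmem _ hb, ← cj_cj, haD]
    rcases hall _ (hperm b hbZ D0 h0) with e | e
    · refine Or.inr ⟨e, fun e2 => hne ?_⟩
      rw [← e] at e2
      rw [e] at e2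
      have h3 : cj (b : G) D1 = cj (b : G) D0 := by rw [e2, e]
      exact cj_inj.1 h3
    · refine Or.inl ⟨?_, fun e2 => hne (e.symm.trans e2)⟩
      rcases hall _ (hperm b hbZ D1 h1) with e2 | e2
      · exact e2
      · exact absurd (cj_inj.1 (e2.trans e.symm)) hne
  have h2 : K.relIndex H * H.index = K.index := relIndex_mul_index inf_le_left
  have h3 : K.relIndex H = 2 := hidx
  have h4 : 2 ∣ K.index := ⟨H.index, by rw [← h2, h3]⟩
  exact S.not_dvd_index (h4.trans (index_dvd_of_le hSK))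

variable (h2 : ATwo V Z Blk)
include h2

/-- **(A2) is impossible** -/
theorem not_ATwo (hex : ∃ A R B, Cr V Z A R B) : False := by
  obtain ⟨A, R, B, hc⟩ := hex
  -- at least two blocks at `Z`
  have hZ := h.pl.isCj_self
  have hVV : IsCj V V := ⟨1, (cj_one V).symm⟩
  have hne : bk Blk R A ≠ bk Blk R B := by
    intro e
    by_cases hl : ∃ L, IsCj V L ∧ R ≤ L ∧ A ≤ L ∧ B ≤ L
    · obtain ⟨L, hL, hRL, hAL, hBL⟩ := hl
      exact h.cr_not_adj hc ⟨hc.l.left, hc.r.right, h.cr_ne hc, L, hL, hAL, hBL⟩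
    · push Not at hl
      refine hc.ne (h2 R A B (h.sb_mk hc.l hc.r.symm ?_ fun L hL hRL hAL => hl L hL hRL hAL))
      rw [e]
      exact h.le_bk hc.r.symm
  obtain ⟨g, hg⟩ := hc.l.right
  have hgR : cj g⁻¹ R = Z := by rw [hg, cj_cj, inv_mul_cancel, cj_one]
  obtain ⟨A0, hA0, hA0V, hA0Z⟩ := h.exists_second hZ hVV h.pl.ZV
  have hA : Adj V Z A0 Z := ⟨hA0, hZ, hA0Z, V, hVV, hA0V, h.pl.ZV⟩
  set D0 := bk Blk Z A0 with hD0
  have h0 : D0 ∈ Blk Z := h.bk_mem hA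
  have hV0 : V ≤ D0 := h.line_le_bk hA hVV h.pl.ZV hA0V
  have hDA : cj g⁻¹ (bk Blk R A) ∈ Blk Z := by
    have := h.slb.can g⁻¹ R hc.l.right _ (h.bk_mem hc.l)
    rwa [hgR] at this
  have hDB : cj g⁻¹ (bk Blk R B) ∈ Blk Z := by
    have := h.slb.can g⁻¹ R hc.l.right _ (h.bk_mem hc.r.symm)
    rwa [hgR] at this
  have hD1 : ∃ D1 ∈ Blk Z, D1 ≠ D0 := by
    by_cases e : cj g⁻¹ (bk Blk R A) = D0
    · exact ⟨_, hDB, fun e2 => hne (cj_inj.1 (e.trans e2.symm))⟩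
    · exact ⟨_, hDA, e⟩
  obtain ⟨D1, h1, h10⟩ := hD1
  obtain ⟨D2, hD2, h20, h21⟩ : ∃ D ∈ Blk Z, D ≠ D0 ∧ D ≠ D1 := by
    by_contra hcon
    push Not at hcon
    refine h.not_two_blocks h0 h1 hV0 h10 fun D hD => ?_
    by_cases e : D = D0
    · exact Or.inl e
    · exact Or.inr (hcon D hD e)
  -- counting
  have hW0 := (h.slb.le Z hZ D0 h0).2
  have hW1 := (h.slb.le Z hZ D1 h1).2
  have hW2 := (h.slb.le Z hZ D2 hD2).2
  have c1 := card_mul_le' (A := D0) (B := D1) (K := D0 ⊔ D1) le_sup_left le_sup_right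
  have c2 : Nat.card (D0 ⊓ D1 : Subgroup G) ≤ Nat.card Z := Subgroup.card_le_of_le fun x hx =>
    h.slb.inf Z hZ D0 h0 D1 h1 h10 x hx.1 hx.2
  have c3 := card_mul_le' (A := D0 ⊔ D1) (B := D2) (K := ws V Z) (sup_le hW0 hW1) hW2
  have c4 : Nat.card ((D0 ⊔ D1) ⊓ D2 : Subgroup G) ≤ Nat.card Z := by
    refine Subgroup.card_le_of_le ?_
    rintro x ⟨hx, hx2⟩
    refine h.blk_cent hZ hD2 hx2 fun C hC hCD u hu => ?_
    have h5 : D0 ⊔ D1 ≤ centralizer ({u} : Set G) := by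
      have hno : ∀ D ∈ Blk Z, D2 ≠ D → ¬ C ≤ D := by
        intro D hD hne2 hCD'
        exact hne2 ((h.bk_unique hC hD2 hCD).symm.trans (h.bk_unique hC hD hCD'))
      refine sup_le (fun b hb => mem_cs.2 ?_) (fun b hb => mem_cs.2 ?_)
      · exact (h.slb.other Z C hC D0 h0 (hno D0 h0 h20) b hb u hu).symm
      · exact (h.slb.other Z C hC D1 h1 (hno D1 h1 h21) b hb u hu).symm
    exact (mem_cs.1 (h5 hx)).symm
  have c5 := h.card_ws_le h2 hZ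
  rw [h.slb.card Z hZ D0 h0, h.slb.card Z hZ D1 h1] at c1
  rw [h.slb.card Z hZ D2 hD2] at c3
  set s := Nat.card Z with hs
  have c6 : s ^ (m + 1) * s ^ (m + 1) * s ^ (m + 1) ≤ s ^ (2 * m + 3) := by
    calc s ^ (m + 1) * s ^ (m + 1) * s ^ (m + 1)
        ≤ Nat.card (D0 ⊔ D1 : Subgroup G) * s * s ^ (m + 1) :=
          Nat.mul_le_mul_right _ (c1.trans (Nat.mul_le_mul_left _ c2))
      _ = s * (Nat.card (D0 ⊔ D1 : Subgroup G) * s ^ (m + 1)) := by ring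
      _ ≤ s * (s ^ (2 * m + 1) * s) :=
          Nat.mul_le_mul_left _ (c3.trans (Nat.mul_le_mul c5 c4))
      _ = s ^ (2 * m + 3) := by ring
  have c7 : s ^ (3 * m + 3) ≤ s ^ (2 * m + 3) := by
    calc s ^ (3 * m + 3) = s ^ (m + 1) * s ^ (m + 1) * s ^ (m + 1) := by ring
      _ ≤ _ := c6
  have c8 := (Nat.pow_le_pow_iff_right (h.two_le)).1 c7
  have c9 := h.slb.three
  omega

end NT

/-- **THEOREM N2** -/
theorem Mid.no_SLB [Finite G] {S : Sylow 2 G} {P : Subgroup G} (h : Mid S P V Z) (hN : TypN V Z)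
    (hex : ∃ A R B, Cr V Z A R B) (hB : SLB V Z Blk m) : False := by
  have hn : NT S P V Z Blk m := ⟨h, hN, hB⟩
  by_cases h2 : ATwo V Z Blk
  · exact hn.not_ATwo h2 hex
  · have h3 : ∃ R A B, Sb V Z Blk R A B ∧ ¬ Com V A B := by
      by_contra hcon
      push Not at hcon
      exact h2 hcon
    obtain ⟨R, A, B, hs, hc⟩ := h3
    refine hn.not_AOne fun R' A' B' hs' hc' => hc ?_
    obtain ⟨g, hg0, hg1, hg2⟩ := hn.sb_move hs' hs
    have h4 := hc'.cj g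
    rwa [hg1, hg2] at h4

/-- **THEOREM N2** -/
theorem TN.no_SLB [Finite G] {S : Sylow 2 G} {P : Subgroup G} (h : TN S P V Z) (hB : SLB V Z Blk m) : False :=
  h.toMid.no_SLB h.comm h.ex hB

end Cfsg.Agent.Omega.NO3S.MidQ
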