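import Cfsg.Agent.Omega.NO3S.MidQ.LemF

/-!
# NO-3S, natural lines, critical distance 2, TYPE N: the hypotheses (TEXT 426-2, bb OMEGA)

* `TN S P V Z` : `Mid` and **(N)** `[W_A, W_B] ≤ R` for every critical pair `(A, B)` with middle `R`;
  **(H3)** `C_{W_R}(⟨U_A : A ~ R⟩) = R`; there is a critical pair;
* `TN.H2` : `|W_R : C_{W_R}(U_A)| = |Z|` for `A ~ R`;
* `Jo V Z R A B` : `A`, `B ~ R` are joined at `R` : `U_A` does not centralise `B`.

THEOREM N1 : `TN S P V Z → H2 V Z → False`.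
-/

set_option autoImplicit false
set_option linter.unusedSectionVars false

namespace Cfsg.Agent.Omega.NO3S.MidQ

open Subgroup Cfsg.Agent.Omega.NO3S.PT Cfsg.Agent.Omega.NoFF.Basic Cfsg.Agent.ZN
open scoped Pointwise

variable {G : Type*} [Group G]

/-- **TYPE N** -/
structure TN [Finite G] (S : Sylow 2 G) (P V Z : Subgroup G) : Prop extends Mid S P V Z where
  comm : ∀ A R B, Cr V Z A R B → ∀ a ∈ ws V A, ∀ b ∈ ws V B, a * b * a⁻¹ * b⁻¹ ∈ R
  cen : ∀ R, IsCj Z R → ∀ w ∈ ws V R, (∀ A, Adj V Z A R → ∀ u ∈ UU V Z A, u * w = w * u) → w ∈ R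
  ex : ∃ A R B, Cr V Z A R B

/-- (H2) -/
def H2 (V Z : Subgroup G) : Prop :=
  ∀ R A, Adj V Z A R → (centralizer ((UU V Z A : Subgroup G) : Set G)).relIndex (ws V R) = Nat.card Z

/-- `C_{W_R}(U_A)` -/
def cw (V Z R A : Subgroup G) : Subgroup G := ws V R ⊓ centralizer ((UU V Z A : Subgroup G) : Set G)

/-- `A`, `B ~ R` are joined at `R` -/
structure Jo (V Z R A B : Subgroup G) : Prop where
  l : Adj V Z A R
  r : Adj V Z B R
  mv : ¬ B ≤ centralizer ((UU V Z A : Subgroup G) : Set G)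

end Cfsg.Agent.Omega.NO3S.MidQ
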