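import Cfsg.Agent.Omega.NO3S.MidQ.TypeN
import Cfsg.Agent.Omega.NO3S.MidQ.TNDef

/-!
# NO-3S, natural lines, critical distance 2, TYPE N, blocks `SL_m`, `m ≥ 3`: the hypotheses (TEXT 426-2, THEOREM N2)

* `Sb V Z Blk R A B` : `A`, `B ~ R` are in one block at `R`, on different lines;
* `SLB V Z Blk m` : the hypotheses (SL): `Blk X` the set of blocks at `X`;
* `bk Blk R A` : the block at `R` which contains `A`.

THEOREM N2 : `TN S P V Z → SLB V Z Blk m → False`.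
-/

set_option autoImplicit false
set_option linter.unusedSectionVars false

namespace Cfsg.Agent.Omega.NO3S.MidQ

open Subgroup Cfsg.Agent.Omega.NO3S.PT Cfsg.Agent.Omega.NoFF.Basic Cfsg.Agent.ZN
open scoped Pointwise

variable {G : Type*} [Group G]

/-- `A`, `B ~ R` are in one block at `R`, on different lines -/
structure Sb (V Z : Subgroup G) (Blk : Subgroup G → Set (Subgroup G)) (R A B : Subgroup G) : Prop where
  l : Adj V Z A R
  r : Adj V Z B R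
  blk : ∃ D ∈ Blk R, A ≤ D ∧ B ≤ D
  ne : ∀ L, IsCj V L → R ≤ L → A ≤ L → ¬ B ≤ L

/-- **(SL)**: the hypotheses of THEOREM N2 about the blocks -/
structure SLB (V Z : Subgroup G) (Blk : Subgroup G → Set (Subgroup G)) (m : ℕ) : Prop where
  three : 3 ≤ m
  can : ∀ (g : G) (X : Subgroup G), IsCj Z X → ∀ B ∈ Blk X, cj g B ∈ Blk (cj g X)
  le : ∀ X, IsCj Z X → ∀ B ∈ Blk X, X ≤ B ∧ B ≤ ws V X
  line : ∀ X, IsCj Z X → ∀ L, IsCj V L → X ≤ L → ∃ B ∈ Blk X, L ≤ B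
  inf : ∀ X, IsCj Z X → ∀ B ∈ Blk X, ∀ B' ∈ Blk X, B' ≠ B → ∀ b ∈ B, b ∈ B' → b ∈ X
  all : ∀ X, IsCj Z X → ∀ B ∈ Blk X, ∀ b ∈ B, b ∉ X → ∃ L, IsCj V L ∧ X ≤ L ∧ b ∈ L
  card : ∀ X, IsCj Z X → ∀ B ∈ Blk X, Nat.card B = Nat.card Z ^ (m + 1)
  /-- `U_A` centralises the blocks at `R` which do not contain `A` -/
  other : ∀ R A, Adj V Z A R → ∀ B ∈ Blk R, ¬ A ≤ B → ∀ b ∈ B, ∀ u ∈ UU V Z A, u * b = b * u
  /-- `C_B(U_A)` is the line `RA` for the block `B` which contains `A` -/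
  cent : ∀ R A, Adj V Z A R → ∀ B ∈ Blk R, A ≤ B → ∀ L, IsCj V L → R ≤ L → A ≤ L →
    ∀ b ∈ B, (∀ u ∈ UU V Z A, u * b = b * u) → b ∈ L
  /-- `N_G(R)` is transitive on the pairs of points `A`, `B ~ R` in one block, on different lines -/
  two : ∀ R A B A' B', Sb V Z Blk R A B → Sb V Z Blk R A' B' → ∃ g : G, cj g R = R ∧ cj g A = A' ∧ cj g B = B'

/-- the block at `R` which contains `A` -/
def bk (Blk : Subgroup G → Set (Subgroup G)) (R A : Subgroup G) : Subgroup G := sSup {B | B ∈ Blk R ∧ A ≤ B}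

end Cfsg.Agent.Omega.NO3S.MidQ
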