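import Cfsg.Agent.Omega.NO3S.MidQ.TNDef

/-!
# TYPE N: the first facts about `cw`, `Jo` (TEXT 426-2)

* `cw_cj`, `Jo.cj` : equivariance; `Mid.cw_line` : `C_{W_R}(U_A)` depends only on the line `RA`;
* `Mid.t3` : a 2-element centralising one element of `X#` centralises `X`;
* `TNG` : **the output of (a) - (g)** (input of (h) - (k)), `zu V Z R = Z(U_R)`;
* `Mid.inf_cw` : `B ∩ C_{W_R}(U_A) = 1` if `Jo V Z R A B`;
* `Mid.line_le_cw` : lines on `R` and `A` are in `C_{W_R}(U_A)`; `Jo.line` : `Jo` depends only on the lines.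
-/

set_option autoImplicit false
set_option linter.unusedSectionVars false

namespace Cfsg.Agent.Omega.NO3S.MidQ

open Subgroup Cfsg.Agent.Omega.NO3S.PT Cfsg.Agent.Omega.NoFF.Basic Cfsg.Agent.ZN
open scoped Pointwise

variable {G : Type*} [Group G] {V Z X Y R L A A' B B' : Subgroup G}

theorem mem_cw {x : G} : x ∈ cw V Z R A ↔ x ∈ ws V R ∧ ∀ u ∈ UU V Z A, u * x = x * u := by
  rw [cw, mem_inf, mem_centralizer_iff]
  rfl

theorem cw_le : cw V Z R A ≤ ws V R := inf_le_left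

theorem cw_cj (V Z R A : Subgroup G) (g : G) : cw V Z (cj g R) (cj g A) = cj g (cw V Z R A) := by
  rw [cw, cw, ws_cj, UU_cj, cj_inf, ← cj_centralizer]

theorem Jo.cj (h : Jo V Z R A B) (g : G) : Jo V Z (cj g R) (cj g A) (cj g B) where
  l := h.l.cj g
  r := h.r.cj g
  mv := by
    rw [UU_cj, ← cj_centralizer, cj_le_cj]
    exact h.mv

theorem jo_cj {g : G} : Jo V Z (cj g R) (cj g A) (cj g B) ↔ Jo V Z R A B := by
  refine ⟨fun h => ?_, fun h => h.cj g⟩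
  have := h.cj g⁻¹
  rwa [cj_cj, cj_cj, cj_cj, inv_mul_cancel, cj_one, cj_one, cj_one] at this

namespace Mid

variable [Finite G] {S : Sylow 2 G} {P : Subgroup G} (h : Mid S P V Z)
include h

/-- (T3) -/
theorem t3 (hX : IsCj Z X) {b x : G} (hb : TwoEl b) (hx : x ∈ X) (hx1 : x ≠ 1) (hbx : b * x = x * b) :
    ∀ y ∈ X, b * y = y * b := h.pl.two_comm' hX hb hx hx1 hbx

theorem twoEl_UU {u : G} (hu : u ∈ UU V Z R) : TwoEl u := twoEl_of_isPGroup (h.isPGroup_UU R) hu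

theorem twoEl_ws (hX : IsCj Z X) {u : G} (hu : u ∈ ws V X) : TwoEl u := twoEl_of_isPGroup (h.isPGroup_ws hX) hu

/-- (T3), normaliser form -/
theorem t3n (hX : IsCj Z X) {b : G} (hb : TwoEl b) (hbX : PT.cj b X = X) : ∀ y ∈ X, b * y = y * b := by
  obtain ⟨g, rfl⟩ := hX
  exact (h.pl.conj g).two_cent hb (cj_eq_iff.1 hbX)

theorem R_le_cw (hA : Adj V Z A R) : R ≤ cw V Z R A := by
  intro x hx
  rw [mem_cw]
  refine ⟨h.pt_le_ws hA.right hx, fun u hu => ?_⟩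
  exact (mem_centralizer_iff.1 (h.UU_le_cent_adj hA.symm hu) x hx).symm

/-- `C_{W_R}(U_A)` depends only on the line `RA` -/
theorem cw_line (hA : Adj V Z A R) (hA' : Adj V Z A' R) (hL : IsCj V L) (hRL : R ≤ L) (hAL : A ≤ L)
    (hAL' : A' ≤ L) : cw V Z R A = cw V Z R A' := by
  obtain ⟨k, hk, rfl⟩ := h.K_trans hA.right hL hRL hA.left hAL hA'.left hAL' hA.ne hA'.ne
  have hkR : PT.cj k R = R := cj_eq_iff.2 (kx_normalizes le_rfl (h.pt_le_ws hA.right) hk)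
  have h1 := cw_cj V Z R A k
  rw [hkR] at h1
  rw [h1]
  exact (cj_eq_iff.2 (kx_normalizes (h.R_le_cw hA) cw_le hk)).symm

/-- `V_{RA} ≤ C_{W_R}(U_A)` -/
theorem line_le_cw (hL : IsCj V L) (hRL : R ≤ L) (hAL : A ≤ L) : L ≤ cw V Z R A := by
  intro x hx
  rw [mem_cw]
  refine ⟨le_ws hL hRL hx, fun u hu => ?_⟩
  exact (mem_centralizer_iff.1 (h.UU_le_centralizer A hu) x (le_ws hL hAL hx)).symm

theorem jo_iff (hA : Adj V Z A R) (hB : Adj V Z B R) : Jo V Z R A B ↔ ¬ B ≤ cw V Z R A := by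
  constructor
  · rintro ⟨-, -, h3⟩ h4
    exact h3 (h4.trans inf_le_right)
  · intro h3
    exact ⟨hA, hB, fun h4 => h3 (le_inf (h.adj_le_ws hB.symm) h4)⟩

/-- `Jo` depends only on the lines -/
theorem jo_line_left (hj : Jo V Z R A B) (hA' : Adj V Z A' R) (hL : IsCj V L) (hRL : R ≤ L) (hAL : A ≤ L)
    (hAL' : A' ≤ L) : Jo V Z R A' B := by
  rw [h.jo_iff hA' hj.r, ← h.cw_line hj.l hA' hL hRL hAL hAL', ← h.jo_iff hj.l hj.r]
  exact hj

/-- a line through `R` is in `U_A`-centralised part as soon as one of its points `≠ R` is -/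
theorem line_le_of_pt (hA : Adj V Z A R) (hB : Adj V Z B R) (hL : IsCj V L) (hRL : R ≤ L) (hBL : B ≤ L)
    (hBC : B ≤ cw V Z R A) : L ≤ cw V Z R A := by
  obtain ⟨T, Q, h'⟩ := h.flag hB.right hL hRL
  intro v hv
  have h1 : v ∈ L := hv
  obtain ⟨x, hx, y, hy, rfl⟩ := h'.pl.exists_mul h'.pl.isCj_self hRL ((isCj_iff hB.right).2 hB.left) hBL
    hB.ne.symm h1
  exact mul_mem (h.R_le_cw hA hx) (hBC hy)

theorem jo_line_right (hj : Jo V Z R A B) (hB' : Adj V Z B' R) (hL : IsCj V L) (hRL : R ≤ L) (hBL : B ≤ L)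
    (hBL' : B' ≤ L) : Jo V Z R A B' := by
  rw [h.jo_iff hj.l hB']
  intro h1
  exact (h.jo_iff hj.l hj.r).1 hj (hBL.trans (h.line_le_of_pt hj.l hB' hL hRL hBL' h1))

/-- `B ∩ C_{W_R}(U_A) = 1` if `A → B` -/
theorem inf_cw (hj : Jo V Z R A B) {x : G} (hx : x ∈ B) (hx' : x ∈ cw V Z R A) : x = 1 := by
  by_contra hx1
  refine hj.mv fun y hy => mem_centralizer_iff.2 fun u hu => ?_
  exact h.t3 hj.r.left (h.twoEl_UU hu) hx hx1 ((mem_cw.1 hx').2 u hu) y hy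

end Mid

/-- `Z(U_R)` -/
def zu (V Z R : Subgroup G) : Subgroup G := UU V Z R ⊓ centralizer ((UU V Z R : Subgroup G) : Set G)

/-- the output of (a) - (g) -/
structure TNG [Finite G] (S : Sylow 2 G) (P V Z : Subgroup G) : Prop extends TN S P V Z where
  h2 : H2 V Z
  /-- (c) -/
  symm : ∀ R A B, Jo V Z R A B → Jo V Z R B A
  /-- (a) -/
  cent : ∀ R A, Adj V Z A R → ∀ g ∈ UU V Z A, ∀ w ∈ ws V R, g * w = w * g →
    w ∈ cw V Z R A ∨ g ∈ centralizer ((ws V R : Subgroup G) : Set G)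
  /-- (d) -/
  infc : ∀ R A B Y, Jo V Z R A B → IsCj Z Y → Y ≤ A ⊔ B → Y ≠ A → ws V A ⊓ ws V Y = ws V A ⊓ ws V B
  /-- (g) -/
  wz : ∀ R A B, Jo V Z R A B → ws V A ⊔ zu V Z R = ws V B ⊔ zu V Z R

end Cfsg.Agent.Omega.NO3S.MidQ
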