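import Cfsg.Agent.Omega.NO3S.PointFTwo
import Cfsg.Agent.MinSimple.VModule

/-!
# NO-3S, natural lines, critical distance 2: the basic facts (TEXT 426-1, bb OMEGA #15163, section 0)

Points: conjugates of `Z`; lines: conjugates of `V`; `W_X = ws V X`, `K_X = kx V X` (`PointTI.lean`, `PointFTwo.lean`).

* `Adj V Z X Y` : `X ≠ Y` are points of a line; `Com V X Y` : `W_X` and `W_Y` commute; `Cr V Z X R Y` : `(X, Y)` is
  critical with middle point `R`; `UU V Z R = ⟨W_A : A ~ R⟩`;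
* `Mid S P V Z` : `PL`, (F1), `Ω₁(Z(C_S(V))) = V`, and `W_X`, `W_Y` commute if `X ~ Y`;
* `Mid.flag` : every flag `(X, L)` is as good as `(Z, V)`; `Adj.line_unique`, `Mid.K_trans`, `Mid.stab`;
* `Mid.UU_le_o2`, `Mid.UU_le_centralizer` : (0.1);
* `Mid.star` : (0.2) `X ∩ W_Y = 1` for a critical pair;
* `Mid.cent_of_mod` : (0.3).
-/

set_option autoImplicit false
set_option linter.unusedSectionVars false

namespace Cfsg.Agent.Omega.NO3S.MidQ

open Subgroup Cfsg.Agent.Omega.NO3S.PT Cfsg.Agent.Omega.NoFF.Basic Cfsg.Agent.ZN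
open Cfsg.Agent.MinSimple.VModule (le_o2)
open scoped Pointwise

variable {G : Type*} [Group G]

/-- two different points of a line -/
structure Adj (V Z X Y : Subgroup G) : Prop where
  left : IsCj Z X
  right : IsCj Z Y
  ne : X ≠ Y
  line : ∃ L, IsCj V L ∧ X ≤ L ∧ Y ≤ L

/-- `W_X` and `W_Y` commute -/
def Com (V X Y : Subgroup G) : Prop := ws V X ≤ centralizer ((ws V Y : Subgroup G) : Set G)

/-- `(X, Y)` is a critical pair with middle point `R` -/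
structure Cr (V Z X R Y : Subgroup G) : Prop where
  l : Adj V Z X R
  r : Adj V Z R Y
  ne : ¬ Com V X Y

/-- the group generated by the `W_A`, `A ~ R` -/
def UU (V Z R : Subgroup G) : Subgroup G := sSup {W | ∃ A, Adj V Z A R ∧ W = ws V A}

variable {V Z X Y R L : Subgroup G}

/-! ### Change of the base flag -/

theorem ws_of (hL : IsCj V L) (X : Subgroup G) : ws L X = ws V X := by
  obtain ⟨g, rfl⟩ := hL
  exact ws_cj_left V X g

theorem kx_of (hL : IsCj V L) (X : Subgroup G) : kx L X = kx V X := by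
  obtain ⟨g, rfl⟩ := hL
  exact kx_cj_left V X g

theorem isCj_iff (hL : IsCj V L) {M : Subgroup G} : IsCj L M ↔ IsCj V M := by
  obtain ⟨g, rfl⟩ := hL
  exact isCj_cj

theorem adj_iff (hL : IsCj V L) (hX : IsCj Z X) {A B : Subgroup G} : Adj L X A B ↔ Adj V Z A B := by
  constructor
  · rintro ⟨h1, h2, h3, M, h4, h5⟩
    exact ⟨(isCj_iff hX).1 h1, (isCj_iff hX).1 h2, h3, M, (isCj_iff hL).1 h4, h5⟩
  · rintro ⟨h1, h2, h3, M, h4, h5⟩
    exact ⟨(isCj_iff hX).2 h1, (isCj_iff hX).2 h2, h3, M, (isCj_iff hL).2 h4, h5⟩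

theorem com_iff (hL : IsCj V L) {A B : Subgroup G} : Com L A B ↔ Com V A B := by
  rw [Com, Com, ws_of hL, ws_of hL]

theorem cr_iff (hL : IsCj V L) (hX : IsCj Z X) {A B C : Subgroup G} : Cr L X A B C ↔ Cr V Z A B C := by
  constructor
  · rintro ⟨h1, h2, h3⟩
    exact ⟨(adj_iff hL hX).1 h1, (adj_iff hL hX).1 h2, fun h => h3 ((com_iff hL).2 h)⟩
  · rintro ⟨h1, h2, h3⟩
    exact ⟨(adj_iff hL hX).2 h1, (adj_iff hL hX).2 h2, fun h => h3 ((com_iff hL).1 h)⟩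

theorem UU_of (hL : IsCj V L) (hX : IsCj Z X) (R : Subgroup G) : UU L X R = UU V Z R := by
  unfold UU
  congr 1
  ext W
  constructor
  · rintro ⟨A, h1, rfl⟩
    exact ⟨A, (adj_iff hL hX).1 h1, ws_of hL A⟩
  · rintro ⟨A, h1, rfl⟩
    exact ⟨A, (adj_iff hL hX).2 h1, (ws_of hL A).symm⟩

theorem isCj_symm (h : IsCj V L) : IsCj L V := by
  obtain ⟨g, rfl⟩ := h
  exact ⟨g⁻¹, by rw [cj_cj, inv_mul_cancel, cj_one]⟩

theorem isCj_trans {A B C : Subgroup G} (h : IsCj A B) (h' : IsCj B C) : IsCj A C := (isCj_iff h).1 h'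

/-! ### Symmetry and conjugation -/

theorem Adj.symm (h : Adj V Z X Y) : Adj V Z Y X := by
  obtain ⟨h1, h2, h3, M, h4, h5, h6⟩ := h
  exact ⟨h2, h1, h3.symm, M, h4, h6, h5⟩

theorem Adj.cj (h : Adj V Z X Y) (g : G) : Adj V Z (cj g X) (cj g Y) := by
  obtain ⟨h1, h2, h3, M, h4, h5, h6⟩ := h
  exact ⟨h1.cj g, h2.cj g, fun e => h3 (cj_inj.1 e), PT.cj g M, h4.cj g, cj_le_cj.2 h5, cj_le_cj.2 h6⟩

theorem Com.symm (h : Com V X Y) : Com V Y X := comm_symm h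

theorem Com.cj (h : Com V X Y) (g : G) : Com V (cj g X) (cj g Y) := by
  rw [Com, ws_cj, ws_cj]
  exact conj_le_centralizer h

theorem com_cj {g : G} : Com V (cj g X) (cj g Y) ↔ Com V X Y := by
  refine ⟨fun h => ?_, fun h => h.cj g⟩
  have := h.cj g⁻¹
  rwa [cj_cj, cj_cj, inv_mul_cancel, cj_one, cj_one] at this

theorem Cr.symm (h : Cr V Z X R Y) : Cr V Z Y R X := ⟨h.r.symm, h.l.symm, fun e => h.ne e.symm⟩

theorem Cr.cj (h : Cr V Z X R Y) (g : G) : Cr V Z (cj g X) (cj g R) (cj g Y) :=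
  ⟨h.l.cj g, h.r.cj g, fun e => h.ne (com_cj.1 e)⟩

theorem UU_cj (V Z R : Subgroup G) (g : G) : UU V Z (cj g R) = cj g (UU V Z R) := by
  have key : ∀ (g : G) (R : Subgroup G), cj g (UU V Z R) ≤ UU V Z (cj g R) := by
    intro g R
    rw [cj_le_iff]
    refine sSup_le ?_
    rintro _ ⟨A, hA, rfl⟩
    rw [le_cj_iff, inv_inv, ← ws_cj]
    exact le_sSup ⟨_, hA.cj g, rfl⟩
  refine le_antisymm ?_ (key g R)
  have h1 := key g⁻¹ (cj g R)
  rw [cj_cj, inv_mul_cancel, cj_one, cj_le_iff, inv_inv] at h1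
  exact h1

theorem le_UU (h : Adj V Z X R) : ws V X ≤ UU V Z R := le_sSup ⟨X, h, rfl⟩

/-- `N_G(R)` normalises `UU R`. -/
theorem normalizer_le_UU (V Z R : Subgroup G) : normalizer (R : Set G) ≤ normalizer ((UU V Z R : Subgroup G) : Set G) := by
  intro g hg
  rw [← cj_eq_iff] at hg ⊢
  rw [← UU_cj, hg]

/-- a family of 2-groups which normalise each other generates a 2-group -/
theorem isPGroup_sSup [Finite G] (F : Set (Subgroup G)) (h2 : ∀ A ∈ F, IsPGroup 2 A)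
    (hn : ∀ A ∈ F, ∀ B ∈ F, A ≤ normalizer (B : Set G)) : IsPGroup 2 (sSup F : Subgroup G) := by
  classical
  have hfin : F.Finite := Set.toFinite F
  have key : ∀ s : Finset (Subgroup G), (s : Set (Subgroup G)) ⊆ F → IsPGroup 2 (s.sup id : Subgroup G) := by
    intro s
    induction s using Finset.induction_on with
    | empty =>
      intro _
      rw [Finset.sup_empty]
      exact IsPGroup.of_bot
    | insert A s hA ih =>
      intro hs
      rw [Finset.coe_insert, Set.insert_subset_iff] at hs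
      rw [Finset.sup_insert, id, sup_comm]
      refine (ih hs.2).to_sup_of_normal_right' (h2 A hs.1) ?_
      rw [Finset.sup_le_iff]
      exact fun B hB => hn B (hs.2 hB) A hs.1
  have h1 : sSup F = hfin.toFinset.sup id := by
    rw [Finset.sup_id_eq_sSup, Set.Finite.coe_toFinset]
  rw [h1]
  exact key _ (by rw [Set.Finite.coe_toFinset])

/-! ### The hypotheses -/

/-- **The hypotheses**: natural lines, (F1), `Ω₁(Z(C_S(V))) ≤ V`, critical distance at least 2. -/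
structure Mid [Finite G] (S : Sylow 2 G) (P V Z : Subgroup G) : Prop where
  pl : PL S P V Z
  hf : ¬ kx V Z ≤ centralizer (V : Set G)
  hO : OmQ S V
  com : ∀ X Y, Adj V Z X Y → Com V X Y

namespace Mid

variable [Finite G] {S : Sylow 2 G} {P : Subgroup G}

theorem omQ_conj (hO : OmQ S V) (g : G) : OmQ (g • S) (cj g V) := by
  intro y hy hy1 hy2 hy3
  rw [mem_cj]
  refine hO _ (mem_cj.1 hy) ?_ ?_ fun s hs hs1 => ?_
  · rw [← cj_centralizer, mem_cj] at hy1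
    exact hy1
  · calc g⁻¹ * y * g * (g⁻¹ * y * g) = g⁻¹ * (y * y) * g := by group
      _ = 1 := by rw [hy2]; group
  · have h1 := hy3 _ (conj_mem_cj (g := g) hs) (by
      rw [← cj_centralizer]
      exact conj_mem_cj hs1)
    have h2 := congrArg (fun t => g⁻¹ * t * g) h1
    simpa [mul_assoc] using h2

theorem conj (h : Mid S P V Z) (g : G) : Mid (g • S) (cj g P) (cj g V) (cj g Z) where
  pl := h.pl.conj g
  hf := by
    rw [kx_cj_left, kx_cj, ← cj_centralizer, cj_le_cj]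
    exact h.hf
  hO := omQ_conj h.hO g
  com X Y hXY := by
    have h1 : Adj V Z X Y := (adj_iff (V := V) (Z := Z) ⟨g, rfl⟩ ⟨g, rfl⟩).1 hXY
    exact (com_iff (V := V) ⟨g, rfl⟩).2 (h.com X Y h1)

variable (h : Mid S P V Z)
include h

/-- **every flag is as good as `(Z, V)`** -/
theorem exists_conj {X L : Subgroup G} (hX : IsCj Z X) (hL : IsCj V L) (hXL : X ≤ L) :
    ∃ g : G, X = cj g Z ∧ L = cj g V := by
  obtain ⟨g, rfl⟩ := hL
  have h1 : cj g⁻¹ X ≤ V := by rwa [cj_le_iff, inv_inv]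
  obtain ⟨p, hp, hpX⟩ := h.pl.exists_pt (hX.cj g⁻¹) h1
  refine ⟨g * p, ?_, ?_⟩
  · rw [← cj_cj, ← hpX, cj_cj, mul_inv_cancel, cj_one]
  · rw [← cj_cj, cj_eq_iff.2 (h.pl.PN hp)]

/-- **every flag is as good as `(Z, V)`** -/
theorem flag {X L : Subgroup G} (hX : IsCj Z X) (hL : IsCj V L) (hXL : X ≤ L) :
    ∃ (T : Sylow 2 G) (Q : Subgroup G), Mid T Q L X := by
  obtain ⟨g, rfl, rfl⟩ := h.exists_conj hX hL hXL
  exact ⟨g • S, cj g P, h.conj g⟩

/-- two flags are conjugate -/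
theorem exists_conj₂ {X L X' L' : Subgroup G} (hX : IsCj Z X) (hL : IsCj V L) (hXL : X ≤ L) (hX' : IsCj Z X')
    (hL' : IsCj V L') (hXL' : X' ≤ L') : ∃ g : G, X' = cj g X ∧ L' = cj g L := by
  obtain ⟨g, rfl, rfl⟩ := h.exists_conj hX hL hXL
  obtain ⟨g', rfl, rfl⟩ := h.exists_conj hX' hL' hXL'
  exact ⟨g' * g⁻¹, by rw [cj_cj, inv_mul_cancel_right], by rw [cj_cj, inv_mul_cancel_right]⟩

/-- every point is on a line -/
theorem exists_line (hX : IsCj Z X) : ∃ L, IsCj V L ∧ X ≤ L := by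
  obtain ⟨g, rfl⟩ := hX
  exact ⟨cj g V, ⟨g, rfl⟩, cj_le_cj.2 h.pl.ZV⟩

theorem card_line (hL : IsCj V L) : Nat.card L = Nat.card V := by
  obtain ⟨g, rfl⟩ := hL
  exact card_cj g V

/-- two points are on at most one line -/
theorem line_unique {M : Subgroup G} (hX : IsCj Z X) (hY : IsCj Z Y) (hne : X ≠ Y) (hL : IsCj V L) (hM : IsCj V M)
    (h1 : X ≤ L) (h2 : Y ≤ L) (h3 : X ≤ M) (h4 : Y ≤ M) : L = M := by
  obtain ⟨T, Q, h'⟩ := h.flag hX hL h1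
  have hle : L ≤ M := by
    intro v hv
    obtain ⟨x, hx, y, hy, rfl⟩ := h'.pl.exists_mul h'.pl.isCj_self h1 ((isCj_iff hX).2 hY) h2 hne hv
    exact mul_mem (h3 hx) (h4 hy)
  exact Subgroup.eq_of_le_of_card_ge hle (by rw [h.card_line hL, h.card_line hM])

/-- a second point on a line -/
theorem exists_second (hX : IsCj Z X) (hL : IsCj V L) (hXL : X ≤ L) : ∃ Y, IsCj Z Y ∧ Y ≤ L ∧ Y ≠ X := by
  obtain ⟨T, Q, h'⟩ := h.flag hX hL hXL
  obtain ⟨Y, h1, h2, h3⟩ := h'.pl.exists_second h'.pl.isCj_self hXL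
  exact ⟨Y, (isCj_iff hX).1 h1, h2, h3⟩

/-- a third point on a line -/
theorem exists_third (hX : IsCj Z X) (hY : IsCj Z Y) (hL : IsCj V L) (hXL : X ≤ L) (hYL : Y ≤ L) (hne : X ≠ Y) :
    ∃ T, IsCj Z T ∧ T ≤ L ∧ T ≠ X ∧ T ≠ Y := by
  obtain ⟨_, Q, h'⟩ := h.flag hX hL hXL
  obtain ⟨T, h1, h2, h3⟩ := h'.pl.exists_third h'.pl.isCj_self hXL ((isCj_iff hX).2 hY) hYL hne
  exact ⟨T, (isCj_iff hX).1 h1, h2, h3⟩

/-- every nontrivial element of a line is in a point -/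
theorem exists_point (hL : IsCj V L) {v : G} (hv : v ∈ L) (hv1 : v ≠ 1) : ∃ X, IsCj Z X ∧ X ≤ L ∧ v ∈ X := by
  obtain ⟨g, rfl⟩ := hL
  obtain ⟨X, h1, h2, h3⟩ := (h.conj g).pl.exists_point hv hv1
  exact ⟨X, isCj_cj.1 h1, h2, h3⟩

theorem line_le (hL : IsCj V L) (hXL : X ≤ L) : L ≤ ws V X := le_ws hL hXL

theorem pt_ne_bot (hX : IsCj Z X) : ∃ x ∈ X, x ≠ 1 := h.pl.pt_ne_bot hX

theorem pts_eq (hX : IsCj Z X) (hY : IsCj Z Y) {z : G} (hz : z ∈ X) (hz' : z ∈ Y) (hz1 : z ≠ 1) : X = Y :=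
  h.pl.pts_eq hX hY hz hz' hz1

theorem com_self (hX : IsCj Z X) : Com V X X := h.pl.ws_comm hX

theorem ws_sq (hX : IsCj Z X) {w : G} (hw : w ∈ ws V X) : w * w = 1 := by
  obtain ⟨g, rfl⟩ := hX
  have h1 := (h.conj g).pl.ws_sq
  rw [ws_cj_left] at h1
  exact h1 w hw

theorem ws_comm (hX : IsCj Z X) {a b : G} (ha : a ∈ ws V X) (hb : b ∈ ws V X) : a * b = b * a :=
  (mem_centralizer_iff.1 (h.com_self hX ha) b hb).symm

theorem isPGroup_ws (hX : IsCj Z X) : IsPGroup 2 (ws V X) := fun w => ⟨1, by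
  rw [pow_one, pow_two]; exact Subtype.ext (h.ws_sq hX w.2)⟩

theorem pt_le_ws (hX : IsCj Z X) : X ≤ ws V X := by
  obtain ⟨L, hL, hXL⟩ := h.exists_line hX
  exact hXL.trans (le_ws hL hXL)

theorem adj_le_ws (hXY : Adj V Z X Y) : Y ≤ ws V X := by
  obtain ⟨h1, h2, h3, M, h4, h5, h6⟩ := hXY
  exact h6.trans (le_ws h4 h5)

/-- `W_X` commutes with `B` if `X ~ R ~ B` or `B = R` .. -/
theorem ws_le_cent (hXR : Adj V Z X R) (hRY : Adj V Z R Y) : ws V X ≤ centralizer (Y : Set G) :=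
  (h.com X R hXR).trans (centralizer_le (h.adj_le_ws hRY))

theorem ws_le_cent' (hXR : Adj V Z X R) : ws V X ≤ centralizer (R : Set G) :=
  (h.com X R hXR).trans (centralizer_le (h.pt_le_ws hXR.right))

theorem ws_norm (hXR : Adj V Z X R) (hRY : Adj V Z R Y) : ws V X ≤ normalizer ((ws V Y : Subgroup G) : Set G) :=
  (h.ws_le_cent hXR hRY).trans ((centralizer_le_normalizer _).trans (normalizer_le_ws V Y))

/-! ### (0.1) -/

/-- the `W_A`, `A ~ R`, normalise each other -/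
theorem ws_norm_ws {A B : Subgroup G} (hA : Adj V Z A R) (hB : Adj V Z B R) :
    ws V A ≤ normalizer ((ws V B : Subgroup G) : Set G) := h.ws_norm hA hB.symm

theorem isPGroup_UU (R : Subgroup G) : IsPGroup 2 (UU V Z R) := by
  refine isPGroup_sSup _ ?_ ?_
  · rintro _ ⟨A, hA, rfl⟩
    exact h.isPGroup_ws hA.left
  · rintro _ ⟨A, hA, rfl⟩ _ ⟨B, hB, rfl⟩
    exact h.ws_norm_ws hA hB

/-- **(0.1)** `U_R` centralises `W_R` -/
theorem UU_le_centralizer (R : Subgroup G) : UU V Z R ≤ centralizer ((ws V R : Subgroup G) : Set G) := by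
  refine sSup_le ?_
  rintro _ ⟨A, hA, rfl⟩
  exact h.com A R hA

theorem UU_le_cent_pt (hR : IsCj Z R) : UU V Z R ≤ centralizer (R : Set G) :=
  (h.UU_le_centralizer R).trans (centralizer_le (h.pt_le_ws hR))

/-- `U_R` normalises every `W_B`, `B ~ R` -/
theorem UU_norm {B : Subgroup G} (hB : Adj V Z B R) : UU V Z R ≤ normalizer ((ws V B : Subgroup G) : Set G) := by
  refine sSup_le ?_
  rintro _ ⟨A, hA, rfl⟩
  exact h.ws_norm_ws hA hB

/-- `U_R` centralises every point `B ~ R` -/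
theorem UU_le_cent_adj {B : Subgroup G} (hB : Adj V Z B R) : UU V Z R ≤ centralizer (B : Set G) :=
  (h.UU_le_centralizer R).trans (centralizer_le (h.adj_le_ws hB.symm))

/-- **(0.1)** `U_R ≤ O₂(N_G(R))` -/
theorem UU_le_o2 (hR : IsCj Z R) : UU V Z R ≤ o2 (normalizer (R : Set G)) :=
  le_o2 ((h.UU_le_cent_pt hR).trans (centralizer_le_normalizer _)) (h.isPGroup_UU R)
    (normalizer_le_UU V Z R)

/-- `W_R ≤ U_R` -/
theorem ws_le_UU (hR : IsCj Z R) : ws V R ≤ UU V Z R := by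
  refine ws_le fun L hL hRL => ?_
  obtain ⟨Y, hY, hYL, hYR⟩ := h.exists_second hR hL hRL
  exact (le_ws hL hYL).trans (le_UU ⟨hY, hR, hYR, L, hL, hYL, hRL⟩)

/-! ### Stabilisers of lines modulo a point -/

/-- `K_X` is transitive on the points `≠ X` of a line on `X` -/
theorem K_trans {A B : Subgroup G} (hX : IsCj Z X) (hL : IsCj V L) (hXL : X ≤ L) (hA : IsCj Z A) (hAL : A ≤ L)
    (hB : IsCj Z B) (hBL : B ≤ L) (hAX : A ≠ X) (hBX : B ≠ X) : ∃ k ∈ kx V X, cj k A = B := by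
  obtain ⟨T, Q, h'⟩ := h.flag hX hL hXL
  obtain ⟨k, hk, -, hkA⟩ := h'.pl.K_trans h'.hf ((isCj_iff hX).2 hA) hAL ((isCj_iff hX).2 hB) hBL hAX hBX
  rw [kx_of hL] at hk
  exact ⟨k, hk, hkA⟩

/-- `K_X` maps `v ∈ L - X` to every element of `X v` -/
theorem K_act (hX : IsCj Z X) (hL : IsCj V L) (hXL : X ≤ L) {v x : G} (hv : v ∈ L) (hvX : v ∉ X) (hx : x ∈ X) :
    ∃ k ∈ kx V X, k * v * k⁻¹ * v⁻¹ = x := by
  obtain ⟨T, Q, h'⟩ := h.flag hX hL hXL
  obtain ⟨k, hk, -, hkv⟩ := h'.pl.K_act h'.hf hv hvX hx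
  rw [kx_of hL] at hk
  exact ⟨k, hk, hkv⟩

/-- an element of `N_G(X)` fixing `v ∈ L - X` modulo `X` fixes the line `L` -/
theorem stab (hX : IsCj Z X) (hL : IsCj V L) (hXL : X ≤ L) {g v : G} (hg : g ∈ normalizer (X : Set G)) (hv : v ∈ L)
    (hvX : v ∉ X) (hgv : g * v * g⁻¹ ∈ L) : cj g L = L := by
  have hv1 : v ≠ 1 := fun e => hvX (e ▸ one_mem _)
  obtain ⟨T, hT, hTL, hvT⟩ := h.exists_point hL hv hv1
  obtain ⟨T', hT', hTL', hvT'⟩ := h.exists_point hL hgv (by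
    intro e
    exact hv1 (conj_eq_one_iff.1 e))
  have h1 : cj g T = T' := h.pts_eq (hT.cj g) hT' (conj_mem_cj hvT) hvT' (fun e => hv1 (conj_eq_one_iff.1 e))
  have h2 : cj g X = X := cj_eq_iff.2 hg
  have hne : X ≠ T' := by
    intro e
    rw [← h1, ← h2] at e
    exact hvX ((cj_inj.1 e) ▸ hvT)
  exact h.line_unique hX hT' hne (hL.cj g) hL (by rw [← h2]; exact cj_le_cj.2 hXL) (by rw [← h1]; exact cj_le_cj.2 hTL)
    hXL hTL'

/-- **(0.1), (F4)** an element of `N_G(X)` fixing `v ∈ L - X` modulo `X` is a product of an element of `K_X` and an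
element of `N_G(X)` which fixes the line `L` and the point `Y` of `L`. -/
theorem stab_pt (hX : IsCj Z X) (hL : IsCj V L) (hXL : X ≤ L) (hY : IsCj Z Y) (hYL : Y ≤ L) (hYX : Y ≠ X) {g v : G}
    (hg : g ∈ normalizer (X : Set G)) (hv : v ∈ L) (hvX : v ∉ X) (hgv : g * v * g⁻¹ ∈ L) :
    ∃ k ∈ kx V X, cj (k * g) L = L ∧ cj (k * g) Y = Y := by
  have h1 := h.stab hX hL hXL hg hv hvX hgv
  have h2 : cj g Y ≤ L := by rw [← h1]; exact cj_le_cj.2 hYL
  obtain ⟨k, hk, hkY⟩ := h.K_trans hX hL hXL (hY.cj g) h2 hY hYL (by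
    intro e
    rw [← cj_eq_iff.2 hg] at e
    exact hYX (cj_inj.1 e)) hYX
  refine ⟨k, hk, ?_, ?_⟩
  · rw [← cj_cj, h1, cj_eq_iff]
    exact kx_normalizes hXL (le_ws hL hXL) hk
  · rw [← cj_cj, hkY]

/-! ### Critical pairs -/

theorem cr_ne (hc : Cr V Z X R Y) : X ≠ Y := by
  rintro rfl
  exact hc.ne (h.com_self hc.l.left)

theorem cr_not_adj (hc : Cr V Z X R Y) : ¬ Adj V Z X Y := fun e => hc.ne (h.com X Y e)

/-- the line `RY` does not contain `X` -/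
theorem cr_not_le (hc : Cr V Z X R Y) (hL : IsCj V L) (hYL : Y ≤ L) : ¬ X ≤ L := fun e =>
  h.cr_not_adj hc ⟨hc.l.left, hc.r.right, h.cr_ne hc, L, hL, e, hYL⟩

theorem cr_norm (hc : Cr V Z X R Y) : ws V X ≤ normalizer ((ws V Y : Subgroup G) : Set G) := h.ws_norm hc.l hc.r

/-- `I_L` for the line `L` on the points `A ≠ B` -/
theorem inf_ws {A B A' B' : Subgroup G} (hL : IsCj V L) (hA : IsCj Z A) (hB : IsCj Z B) (hA' : IsCj Z A')
    (hB' : IsCj Z B') (hAL : A ≤ L) (hBL : B ≤ L) (hAL' : A' ≤ L) (hBL' : B' ≤ L) (hne : A ≠ B) (hne' : A' ≠ B') :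
    ws V A ⊓ ws V B = ws V A' ⊓ ws V B' := by
  obtain ⟨T, Q, h'⟩ := h.flag hA hL hAL
  have h1 := h'.pl.IV_eq h'.hf h'.pl.isCj_self hAL ((isCj_iff hA).2 hB) hBL hne
  have h2 := h'.pl.IV_eq h'.hf ((isCj_iff hA).2 hA') hAL' ((isCj_iff hA).2 hB') hBL' hne'
  rw [ws_of hL, ws_of hL] at h1 h2
  rw [h1, h2]

/-- `W_A ∩ W_B ≤ W_C` for three points of a line, `A ≠ B` -/
theorem inf_le {A B C : Subgroup G} (hL : IsCj V L) (hA : IsCj Z A) (hB : IsCj Z B) (hC : IsCj Z C)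
    (hAL : A ≤ L) (hBL : B ≤ L) (hCL : C ≤ L) (hne : A ≠ B) : ws V A ⊓ ws V B ≤ ws V C := by
  by_cases h1 : A = C
  · rw [← h1]; exact inf_le_left
  · rw [h.inf_ws hL hA hB hA hC hAL hBL hAL hCL hne h1]
    exact inf_le_right

/-- **(F2)**: `u ∈ I_L - L`; any two points of `L` are interchanged by a 2-element centralising `u` which fixes `L`
and lies in `⟨K_X : X ≤ L⟩`. -/
theorem F2_swap {A B C D : Subgroup G} (hL : IsCj V L) (hA : IsCj Z A) (hB : IsCj Z B) (hAL : A ≤ L) (hBL : B ≤ L)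
    (hne : A ≠ B) (hC : IsCj Z C) (hD : IsCj Z D) (hCL : C ≤ L) (hDL : D ≤ L) {u : G} (hu : u ∈ ws V A)
    (hu' : u ∈ ws V B) (huL : u ∉ L) :
    ∃ x : G, TwoEl x ∧ x * u = u * x ∧ cj x C = D ∧ cj x D = C ∧ cj x L = L ∧
      ∀ w ∈ ws V A ⊓ ws V B, x * w * x⁻¹ * w⁻¹ ∈ L := by
  obtain ⟨T, Q, h'⟩ := h.flag hA hL hAL
  have h1 := h'.pl.IV_eq h'.hf h'.pl.isCj_self hAL ((isCj_iff hA).2 hB) hBL hne
  rw [ws_of hL, ws_of hL] at h1
  obtain ⟨x, hx, hx2, hxu, hxC, hxD⟩ := h'.pl.F2_swap h'.hf h'.hO (by rw [← h1]; exact ⟨hu, hu'⟩) huL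
    ((isCj_iff hA).2 hC) hCL ((isCj_iff hA).2 hD) hDL
  refine ⟨x, hx2, hxu, hxC, hxD, cj_eq_iff.2 (h'.pl.XV_le_N hx), fun w hw => ?_⟩
  rw [h1] at hw
  exact h'.pl.XV_act hx hw

/-- **(STAR)**, (0.2): `X ∩ W_Y = 1` for a critical pair. -/
theorem star (hc : Cr V Z X R Y) {u : G} (hu : u ∈ X) (hu' : u ∈ ws V Y) : u = 1 := by
  by_contra hu1
  obtain ⟨M, hM, hRM, hYM⟩ := hc.r.line
  have hXM : ¬ X ≤ M := h.cr_not_le hc hM hYM
  obtain ⟨T, Q, h'⟩ := h.flag hc.r.left hM hRM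
  have hR := hc.r.left
  have h1 := h'.pl.IV_eq h'.hf h'.pl.isCj_self hRM ((isCj_iff hR).2 hc.r.right) hYM hc.r.ne
  rw [ws_of hM, ws_of hM] at h1
  have h2 := h'.pl.star h'.hf h'.hO ((isCj_iff hR).2 hc.l.left) hXM ((isCj_iff hR).2 hR) hRM
    ((isCj_iff hR).2 hc.r.right) hYM hu hu1 (by
      rw [← h1]
      exact ⟨h.adj_le_ws hc.l.symm hu, hu'⟩) (by
      rw [ws_of hM, ws_of hM]
      exact h.com X R hc.l)
  rw [ws_of hM, ws_of hM] at h2
  exact hc.ne h2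

theorem star' (hc : Cr V Z X R Y) {u : G} (hu : u ∈ Y) (hu' : u ∈ ws V X) : u = 1 := h.star hc.symm hu hu'

/-- `[a, b] ∈ W_X ∩ W_Y` for `a ∈ W_X`, `b ∈ W_Y` -/
theorem comm_mem (hc : Cr V Z X R Y) {a b : G} (ha : a ∈ ws V X) (hb : b ∈ ws V Y) :
    a * b * a⁻¹ * b⁻¹ ∈ ws V X ⊓ ws V Y := by
  have h1 := (mem_normalizer_iff.1 (h.cr_norm hc ha) b).1 hb
  have h2 := (mem_normalizer_iff.1 (h.cr_norm hc.symm hb) a⁻¹).1 (inv_mem ha)
  refine ⟨?_, (ws V Y).mul_mem h1 ((ws V Y).inv_mem hb)⟩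
  have e : a * b * a⁻¹ * b⁻¹ = a * (b * a⁻¹ * b⁻¹) := by group
  rw [e]
  exact (ws V X).mul_mem ha h2

/-- **(0.3)** an element of `W_Y` which centralises `W_X` modulo `X` centralises `W_X` -/
theorem cent_of_mod (hc : Cr V Z X R Y) {w : G} (hw : w ∈ ws V Y)
    (hwX : ∀ x ∈ ws V X, w * x * w⁻¹ * x⁻¹ ∈ X) : ∀ x ∈ ws V X, w * x = x * w := by
  intro x hx
  have h1 := (h.comm_mem hc.symm hw hx).1
  have h2 := h.star hc (hwX x hx) h1
  rwa [mul_inv_eq_one, mul_inv_eq_iff_eq_mul] at h2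

/-- **(0.3)** an element of `W_X` which is centralised modulo `X` by `W_Y` is centralised by `W_Y` -/
theorem cent_of_mod' (hc : Cr V Z X R Y) {x : G} (hx : x ∈ ws V X)
    (hxX : ∀ w ∈ ws V Y, w * x * w⁻¹ * x⁻¹ ∈ X) : ∀ w ∈ ws V Y, w * x = x * w := by
  intro w hw
  have h1 := (h.comm_mem hc.symm hw hx).1
  have h2 := h.star hc (hxX w hw) h1
  rwa [mul_inv_eq_one, mul_inv_eq_iff_eq_mul] at h2

/-- `W_Y ∩ K_X = C_{W_Y}(W_X)` -/
theorem inf_kx (hc : Cr V Z X R Y) :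
    ws V Y ⊓ kx V X = ws V Y ⊓ centralizer ((ws V X : Subgroup G) : Set G) := by
  apply le_antisymm
  · rintro w ⟨hw, hwK⟩
    refine ⟨hw, mem_centralizer_iff.2 fun x hx => ?_⟩
    exact (h.cent_of_mod hc hw (mem_kx.1 hwK).2 x hx).symm
  · rintro w ⟨hw, hwC⟩
    refine ⟨hw, mem_kx.2 ⟨fun x hx => ?_, fun x hx => ?_⟩⟩
    · exact (mem_centralizer_iff.1 hwC x (h.pt_le_ws hc.l.left hx)).symm
    · have h1 := mem_centralizer_iff.1 hwC x hx
      have e : w * x * w⁻¹ * x⁻¹ = 1 := by rw [← h1]; group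
      rw [e]
      exact one_mem _

/-- the commutator group `R(X, Y) = [W_X, W_Y]` -/
theorem comm_le (hc : Cr V Z X R Y) : ⁅ws V X, ws V Y⁆ ≤ ws V X ⊓ ws V Y := by
  rw [commutator_le]
  intro a ha b hb
  exact h.comm_mem hc ha hb

theorem comm_inf_left (hc : Cr V Z X R Y) : ⁅ws V X, ws V Y⁆ ⊓ X = ⊥ := by
  rw [eq_bot_iff]
  rintro u ⟨hu, hu'⟩
  exact mem_bot.2 (h.star hc hu' (h.comm_le hc hu).2)

theorem comm_inf_right (hc : Cr V Z X R Y) : ⁅ws V X, ws V Y⁆ ⊓ Y = ⊥ := by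
  rw [eq_bot_iff]
  rintro u ⟨hu, hu'⟩
  exact mem_bot.2 (h.star' hc hu' (h.comm_le hc hu).1)

end Mid

end Cfsg.Agent.Omega.NO3S.MidQ
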