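import Cfsg.Agent.StdRank2.OutField

/-!
# NO-3S, `q ≥ 4`, `n = 2`: the algebra of `e = 1` (supplement to TEXT 426-1, bb OMEGA #16032)

* `exists_of_cyclic` : a group `C` acting through the cyclic group `Aut(E)` and mapped onto a group `R` of exponent 2
  and order at least 4: some `k ∈ C` acts trivially and has nontrivial image;
* `aut_sq`, `aut_add_mem` : `F < E` fields, `|E| ≤ |F|²`, `σ ∈ Aut(E)` trivial on `F`: `σ² = 1` and `σ y + y ∈ F`.
-/

set_option autoImplicit false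

namespace Cfsg.Agent.Omega.NO3S.MidQ

open Subgroup

variable {G : Type*} [Group G] {E : Type*} [Field E]

theorem exists_of_cyclic [Finite E] [CharP E 2] (act : G → (E ≃+* E) → Prop) (C R : Subgroup G)
    (h1 : act 1 1) (hm : ∀ k ∈ C, ∀ k' ∈ C, ∀ σ σ', act k σ → act k' σ' → act (k * k') (σ * σ'))
    (hi : ∀ k ∈ C, ∀ σ, act k σ → act k⁻¹ σ⁻¹) (he : ∀ k ∈ C, ∃ σ, act k σ)
    (f : G → G) (hf : ∀ k ∈ C, ∀ k' ∈ C, f (k * k') = f k * f k') (hfR : ∀ r ∈ R, ∃ k ∈ C, f k = r)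
    (hsq : ∀ k ∈ C, f k * f k = 1) (hR : ∀ r₀ : G, ∃ r ∈ R, r ≠ 1 ∧ r ≠ r₀) :
    ∃ k ∈ C, act k 1 ∧ f k ≠ 1 := by
  let D : Subgroup (E ≃+* E) :=
    { carrier := {σ | ∃ k ∈ C, act k σ}
      one_mem' := ⟨1, one_mem _, h1⟩
      mul_mem' := by
        rintro σ σ' ⟨k, hk, hkσ⟩ ⟨k', hk', hk'σ⟩
        exact ⟨k * k', mul_mem hk hk', hm k hk k' hk' σ σ' hkσ hk'σ⟩
      inv_mem' := by
        rintro σ ⟨k, hk, hkσ⟩
        exact ⟨k⁻¹, inv_mem hk, hi k hk σ hkσ⟩ }
  have hc : IsCyclic (E ≃+* E) := Cfsg.Agent.StdRank2.OutField.isCyclic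
  obtain ⟨⟨σ₀, k₀, hk₀, hkσ₀⟩, hgen⟩ := IsCyclic.exists_generator (α := D)
  -- powers of `k₀`
  have hf1 : f 1 = 1 := by
    have := hf 1 (one_mem _) 1 (one_mem _)
    rw [mul_one] at this
    exact (mul_eq_left.1 this.symm)
  have hfi : ∀ k ∈ C, f k⁻¹ = f k := by
    intro k hk
    have h2 := hf k hk k⁻¹ (inv_mem hk)
    rw [mul_inv_cancel, hf1] at h2
    exact mul_left_cancel (h2.symm.trans (hsq k hk).symm)
  have hpow : ∀ n : ℕ, (act (k₀ ^ n) (σ₀ ^ n)) ∧ (f (k₀ ^ n) = 1 ∨ f (k₀ ^ n) = f k₀) := by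
    intro n
    induction n with
    | zero => exact ⟨by simpa using h1, Or.inl (by rw [pow_zero]; exact hf1)⟩
    | succ n ih =>
      refine ⟨?_, ?_⟩
      · rw [pow_succ, pow_succ]
        exact hm _ (pow_mem hk₀ n) _ hk₀ _ _ ih.1 hkσ₀
      · rw [pow_succ, hf _ (pow_mem hk₀ n) _ hk₀]
        rcases ih.2 with h2 | h2
        · right; rw [h2, one_mul]
        · left; rw [h2]; exact hsq k₀ hk₀
  obtain ⟨r, hr, hr1, hr0⟩ := hR (f k₀)
  obtain ⟨k, hk, hkr⟩ := hfR r hr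
  obtain ⟨σ, hσ⟩ := he k hk
  have h2 : (⟨σ, k, hk, hσ⟩ : D) ∈ zpowers (⟨σ₀, k₀, hk₀, hkσ₀⟩ : D) := hgen _
  have : Finite (E ≃+* E) := Cfsg.Agent.StdRank2.OutField.finite_aut
  have : Finite D := inferInstance
  classical
  rw [mem_zpowers_iff_mem_range_orderOf, Finset.mem_image] at h2
  obtain ⟨n, -, hn⟩ := h2
  have hn' : σ₀ ^ n = σ := congrArg Subtype.val hn
  refine ⟨k * (k₀ ^ n)⁻¹, mul_mem hk (inv_mem (pow_mem hk₀ n)), ?_, ?_⟩
  · have h3 := hm k hk _ (inv_mem (pow_mem hk₀ n)) _ _ hσ (hi _ (pow_mem hk₀ n) _ (hpow n).1)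
    rwa [hn', mul_inv_cancel] at h3
  · rw [hf k hk _ (inv_mem (pow_mem hk₀ n)), hfi _ (pow_mem hk₀ n), hkr]
    rcases (hpow n).2 with h3 | h3
    · rw [h3, mul_one]; exact hr1
    · rw [h3]
      intro e
      exact hr0 (mul_right_cancel (e.trans (hsq k₀ hk₀).symm))

section field

variable [Finite E]

/-- the fixed field of `σ` -/
def fixf (σ : E ≃+* E) : Subfield E where
  carrier := {a | σ a = a}
  one_mem' := map_one σ
  zero_mem' := map_zero σ
  add_mem' := by intro a b ha hb; rw [Set.mem_ofPred_eq] at *; rw [map_add, ha, hb]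
  mul_mem' := by intro a b ha hb; rw [Set.mem_ofPred_eq] at *; rw [map_mul, ha, hb]
  neg_mem' := by intro a ha; rw [Set.mem_ofPred_eq] at *; rw [map_neg, ha]
  inv_mem' := by intro a ha; rw [Set.mem_ofPred_eq] at *; rw [map_inv₀, ha]

omit [Finite E] in
theorem mem_fixf {σ : E ≃+* E} {a : E} : a ∈ fixf σ ↔ σ a = a := Iff.rfl

/-- a proper subfield `F` has `|F|² ≤ |E|` -/
theorem sq_le_card {F : Subfield E} (hF : F ≠ ⊤) : Nat.card F * Nat.card F ≤ Nat.card E := by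
  have h1 : Module.finrank F E ≠ 1 := by
    intro h1
    apply hF
    have h2 : ∀ x : E, x ∈ F := by
      intro x
      obtain ⟨c, hc⟩ := (finrank_eq_one_iff_of_nonzero' (1 : E) one_ne_zero).1 h1 x
      rw [← hc]
      have : (c • (1 : E)) = (c : E) := by rw [Algebra.smul_def, mul_one]; rfl
      rw [this]
      exact c.2
    rw [eq_top_iff]
    exact fun x _ => h2 x
  have h2 : 0 < Module.finrank F E := Module.finrank_pos
  have h3 : Nat.card E = Nat.card F ^ Module.finrank F E := Module.natCard_eq_pow_finrank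
  rw [h3]
  have h4 : Nat.card F * Nat.card F = Nat.card F ^ 2 := (sq _).symm
  rw [h4]
  exact Nat.pow_le_pow_right Nat.card_pos (by omega)

variable {F : Subfield E} (hc : Nat.card E ≤ Nat.card F * Nat.card F)
include hc

/-- `|E| ≤ |F|²`: `F` is a maximal subfield -/
theorem eq_of_lt {F' : Subfield E} (h1 : F ≤ F') (h2 : F' ≠ ⊤) : F = F' := by
  have h3 := sq_le_card h2
  have h4 : Nat.card F ≤ Nat.card F' := Nat.card_mono (Set.toFinite (F' : Set E)) h1
  have h5 : Nat.card F' ≤ Nat.card F := by nlinarith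
  refine SetLike.coe_injective (Set.eq_of_subset_of_ncard_le h1 ?_)
  rw [← Nat.card_coe_set_eq, ← Nat.card_coe_set_eq]
  exact h5

/-- `|E| ≤ |F|²`, `σ` trivial on `F`: `σ² = 1` -/
theorem aut_sq {σ : E ≃+* E} (hσ : ∀ a ∈ F, σ a = a) (a : E) : σ (σ a) = a := by
  have h3 : Nat.card E = Nat.card F ^ Module.finrank F E := Module.natCard_eq_pow_finrank
  have h4 : 1 < Nat.card F := Finite.one_lt_card
  have h5 : Module.finrank F E ≤ 2 := by
    rw [h3, ← sq] at hc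
    exact (Nat.pow_le_pow_iff_right h4).1 hc
  have h6 : Nat.card (E ≃ₐ[F] E) = Module.finrank F E := IsGalois.card_aut_eq_finrank F E
  have h7 : 0 < Module.finrank F E := Module.finrank_pos
  let τ : E ≃ₐ[F] E := AlgEquiv.ofRingEquiv (f := σ) (fun r => hσ _ r.2)
  have h8 : τ ^ Nat.card (E ≃ₐ[F] E) = 1 := pow_card_eq_one'
  have h9 : τ ^ 2 = 1 := by
    have h10 : Nat.card (E ≃ₐ[F] E) = 1 ∨ Nat.card (E ≃ₐ[F] E) = 2 := by omega
    rcases h10 with h | h
    · rw [h, pow_one] at h8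
      rw [h8, one_pow]
    · rwa [h] at h8
  have h10 : τ (τ a) = a := by
    have h11 := congrArg (fun t : E ≃ₐ[F] E => t a) h9
    simpa [sq] using h11
  exact h10

/-- `|E| ≤ |F|²`, `σ` trivial on `F`: `σ y + y ∈ F` -/
theorem aut_add_mem [CharP E 2] {σ : E ≃+* E} (hσ : ∀ a ∈ F, σ a = a) (y : E) : σ y + y ∈ F := by
  by_cases h1 : fixf σ = ⊤
  · have h2 : y ∈ fixf σ := by rw [h1]; trivial
    rw [mem_fixf] at h2
    rw [h2, CharTwo.add_self_eq_zero]
    exact zero_mem _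
  · have h2 : F = fixf σ := eq_of_lt hc (fun a ha => hσ a ha) h1
    rw [h2, mem_fixf, map_add, aut_sq hc hσ, add_comm]

end field

/-- the first end: `F` has at most 4 elements -/
theorem end_one {F : Subfield E} [Finite E] [CharP E 2]
    (h : ∀ a ∈ F, ∀ b ∈ F, a ≠ 0 → b ≠ 0 → a⁻¹ + b⁻¹ = 1 → a + b = 1) :
    ∀ a ∈ F, a ≠ 0 → a ≠ 1 → a * a + a + 1 = 0 := by
  intro a ha ha0 ha1
  have h1 : a + 1 ≠ 0 := fun e => ha1 (CharTwo.add_eq_zero.1 e)
  have h2 := h a ha (a / (a + 1)) (div_mem ha (add_mem ha (one_mem _))) ha0 (div_ne_zero ha0 h1) (by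
    field_simp
    rw [← add_assoc, add_comm 1 a, add_assoc, CharTwo.add_self_eq_zero, add_zero])
  field_simp at h2
  rw [add_assoc a 1 1, CharTwo.add_self_eq_zero, add_zero] at h2
  rw [h2, add_assoc, CharTwo.add_self_eq_zero]

theorem card_le_four {F : Subfield E} [Finite E] [CharP E 2]
    (h : ∀ a ∈ F, a ≠ 0 → a ≠ 1 → a * a + a + 1 = 0) : Nat.card F ≤ 4 := by
  have h1 : ∀ a : (F)ˣ, a ^ 3 = 1 := by
    intro a
    by_cases ha1 : (a : F) = 1
    · have : a = 1 := Units.ext ha1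
      rw [this, one_pow]
    · have h2 := h (a : F) (a : F).2 (fun e => a.ne_zero (Subtype.ext e)) (fun e => ha1 (Subtype.ext e))
      apply Units.ext
      apply Subtype.ext
      push_cast
      have h3 : (((a : F) : E)) ^ 3 - 1 = (((a : F) : E) - 1) * (((a : F) : E) * ((a : F) : E) + ((a : F) : E) + 1) := by
        ring
      rw [h2, mul_zero, sub_eq_zero] at h3
      exact h3
  have h2 : Monoid.exponent (F)ˣ ∣ 3 := Monoid.exponent_dvd_of_forall_pow_eq_one h1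
  rw [IsCyclic.exponent_eq_card] at h2
  have h3 : Nat.card (F)ˣ ≤ 3 := Nat.le_of_dvd (by norm_num) h2
  have h4 : Nat.card (F)ˣ = Nat.card F - 1 := Nat.card_units F
  omega

/-- the torus: `|E| = 16`, `|F| = 4`: a multiplicatively closed set containing `F` and some `ζ ∉ F` is everything -/
theorem all_of_four {F : Subfield E} [Finite E] (hF : Nat.card F = 4) (hE : Nat.card E = 16) (D : Set E)
    (hm : ∀ a ∈ D, ∀ b ∈ D, a * b ∈ D) (hFD : ∀ a ∈ F, a ≠ 0 → a ∈ D) {ζ : E} (hζ : ζ ∈ D) (hζF : ζ ∉ F) :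
    ∀ a : E, a ≠ 0 → a ∈ D := by
  have hζ0 : ζ ≠ 0 := fun e => hζF (e ▸ zero_mem _)
  let D' : Submonoid Eˣ :=
    { carrier := {a | (a : E) ∈ D}
      one_mem' := hFD 1 (one_mem _) one_ne_zero
      mul_mem' := fun ha hb => hm _ ha _ hb }
  let D₁ : Subgroup Eˣ :=
    { D' with
      inv_mem' := by
        intro a ha
        have h1 : a⁻¹ = a ^ (orderOf a - 1) := by
          rw [inv_eq_iff_mul_eq_one, ← pow_succ', Nat.sub_add_cancel (orderOf_pos a), pow_orderOf_eq_one]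
        show a⁻¹ ∈ D'
        rw [h1]
        exact pow_mem ha _ }
  let F₁ : Subgroup Eˣ := (Units.map (F.subtype : F →* E)).range
  have hF₁ : Nat.card F₁ = 3 := by
    have h1 : Nat.card F₁ = Nat.card (F)ˣ := by
      refine (Nat.card_congr (MonoidHom.ofInjective (f := Units.map (F.subtype : F →* E)) ?_).toEquiv).symm
      exact Units.map_injective F.subtype_injective
    rw [h1, Nat.card_units, hF]
  have hE₁ : Nat.card Eˣ = 15 := by rw [Nat.card_units, hE]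
  have h1 : F₁ ≤ D₁ := by
    rintro _ ⟨a, rfl⟩
    exact hFD _ (a : F).2 (fun e => a.ne_zero (Subtype.ext e))
  have h2 : Nat.card D₁ ∣ 15 := hE₁ ▸ Subgroup.card_subgroup_dvd_card D₁
  have h3 : 3 ∣ Nat.card D₁ := hF₁ ▸ Subgroup.card_dvd_of_le h1
  have h4 : Nat.card D₁ ≠ 3 := by
    intro e
    have h5 : F₁ = D₁ := Subgroup.eq_of_le_of_card_ge h1 (by rw [e, hF₁])
    have h6 : Units.mk0 ζ hζ0 ∈ F₁ := by
      rw [h5]
      exact hζ
    obtain ⟨a, ha⟩ := h6
    apply hζF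
    have h7 := congrArg (fun t : Eˣ => (t : E)) ha
    have h8 : ((a : F) : E) = ζ := h7
    rw [← h8]
    exact (a : F).2
  have h5 : Nat.card D₁ ≤ 15 := Nat.le_of_dvd (by norm_num) h2
  have h6 : Nat.card D₁ = 15 := by
    have h7 : 0 < Nat.card D₁ := Nat.card_pos
    generalize Nat.card D₁ = n at *
    interval_cases n <;> simp_all
  have h7 : D₁ = ⊤ := Subgroup.eq_top_of_card_eq _ (by rw [h6, hE₁])
  intro a ha
  have h8 : Units.mk0 a ha ∈ D₁ := by rw [h7]; trivial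
  exact h8

end Cfsg.Agent.Omega.NO3S.MidQ
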