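import Cfsg.Agent.Omega.NO3S.MidQ.LemF

/-!
# NO-3S, natural lines, critical distance 2: LEMMA X^ (supplement to TEXT 426-1, bb OMEGA #16032)

`(A, B)` critical with middle point `R`, `L` the line `AR`, `M` the line `BR`, `K ≤ K_R`.
`XH V Z R K L M A B` collects the hypotheses: `[W_A, W_B] ∩ W_R = R`; `C_K(L)` maps `b` onto `R b` and `C_K(M)` maps
`a` onto `R a`; `C_K(L)` centralises `[W_A, W_B]` modulo `L` and `C_K(M)` centralises it modulo `M`.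

* `XH.mem_sup` : `[k, x] ∈ L M` for `x ∈ [W_A, W_B]`, `k ∈ K`;
* `XH.surj` : `K → L M / R`, `k ↦ [k, x] R` is onto if `x ∉ R`;
* `XH.sup_eq` : so `L M = L' M'` if `[W_A, W_B]` and `[W_A', W_B']` have elements `x`, `x'` outside `R` with
  `x' x⁻¹ ∈ W_R`;
* `le_sup_of_same`, `comp_le` : if `A [W_A, W_B]` only depends on `(A, L)`, all lines `N` of the component of `L` in
  the graph 'critical' on the lines of `R` are contained in `L M`.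
-/

set_option autoImplicit false
set_option linter.unusedSectionVars false

namespace Cfsg.Agent.Omega.NO3S.MidQ

open Subgroup Cfsg.Agent.Omega.NO3S.PT Cfsg.Agent.Omega.NoFF.Basic Cfsg.Agent.ZN
open scoped Pointwise

variable {G : Type*} [Group G]

theorem sup_mul_of_norm {A B : Subgroup G} (hn : B ≤ normalizer (A : Set G)) {v : G} (hv : v ∈ A ⊔ B) :
    ∃ a ∈ A, ∃ b ∈ B, v = a * b := by
  rw [sup_eq_closure_mul] at hv
  refine closure_induction (p := fun v _ => ∃ a ∈ A, ∃ b ∈ B, v = a * b) ?_ ⟨1, one_mem _, 1, one_mem _, by simp⟩ ?_ ?_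
    hv
  · rintro _ ⟨a, ha, b, hb, rfl⟩
    exact ⟨a, ha, b, hb, rfl⟩
  · rintro _ _ _ _ ⟨a, ha, b, hb, rfl⟩ ⟨a', ha', b', hb', rfl⟩
    refine ⟨a * (b * a' * b⁻¹), mul_mem ha ((mem_normalizer_iff.1 (hn hb) a').1 ha'), b * b', mul_mem hb hb', by group⟩
  · rintro _ _ ⟨a, ha, b, hb, rfl⟩
    refine ⟨b⁻¹ * a⁻¹ * b, ?_, b⁻¹, inv_mem hb, by group⟩
    have := (mem_normalizer_iff.1 (hn (inv_mem hb)) a⁻¹).1 (inv_mem ha)
    rwa [inv_inv] at this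

theorem sup_mul_of_comm {A B : Subgroup G} (hc : ∀ a ∈ A, ∀ b ∈ B, a * b = b * a) {v : G} (hv : v ∈ A ⊔ B) :
    ∃ a ∈ A, ∃ b ∈ B, v = a * b := by
  refine sup_mul_of_norm (fun b hb => centralizer_le_normalizer _ (mem_centralizer_iff.2 ?_)) hv
  exact fun a ha => hc a ha b hb

/-- the hypotheses of LEMMA X^ -/
structure XH (V Z R K L M A B : Subgroup G) : Prop where
  cr : Cr V Z A R B
  lL : IsCj V L
  lM : IsCj V M
  AL : A ≤ L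
  RL : R ≤ L
  RM : R ≤ M
  BM : B ≤ M
  KR : K ≤ kx V R
  inf : ⁅ws V A, ws V B⁆ ⊓ ws V R = R
  f : ∀ b ∈ B, b ≠ 1 → ∀ r ∈ R, ∃ k ∈ K, k ∈ centralizer (L : Set G) ∧ k * b * k⁻¹ * b⁻¹ = r
  f' : ∀ a ∈ A, a ≠ 1 → ∀ r ∈ R, ∃ k ∈ K, k ∈ centralizer (M : Set G) ∧ k * a * k⁻¹ * a⁻¹ = r
  g : ∀ k ∈ K, k ∈ centralizer (L : Set G) → ∀ x ∈ ⁅ws V A, ws V B⁆, k * x * k⁻¹ * x⁻¹ ∈ L
  g' : ∀ k ∈ K, k ∈ centralizer (M : Set G) → ∀ x ∈ ⁅ws V A, ws V B⁆, k * x * k⁻¹ * x⁻¹ ∈ M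

variable {V Z R K L M A B L' M' A' B' : Subgroup G}

theorem XH.symm (h : XH V Z R K L M A B) : XH V Z R K M L B A where
  cr := h.cr.symm
  lL := h.lM
  lM := h.lL
  AL := h.BM
  RL := h.RM
  RM := h.RL
  BM := h.AL
  KR := h.KR
  inf := by rw [commutator_comm]; exact h.inf
  f := h.f'
  f' := h.f
  g := by rw [commutator_comm]; exact h.g'
  g' := by rw [commutator_comm]; exact h.g

variable [Finite G] {S : Sylow 2 G} {P : Subgroup G}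

namespace Mid

variable (h : Mid S P V Z)
include h

/-- an element of `K_X` which fixes the point `Y ≠ X` of the line `L` on `X` centralises `L` -/
theorem cent_line {X Y : Subgroup G} {k : G} {L : Subgroup G} (hX : IsCj Z X) (hY : IsCj Z Y) (hL : IsCj V L)
    (hXL : X ≤ L) (hYL : Y ≤ L) (hne : X ≠ Y) (hk : k ∈ kx V X) (hkY : cj k Y = Y) :
    k ∈ centralizer (L : Set G) := by
  obtain ⟨T, Q, h'⟩ := h.flag hX hL hXL
  rw [mem_centralizer_iff]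
  intro v hv
  obtain ⟨x, hx, y, hy, rfl⟩ := h'.pl.exists_mul h'.pl.isCj_self hXL ((isCj_iff hX).2 hY) hYL hne hv
  have h1 := (mem_kx.1 hk).1 x hx
  have h2 : k * y * k⁻¹ * y⁻¹ ∈ X := (mem_kx.1 hk).2 y (le_ws hL hXL (hYL hy))
  have h3 : k * y * k⁻¹ ∈ Y := by
    have := conj_mem_cj (g := k) hy
    rwa [hkY] at this
  have h4 : k * y * k⁻¹ * y⁻¹ = 1 := by
    by_contra hne1
    exact hne (h.pts_eq hX hY h2 (mul_mem h3 (inv_mem hy)) hne1)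
  have h5 : k * y = y * k := by
    rwa [mul_inv_eq_one, mul_inv_eq_iff_eq_mul] at h4
  calc x * y * k = x * (y * k) := by group
    _ = x * k * y := by rw [← h5]; group
    _ = k * (x * y) := by rw [← h1]; group

/-- an element of `K_X` which centralises `y ∈ L - X` centralises the line `L` on `X` -/
theorem cent_line_of_comm {X Y : Subgroup G} {k y : G} {L : Subgroup G} (hX : IsCj Z X) (hY : IsCj Z Y)
    (hL : IsCj V L) (hXL : X ≤ L) (hYL : Y ≤ L) (hne : X ≠ Y) (hk : k ∈ kx V X) (hy : y ∈ Y) (hy1 : y ≠ 1)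
    (hky : k * y = y * k) : k ∈ centralizer (L : Set G) := by
  refine h.cent_line hX hY hL hXL hYL hne hk ?_
  have h1 : y ∈ cj k Y := by
    rw [mem_cj]
    have e : k⁻¹ * y * k = y := by rw [mul_assoc, ← hky, inv_mul_cancel_left]
    rwa [e]
  exact h.pts_eq (hY.cj _) hY h1 hy hy1

/-- different lines on `R` meet in `R` -/
theorem lines_inf {R L M : Subgroup G} (hR : IsCj Z R) (hL : IsCj V L) (hM : IsCj V M) (hRL : R ≤ L) (hRM : R ≤ M)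
    (hne : L ≠ M) : L ⊓ M = R := by
  refine le_antisymm ?_ (le_inf hRL hRM)
  rintro u ⟨hu, hu'⟩
  by_contra huR
  have hu1 : u ≠ 1 := fun e => huR (e ▸ one_mem _)
  obtain ⟨X, hX, hXL, huX⟩ := h.exists_point hL hu hu1
  obtain ⟨Y, hY, hYM, huY⟩ := h.exists_point hM hu' hu1
  have h1 : X = Y := h.pts_eq hX hY huX huY hu1
  subst h1
  exact hne (h.line_unique hR hX (fun e => huR (e ▸ huX)) hL hM hRL hXL hRM hYM)

/-- `|L : R| = |R|` -/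
theorem relIndex_line (hR : IsCj Z R) (hL : IsCj V L) (hRL : R ≤ L) : R.relIndex L = Nat.card R := by
  have h1 : Nat.card R * R.relIndex L = Nat.card L := by
    rw [Subgroup.relIndex, ← Nat.card_congr (Subgroup.subgroupOfEquivOfLe hRL).toEquiv]
    exact Subgroup.card_mul_index _
  have h2 : Nat.card R = Nat.card Z := h.pl.card_pt hR
  have h3 : 0 < Nat.card R := Nat.card_pos
  rw [h.card_line hL, h.pl.card, ← h2] at h1
  exact Nat.eq_of_mul_eq_mul_left h3 h1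

end Mid

namespace XH

theorem isCjR (x : XH V Z R K L M A B) : IsCj Z R := x.cr.l.right

theorem isCjA (x : XH V Z R K L M A B) : IsCj Z A := x.cr.l.left

theorem isCjB (x : XH V Z R K L M A B) : IsCj Z B := x.cr.r.right

theorem R_le (x : XH V Z R K L M A B) : R ≤ ⁅ws V A, ws V B⁆ := by
  conv_lhs => rw [← x.inf]
  exact inf_le_left

theorem ne_lines (x : XH V Z R K L M A B) (h : Mid S P V Z) : L ≠ M := by
  rintro rfl
  exact h.cr_not_le x.cr x.lM x.BM x.AL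

theorem inf_lines (x : XH V Z R K L M A B) (h : Mid S P V Z) : L ⊓ M = R :=
  h.lines_inf x.isCjR x.lL x.lM x.RL x.RM (x.ne_lines h)

/-- `K = C_K(M) C_K(L)` -/
theorem factor (x : XH V Z R K L M A B) (h : Mid S P V Z) {k : G} (hk : k ∈ K) :
    ∃ k₂ ∈ K, k₂ ∈ centralizer (M : Set G) ∧ ∃ k₁ ∈ K, k₁ ∈ centralizer (L : Set G) ∧ k = k₂ * k₁ := by
  obtain ⟨a, ha, ha1⟩ := h.pt_ne_bot x.isCjA
  have h1 : k * a * k⁻¹ * a⁻¹ ∈ R := (mem_kx.1 (x.KR hk)).2 a (le_ws x.lL x.RL (x.AL ha))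
  obtain ⟨k₂, hk₂, hk₂M, h2⟩ := x.f' a ha ha1 _ h1
  have h3 : k₂ * a * k₂⁻¹ = k * a * k⁻¹ := mul_right_cancel h2
  refine ⟨k₂, hk₂, hk₂M, k₂⁻¹ * k, mul_mem (inv_mem hk₂) hk, ?_, by group⟩
  refine h.cent_line_of_comm x.isCjR x.isCjA x.lL x.RL x.AL x.cr.l.ne.symm
    (mul_mem (inv_mem (x.KR hk₂)) (x.KR hk)) ha ha1 ?_
  calc k₂⁻¹ * k * a = k₂⁻¹ * (k * a * k⁻¹) * k := by group
    _ = a * (k₂⁻¹ * k) := by rw [← h3]; group

/-- **LEMMA X^**, `[K, x] ≤ L M` -/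
theorem mem_sup (x : XH V Z R K L M A B) (h : Mid S P V Z) {k u : G} (hk : k ∈ K) (hu : u ∈ ⁅ws V A, ws V B⁆) :
    k * u * k⁻¹ * u⁻¹ ∈ L ⊔ M := by
  obtain ⟨k₂, hk₂, hk₂M, k₁, hk₁, hk₁L, rfl⟩ := x.factor h hk
  have h1 := x.g k₁ hk₁ hk₁L u hu
  have h2 := x.g' k₂ hk₂ hk₂M u hu
  have h3 : k₂ * (k₁ * u * k₁⁻¹ * u⁻¹) * k₂⁻¹ ∈ L :=
    (mem_normalizer_iff.1 (kx_normalizes x.RL (le_ws x.lL x.RL) (x.KR hk₂)) _).1 h1
  have e : k₂ * k₁ * u * (k₂ * k₁)⁻¹ * u⁻¹ = k₂ * (k₁ * u * k₁⁻¹ * u⁻¹) * k₂⁻¹ * (k₂ * u * k₂⁻¹ * u⁻¹) := by group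
  rw [e]
  exact mul_mem (mem_sup_left h3) (mem_sup_right h2)

/-- the kernel: `k ∈ K_R` with `[k, u] ∈ R`, `u ∈ [W_A, W_B] - R`, fixes the line `M` pointwise. -/
theorem ker (x : XH V Z R K L M A B) (h : Mid S P V Z) {k u : G} (hk : k ∈ K) (hu : u ∈ ⁅ws V A, ws V B⁆)
    (huR : u ∉ R) (hku : k * u * k⁻¹ * u⁻¹ ∈ R) : k ∈ centralizer (M : Set G) := by
  by_contra hkM
  have h1 : cj k B ≠ B := fun e => hkM (h.cent_line x.isCjR x.isCjB x.lM x.RM x.BM x.cr.r.ne (x.KR hk) e)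
  have hkMn : cj k M = M := cj_eq_iff.2 (kx_normalizes x.RM (le_ws x.lM x.RM) (x.KR hk))
  have hBM' : cj k B ≤ M := by rw [← hkMn]; exact cj_le_cj.2 x.BM
  have huB : u ∈ ws V B := (h.comm_le x.cr hu).2
  have h2 : k * u * k⁻¹ ∈ ws V (cj k B) := by
    rw [ws_cj]
    exact conj_mem_cj huB
  have h3 : k * u * k⁻¹ * u⁻¹ ∈ ws V (cj k B) := (x.RM.trans (le_ws x.lM hBM')) hku
  have h4 : u ∈ ws V (cj k B) := by
    have := mul_mem (inv_mem h3) h2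
    have e : (k * u * k⁻¹ * u⁻¹)⁻¹ * (k * u * k⁻¹) = u := by group
    rwa [e] at this
  have h5 : u ∈ ws V R :=
    h.inf_le x.lM x.isCjB (x.isCjB.cj k) x.isCjR x.BM hBM' x.RM (Ne.symm h1) ⟨huB, h4⟩
  exact huR (x.inf ▸ (⟨hu, h5⟩ : u ∈ ⁅ws V A, ws V B⁆ ⊓ ws V R))

/-- `[C_K(L), u] R = L` -/
theorem surj_left (x : XH V Z R K L M A B) (h : Mid S P V Z) {u : G} (hu : u ∈ ⁅ws V A, ws V B⁆) (huR : u ∉ R)
    {v : G} (hv : v ∈ L) : ∃ k ∈ K, k ∈ centralizer (L : Set G) ∧ (k * u * k⁻¹ * u⁻¹)⁻¹ * v ∈ R := by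
  obtain ⟨b, hb, hb1⟩ := h.pt_ne_bot x.isCjB
  choose c hcK hcL hc using fun r : R => x.f b hb hb1 r r.2
  let F : R → L ⧸ R.subgroupOf L := fun r => QuotientGroup.mk ⟨_, x.g (c r) (hcK r) (hcL r) u hu⟩
  have hF : Function.Injective F := by
    intro r r' hrr
    have h1 := QuotientGroup.eq.1 hrr
    rw [mem_subgroupOf] at h1
    simp only [coe_mul, coe_inv] at h1
    -- `c r⁻¹ c r'` centralises `u` modulo `R`
    have h2 : (c r)⁻¹ * c r' * u * ((c r)⁻¹ * c r')⁻¹ * u⁻¹ ∈ R := by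
      have hα := x.g (c r) (hcK r) (hcL r) u hu
      have hβ := x.g (c r') (hcK r') (hcL r') u hu
      have h6 := mem_centralizer_iff.1 (hcL r) _ hα
      have h7 := mem_centralizer_iff.1 (hcL r) _ hβ
      have h8 : c r' * u * (c r')⁻¹ * u⁻¹ * (c r * u * (c r)⁻¹ * u⁻¹)⁻¹ =
          (c r * u * (c r)⁻¹ * u⁻¹)⁻¹ * (c r' * u * (c r')⁻¹ * u⁻¹) :=
        h.ws_comm x.isCjA (le_ws x.lL x.AL hβ) (inv_mem (le_ws x.lL x.AL hα))
      rw [← h8] at h1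
      have h9 : (c r)⁻¹ * u * c r = (c r * u * (c r)⁻¹ * u⁻¹)⁻¹ * u := by
        have e : u = (c r)⁻¹ * ((c r * u * (c r)⁻¹ * u⁻¹) * u * c r) := by group
        have e2 : (c r)⁻¹ * ((c r * u * (c r)⁻¹ * u⁻¹) * u * c r) =
            (c r * u * (c r)⁻¹ * u⁻¹) * ((c r)⁻¹ * u * c r) := by
          rw [eq_comm]
          calc (c r * u * (c r)⁻¹ * u⁻¹) * ((c r)⁻¹ * u * c r)
              = (c r)⁻¹ * (c r * (c r * u * (c r)⁻¹ * u⁻¹)) * (c r)⁻¹ * u * c r := by group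
            _ = (c r)⁻¹ * ((c r * u * (c r)⁻¹ * u⁻¹) * c r) * (c r)⁻¹ * u * c r := by rw [h6]
            _ = (c r)⁻¹ * ((c r * u * (c r)⁻¹ * u⁻¹) * u * c r) := by group
        have e3 := e.trans e2
        rw [eq_inv_mul_iff_mul_eq]
        exact e3.symm
      have e : (c r)⁻¹ * c r' * u * ((c r)⁻¹ * c r')⁻¹ * u⁻¹ =
          (c r)⁻¹ * ((c r' * u * (c r')⁻¹ * u⁻¹) * c r) * ((c r)⁻¹ * u * c r) * u⁻¹ := by group
      rw [e, h7, h9]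
      have e4 : (c r)⁻¹ * (c r * (c r' * u * (c r')⁻¹ * u⁻¹)) * ((c r * u * (c r)⁻¹ * u⁻¹)⁻¹ * u) * u⁻¹ =
          c r' * u * (c r')⁻¹ * u⁻¹ * (c r * u * (c r)⁻¹ * u⁻¹)⁻¹ := by group
      rw [e4]
      exact h1
    have h3 := x.ker h (mul_mem (inv_mem (hcK r)) (hcK r')) hu huR h2
    have h4 := mem_centralizer_iff.1 h3 b (x.BM hb)
    have h5 : c r * b * (c r)⁻¹ = c r' * b * (c r')⁻¹ := by
      calc c r * b * (c r)⁻¹ = c r * (b * ((c r)⁻¹ * c r')) * (c r')⁻¹ := by group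
        _ = _ := by rw [h4]; group
    apply Subtype.ext
    rw [← hc r, ← hc r', h5]
  have hcard : Nat.card (L ⧸ R.subgroupOf L) = Nat.card R := h.relIndex_line x.isCjR x.lL x.RL
  have hFs : Function.Surjective F := (hF.bijective_of_nat_card_le hcard.le).2
  obtain ⟨r, hr⟩ := hFs (QuotientGroup.mk ⟨v, hv⟩)
  have h1 := QuotientGroup.eq.1 hr
  rw [mem_subgroupOf] at h1
  exact ⟨c r, hcK r, hcL r, h1⟩

/-- **LEMMA X^**, the map `k ↦ [k, u] R` of `K` to `L M / R` is onto -/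
theorem surj (x : XH V Z R K L M A B) (h : Mid S P V Z) {u : G} (hu : u ∈ ⁅ws V A, ws V B⁆) (huR : u ∉ R)
    {v : G} (hv : v ∈ L ⊔ M) : ∃ k ∈ K, (k * u * k⁻¹ * u⁻¹)⁻¹ * v ∈ R := by
  have hc : ∀ a ∈ ws V R, ∀ b ∈ ws V R, a * b = b * a := fun a ha b hb => h.ws_comm x.isCjR ha hb
  have hLW : L ≤ ws V R := le_ws x.lL x.RL
  have hMW : M ≤ ws V R := le_ws x.lM x.RM
  obtain ⟨l, hl, m, hm, rfl⟩ := sup_mul_of_comm (fun a ha b hb => hc a (hLW ha) b (hMW hb)) hv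
  obtain ⟨k₁, hk₁, hk₁L, h1⟩ := x.surj_left h hu huR hl
  obtain ⟨k₂, hk₂, hk₂M, h2⟩ := x.symm.surj_left h (by rw [commutator_comm]; exact hu) huR hm
  refine ⟨k₂ * k₁, mul_mem hk₂ hk₁, ?_⟩
  have hα := hLW (x.g k₁ hk₁ hk₁L u hu)
  have hβ := hMW (x.g' k₂ hk₂ hk₂M u hu)
  have e : k₂ * k₁ * u * (k₂ * k₁)⁻¹ * u⁻¹ = k₂ * (k₁ * u * k₁⁻¹ * u⁻¹) * k₂⁻¹ * (k₂ * u * k₂⁻¹ * u⁻¹) := by group
  rw [e]
  set α := k₁ * u * k₁⁻¹ * u⁻¹ with hαd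
  set β := k₂ * u * k₂⁻¹ * u⁻¹ with hβd
  have h3 : k₂ * α * k₂⁻¹ * α⁻¹ ∈ R := (mem_kx.1 (x.KR hk₂)).2 α hα
  have hRW : R ≤ ws V R := x.RL.trans hLW
  have e2 : (k₂ * α * k₂⁻¹ * β)⁻¹ * (l * m) = β⁻¹ * (α⁻¹ * (k₂ * α * k₂⁻¹ * α⁻¹)⁻¹ * l * m) := by group
  rw [e2, hc α⁻¹ (inv_mem hα) _ (inv_mem (hRW h3))]
  have e3 : β⁻¹ * ((k₂ * α * k₂⁻¹ * α⁻¹)⁻¹ * α⁻¹ * l * m) =
      β⁻¹ * (((k₂ * α * k₂⁻¹ * α⁻¹)⁻¹ * (α⁻¹ * l)) * m) := by group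
  have h4 : (k₂ * α * k₂⁻¹ * α⁻¹)⁻¹ * (α⁻¹ * l) ∈ R := mul_mem (inv_mem h3) h1
  rw [e3, hc _ (hRW h4) m (hMW hm), ← mul_assoc]
  exact mul_mem h2 h4

/-- **LEMMA X^**, the comparison of two pairs -/
theorem sup_le (x : XH V Z R K L M A B) (h : Mid S P V Z) (x' : XH V Z R K L' M' A' B') {u u' : G}
    (hu : u ∈ ⁅ws V A, ws V B⁆) (huR : u ∉ R) (hu' : u' ∈ ⁅ws V A', ws V B'⁆) (hw : u' * u⁻¹ ∈ ws V R) :
    L ⊔ M ≤ L' ⊔ M' := by
  intro v hv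
  have hc : ∀ a ∈ ws V R, ∀ b ∈ ws V R, a * b = b * a := fun a ha b hb => h.ws_comm x.isCjR ha hb
  obtain ⟨k, hk, hkv⟩ := x.surj h hu huR hv
  have hLW : L ≤ ws V R := le_ws x.lL x.RL
  have hMW : M ≤ ws V R := le_ws x.lM x.RM
  have hLW' : L' ≤ ws V R := le_ws x'.lL x'.RL
  have hMW' : M' ≤ ws V R := le_ws x'.lM x'.RM
  have h1 : k * u * k⁻¹ * u⁻¹ ∈ ws V R := (_root_.sup_le hLW hMW) (x.mem_sup h hk hu)
  have h2 : k * u' * k⁻¹ * u'⁻¹ ∈ L' ⊔ M' := x'.mem_sup h hk hu'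
  have h3 : k * (u' * u⁻¹) * k⁻¹ * (u' * u⁻¹)⁻¹ ∈ R := (mem_kx.1 (x.KR hk)).2 _ hw
  have hR : R ≤ L' ⊔ M' := x'.RL.trans le_sup_left
  have e : k * u' * k⁻¹ * u'⁻¹ =
      k * (u' * u⁻¹) * k⁻¹ * (u' * u⁻¹)⁻¹ * ((u' * u⁻¹) * (k * u * k⁻¹ * u⁻¹) * (u' * u⁻¹)⁻¹) := by group
  have h4 : (u' * u⁻¹) * (k * u * k⁻¹ * u⁻¹) * (u' * u⁻¹)⁻¹ = k * u * k⁻¹ * u⁻¹ := by
    rw [hc _ hw _ h1, mul_inv_cancel_right]
  rw [h4] at e
  rw [e] at h2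
  have h5 : k * u * k⁻¹ * u⁻¹ ∈ L' ⊔ M' := (mul_mem_cancel_left (hR h3)).1 h2
  exact (mul_mem_cancel_left (inv_mem h5)).1 (hR hkv)

theorem sup_eq (x : XH V Z R K L M A B) (h : Mid S P V Z) (x' : XH V Z R K L' M' A' B') {u u' : G}
    (hu : u ∈ ⁅ws V A, ws V B⁆) (huR : u ∉ R) (hu' : u' ∈ ⁅ws V A', ws V B'⁆) (hw : u' * u⁻¹ ∈ ws V R) :
    L ⊔ M = L' ⊔ M' := by
  refine le_antisymm (x.sup_le h x' hu huR hu' hw) (x'.sup_le h x hu' ?_ hu ?_)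
  · intro e
    have h1 : u ∈ ws V R := by
      have h2 := mul_mem (inv_mem hw) ((x.RL.trans (le_ws x.lL x.RL)) e)
      have e2 : (u' * u⁻¹)⁻¹ * u' = u := by group
      rwa [e2] at h2
    exact huR (x.inf ▸ (⟨hu, h1⟩ : u ∈ ⁅ws V A, ws V B⁆ ⊓ ws V R))
  · have := inv_mem hw
    rwa [mul_inv_rev, inv_inv] at this

/-- the form for two pairs with `W_R [W_A, W_B] = W_R [W_A', W_B']` -/
theorem sup_eq_of_sup (x : XH V Z R K L M A B) (h : Mid S P V Z) (x' : XH V Z R K L' M' A' B')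
    (hne : ⁅ws V A, ws V B⁆ ≠ R) (hle : ⁅ws V A, ws V B⁆ ≤ ws V R ⊔ ⁅ws V A', ws V B'⁆) :
    L ⊔ M = L' ⊔ M' := by
  have h1 : ∃ u ∈ ⁅ws V A, ws V B⁆, u ∉ R := by
    by_contra hcon
    push Not at hcon
    exact hne (le_antisymm hcon x.R_le)
  obtain ⟨u, hu, huR⟩ := h1
  have hn : ⁅ws V A', ws V B'⁆ ≤ normalizer ((ws V R : Subgroup G) : Set G) :=
    (h.comm_le x'.cr).trans (inf_le_left.trans ((h.com _ _ x'.cr.l).trans (centralizer_le_normalizer _)))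
  obtain ⟨w, hw, u', hu', rfl⟩ := sup_mul_of_norm hn (hle hu)
  refine x.sup_eq h x' (u' := u') hu huR hu' ?_
  rw [mul_inv_rev, ← mul_assoc, mul_inv_cancel, one_mul]
  exact inv_mem hw

end XH

/-! ### The graph 'critical' on the lines of `R` -/

/-- the lines `L`, `M` on `R` are joined: some `A ≤ L`, `B ≤ M` are critical with middle point `R` -/
def CrL (V Z R L M : Subgroup G) : Prop :=
  IsCj V L ∧ IsCj V M ∧ R ≤ L ∧ R ≤ M ∧ ∃ A B, A ≤ L ∧ B ≤ M ∧ Cr V Z A R B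

theorem CrL.symm (c : CrL V Z R L M) : CrL V Z R M L := by
  obtain ⟨h1, h2, h3, h4, A, B, h5, h6, h7⟩ := c
  exact ⟨h2, h1, h4, h3, B, A, h6, h5, h7.symm⟩

theorem CrL.conj (c : CrL V Z R L M) (g : G) : CrL V Z (cj g R) (cj g L) (cj g M) := by
  obtain ⟨h1, h2, h3, h4, A, B, h5, h6, h7⟩ := c
  exact ⟨h1.cj g, h2.cj g, cj_le_cj.2 h3, cj_le_cj.2 h4, PT.cj g A, PT.cj g B, cj_le_cj.2 h5, cj_le_cj.2 h6, h7.cj g⟩

theorem CrL.ne (c : CrL V Z R L M) (h : Mid S P V Z) : L ≠ M := by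
  obtain ⟨h1, h2, h3, h4, A, B, h5, h6, h7⟩ := c
  rintro rfl
  exact h.cr_not_le h7 h2 h6 h5

/-- any point `A ≠ R` of `L` is critical to some point of `M` -/
theorem CrL.exists_left (c : CrL V Z R L M) (h : Mid S P V Z) (hA : IsCj Z A) (hAL : A ≤ L) (hAR : A ≠ R) :
    ∃ B ≤ M, Cr V Z A R B := by
  obtain ⟨h1, h2, h3, h4, A', B', h5, h6, h7⟩ := c
  obtain ⟨k, hk, hkA⟩ := h.K_trans h7.l.right h1 h3 h7.l.left h5 hA hAL h7.l.ne hAR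
  have hkn : k ∈ normalizer (R : Set G) := (kx_le_cent.trans (centralizer_le_normalizer _)) hk
  have hkM : cj k M = M := cj_eq_iff.2 (kx_normalizes h4 (le_ws h2 h4) hk)
  refine ⟨cj k B', ?_, ?_⟩
  · rw [← hkM]
    exact cj_le_cj.2 h6
  · have h8 := h7.cj k
    rwa [hkA, cj_eq_iff.2 hkn] at h8

/-- **LEMMA X^ for the graph**: hypotheses for all critical pairs with middle `R`; `A [W_A, W_B]` does not depend on
`B`. -/
structure XG (V Z R K : Subgroup G) : Prop where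
  xh : ∀ A B L M, Cr V Z A R B → IsCj V L → IsCj V M → A ≤ L → R ≤ L → R ≤ M → B ≤ M → XH V Z R K L M A B
  same : ∀ A B B', Cr V Z A R B → Cr V Z A R B' → ⁅ws V A, ws V B⁆ ≤ A ⊔ ⁅ws V A, ws V B'⁆
  ne : ∀ A B, Cr V Z A R B → ⁅ws V A, ws V B⁆ ≠ R

namespace XG

theorem sup_eq (x : XG V Z R K) (h : Mid S P V Z) (c : CrL V Z R L M) (c' : CrL V Z R L M') : L ⊔ M = L ⊔ M' := by
  obtain ⟨h1, h2, h3, h4, A, B, h5, h6, h7⟩ := c
  obtain ⟨B', hB', h8⟩ := c'.exists_left h h7.l.left h5 h7.l.ne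
  obtain ⟨-, h9, -, h10, -⟩ := c'
  refine (x.xh A B L M h7 h1 h2 h5 h3 h4 h6).sup_eq_of_sup h (x.xh A B' L M' h8 h1 h9 h5 h3 h10 hB') (x.ne A B h7) ?_
  exact (x.same A B B' h7 h8).trans (sup_le_sup_right (h.adj_le_ws h7.l.symm) _)

/-- all lines of the component of `L` lie in `L M` -/
theorem comp_le (x : XG V Z R K) (h : Mid S P V Z) (c : CrL V Z R L M) {N : Subgroup G}
    (hN : Relation.ReflTransGen (CrL V Z R) L N) : N ≤ L ⊔ M := by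
  have key : N ≤ L ⊔ M ∧ ∀ N', CrL V Z R N N' → N ⊔ N' = L ⊔ M := by
    induction hN with
    | refl => exact ⟨le_sup_left, fun N' hN' => x.sup_eq h hN' c⟩
    | @tail N N' _ hNN' ih =>
      have h1 := ih.2 N' hNN'
      refine ⟨h1 ▸ le_sup_right, fun N'' hN'' => ?_⟩
      rw [← h1, sup_comm N N']
      exact x.sup_eq h hN'' hNN'.symm
  exact key.1

/-- two edges of the component have the same product -/
theorem comp_eq (x : XG V Z R K) (h : Mid S P V Z) (c : CrL V Z R L M) {N N' : Subgroup G}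
    (hN : Relation.ReflTransGen (CrL V Z R) L N) (hNN' : CrL V Z R N N') : N ⊔ N' = L ⊔ M := by
  have key : ∀ N', CrL V Z R N N' → N ⊔ N' = L ⊔ M := by
    clear hNN' N'
    induction hN with
    | refl => exact fun N' hN' => x.sup_eq h hN' c
    | @tail N N' _ hNN' ih =>
      intro N'' hN''
      rw [← ih N' hNN', sup_comm N N']
      exact x.sup_eq h hN'' hNN'.symm
  exact key N' hNN'

end XG

end Cfsg.Agent.Omega.NO3S.MidQ
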