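import Cfsg.Agent.Omega.NO3S.MidQ.RootA
import Cfsg.Agent.Omega.NO3S.MidQ.XHat
import Cfsg.Agent.Omega.NO3S.MidQ.EAlg

/-!
# NO-3S, `q ≥ 4`, `n = 2`: `e = 1` over `Root`, part 1 (supplement to TEXT 426-1, bb OMEGA #16032, (A), (C))

`(A, B)` critical with middle `R`, `Q = [W_A, W_B]`.

* `Mid.F2p` : (F2') for an arbitrary line;
* `Root.exists_field` : the subfield `F` of order `|X|` whose 1-spaces are the lines of a block;
* `Sd` : the block at `A` containing `R`, with coordinates; `Sd.q_mem`, `Sd.q_surj`, `Sd.R_le`, `Sd.inf` (A);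
* `Sd.card_le` : `|E| ≤ |Z|²`; `Sd.h4` : `[Q, C_{K_R}(L)] ≤ L`; `Root.xh`, `Root.xg` : the hypotheses of LEMMA X^.
-/

set_option autoImplicit false
set_option linter.unusedSectionVars false

namespace Cfsg.Agent.Omega.NO3S.MidQ

open Subgroup Cfsg.Agent.Omega.NO3S.PT Cfsg.Agent.Omega.NoFF.Basic Cfsg.Agent.ZN
open scoped Pointwise

variable {G : Type*} [Group G] {E : Type*} [Field E] {m : ℕ} {V Z X Y A B R L M C : Subgroup G} {τ : Typ E m}
  {c : G → (Fin m → E)}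

variable [Finite G] {S : Sylow 2 G} {P : Subgroup G} {Blk : Subgroup G → Set (Subgroup G)}

/-- (F2') for an arbitrary line -/
theorem Mid.F2p (h : Mid S P V Z) (hL : IsCj V L) (hA : IsCj Z A) (hB : IsCj Z B) (hAL : A ≤ L) (hBL : B ≤ L)
    (hne : A ≠ B) {u : G} (hu : u ∈ ws V A) (hu' : u ∈ ws V B) (huL : u ∉ L) (hY : IsCj Z Y) (hYL : Y ≤ L) {y : G}
    (hy : y ∈ Y) : ∃ d ∈ kx V Y, d ∈ centralizer (L : Set G) ∧ kp d u = y := by
  obtain ⟨T, Q, h'⟩ := h.flag hA hL hAL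
  have h1 := h'.pl.IV_eq h'.hf h'.pl.isCj_self hAL ((isCj_iff hA).2 hB) hBL hne
  rw [ws_of hL, ws_of hL] at h1
  obtain ⟨d, hd, hd1, hd2⟩ := h'.pl.F2' h'.hf h'.hO (by rw [← h1]; exact ⟨hu, hu'⟩) huL ((isCj_iff hA).2 hY) hYL hy
  rw [kx_of hL] at hd
  exact ⟨d, hd, hd1, hd2⟩

namespace Root

variable (h : Root S P V Z τ Blk)
include h

/-- the subfield whose 1-spaces are the lines of the block -/
theorem exists_field (hX : IsCj Z X) {B : Subgroup G} (hB : B ∈ Blk X) (hc : Co V X B C τ c) :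
    ∃ F : Subfield E, Nat.card F = Nat.card X ∧ ∀ L, IsCj V L → X ≤ L → L ≤ B → ∀ a ∈ L, a ∉ X → ∀ b ∈ B,
      (b ∈ L ↔ ∃ l ∈ F, c b = l • c a) := by
  have := h.fin
  obtain ⟨v, hv⟩ := exists_indep h.two (0 : Fin m → E)
  have hv0 : v ≠ 0 := fun e => hv 0 (by rw [zero_smul]; exact e)
  refine ⟨(h.ks hX hB hc le_rfl).lam v hv0, h.card_lam hX hB hc le_rfl hv0, fun L hL hXL hLB a ha haX b hb => ?_⟩
  have h1 := h.line_iff hX hB hc hL hXL hLB le_rfl ha haX hb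
  simp only at h1
  rw [h1]
  have h2 := fun l => (h.ks hX hB hc le_rfl).mem_lam_iff (l := l) (hc.c_ne (hLB ha) haX) hv0
  constructor
  · rintro ⟨l, hl, hl'⟩
    exact ⟨l, (h2 l).1 hl, hl'⟩
  · rintro ⟨l, hl, hl'⟩
    exact ⟨l, (h2 l).2 hl, hl'⟩

theorem sq_one (hX : IsCj Z X) {x : G} (hx : x ∈ X) : x * x = 1 := h.ws_sq hX (h.pt_le_ws hX hx)

/-- `|X| ≥ 4` -/
theorem exists_ne (hX : IsCj Z X) (x₀ : G) : ∃ x ∈ X, x ≠ 1 ∧ x ≠ x₀ := by
  by_contra hcon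
  push Not at hcon
  have h1 : Nat.card X ≤ 2 := by
    have h2 : (X : Set G) ⊆ {1, x₀} := by
      intro x hx
      by_cases h3 : x = 1
      · left; exact h3
      · right; exact hcon x hx h3
    have h3 : (X : Set G).ncard ≤ ({1, x₀} : Set G).ncard := Set.ncard_le_ncard h2 (Set.toFinite _)
    have h4 : ({1, x₀} : Set G).ncard ≤ 2 := Set.ncard_insert_le _ _ |>.trans (by rw [Set.ncard_singleton])
    rw [← Nat.card_coe_set_eq] at h3
    exact h3.trans h4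
  have h2 := h.four
  rw [← h.pl.card_pt hX] at h2
  omega

end Root

/-- **the block at `A` containing `R`**, `(A, B)` critical with middle `R`, with coordinates -/
structure Sd (V Z : Subgroup G) (τ : Typ E m) (Blk : Subgroup G → Set (Subgroup G)) (A R B D C : Subgroup G)
    (c : G → (Fin m → E)) : Prop where
  cr : Cr V Z A R B
  mem : D ∈ Blk A
  le : R ≤ D
  co : Co V A D C τ c
  act : Act V A R B C τ c

namespace Sd

variable {D : Subgroup G} (s : Sd V Z τ Blk A R B D C c) (h : Root S P V Z τ Blk)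
include s h

theorem isCjA : IsCj Z A := s.cr.l.left

theorem isCjR : IsCj Z R := s.cr.l.right

theorem isCjB : IsCj Z B := s.cr.r.right

theorem not_mem {r : G} (hr : r ∈ R) (hr1 : r ≠ 1) : r ∉ A := fun e =>
  s.cr.l.ne (h.pts_eq (s.isCjA h) (s.isCjR h) e hr hr1)

theorem v_ne {r : G} (hr : r ∈ R) (hr1 : r ≠ 1) : c r ≠ 0 := s.co.c_ne (s.le hr) (s.not_mem h hr hr1)

/-- an element of `N_G(A)` centralising some `r ∈ R#` normalises the block -/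
theorem norm_of_comm {g r : G} (hg : g ∈ normalizer (A : Set G)) (hr : r ∈ R) (hr1 : r ≠ 1) (hgr : g * r = r * g) :
    cj g D = D := by
  refine h.norm_blk (s.isCjA h) s.mem hg (s.le hr) (s.not_mem h hr hr1) ?_
  rw [hgr, mul_inv_cancel_right]
  exact s.le hr

theorem wsB_cent : ws V B ≤ centralizer (A : Set G) := h.ws_le_cent s.cr.r.symm s.cr.l.symm

theorem wsB_cent_R : ws V B ≤ centralizer (R : Set G) := h.ws_le_cent' s.cr.r.symm

theorem wsB_norm {w : G} (hw : w ∈ ws V B) : cj w D = D := by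
  obtain ⟨r, hr, hr1⟩ := h.pt_ne_bot (s.isCjR h)
  refine s.norm_of_comm h ((centralizer_le_normalizer _) (s.wsB_cent h hw)) hr hr1 ?_
  exact (mem_centralizer_iff.1 (s.wsB_cent_R h hw) r hr).symm

/-- `[w, x] ∈ D` -/
theorem kp_mem {w x : G} (hw : w ∈ ws V B) (hx : x ∈ ws V A) : kp w x ∈ D := by
  obtain ⟨b, hb, d, hd, rfl⟩ := s.co.sup x hx
  have h1 : kp w (b * d) = kp w b := by
    have h2 := s.act.1 d hd w hw
    simp only [kp]
    calc w * (b * d) * w⁻¹ * (b * d)⁻¹ = w * b * (d * w⁻¹) * d⁻¹ * b⁻¹ := by group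
      _ = w * b * (w⁻¹ * d) * d⁻¹ * b⁻¹ := by rw [(by rw [eq_inv_mul_iff_mul_eq, ← mul_assoc, h2,
          mul_inv_cancel_right] : d * w⁻¹ = w⁻¹ * d)]
      _ = _ := by group
  rw [h1]
  exact mul_mem (h.blk_conj_mem (s.wsB_norm h hw) hb) (inv_mem hb)

theorem conj_ws {w x : G} (hw : w ∈ ws V B) (hx : x ∈ ws V A) : kp w x ∈ ws V A := s.co.BW (s.kp_mem h hw hx)

/-- **the elements of `Q`** -/
theorem q_mem {r : G} (hr : r ∈ R) (hr1 : r ≠ 1) {x : G} (hx : x ∈ ⁅ws V A, ws V B⁆) :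
    x ∈ D ∧ ∃ e : E, c x = e • c r := by
  have key : ⁅ws V A, ws V B⁆ ≤
      { carrier := {x | x ∈ D ∧ ∃ e : E, c x = e • c r}
        one_mem' := ⟨one_mem _, 0, by rw [s.co.c_one, zero_smul]⟩
        mul_mem' := by
          rintro x y ⟨hx, e, he⟩ ⟨hy, e', he'⟩
          exact ⟨mul_mem hx hy, e + e', by rw [s.co.add x (s.co.BW hx) y (s.co.BW hy), he, he', add_smul]⟩
        inv_mem' := by
          rintro x ⟨hx, e, he⟩
          exact ⟨inv_mem hx, -e, by rw [s.co.c_inv (s.co.BW hx), he, neg_smul]⟩ : Subgroup G } := by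
    rw [commutator_le]
    intro a ha w hw
    have h1 : a * w * a⁻¹ * w⁻¹ = (kp w a)⁻¹ := by simp only [kp]; group
    show a * w * a⁻¹ * w⁻¹ ∈ _
    rw [h1]
    refine inv_mem ?_
    obtain ⟨Φ, hΦ⟩ := s.act.2
    obtain ⟨φ, -, hφ⟩ := (hΦ r hr hr1).2.1 w hw
    exact ⟨s.kp_mem h hw ha, φ (c a), hφ a ha⟩
  exact key hx

/-- **`Q` is onto `E v`** -/
theorem q_surj {r : G} (hr : r ∈ R) (hr1 : r ≠ 1) (e : E) : ∃ x ∈ ⁅ws V A, ws V B⁆, c x = e • c r := by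
  obtain ⟨Φ, hΦ⟩ := s.act.2
  obtain ⟨h1, -, h3⟩ := hΦ r hr hr1
  obtain ⟨φ, hφ, u, hu⟩ : ∃ φ ∈ Φ, ∃ u, φ u ≠ 0 := by
    cases τ with
    | sl =>
      by_contra hcon
      push Not at hcon
      apply h1.1
      rw [eq_bot_iff]
      intro φ hφ
      exact LinearMap.ext (hcon φ hφ)
    | sp f =>
      have hv := s.v_ne h hr hr1
      obtain ⟨u, hu⟩ : ∃ u, f (c r) u ≠ 0 := by
        by_contra hcon
        push Not at hcon
        exact hv (h.ok.2 _ hcon)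
      refine ⟨f.flip (c r), (h1 _).2 ⟨1, fun x => by rw [one_mul]; rfl⟩, u, ?_⟩
      rw [LinearMap.flip_apply, Typ.sp_neg h.ok]
      exact neg_ne_zero.2 hu
  obtain ⟨w, hw, hw'⟩ := h3 φ hφ
  obtain ⟨b, hb, hbu⟩ := s.co.surj ((e / φ u) • u)
  refine ⟨kp w b, ?_, ?_⟩
  · have h4 : kp w b = (b * w * b⁻¹ * w⁻¹)⁻¹ := by simp only [kp]; group
    rw [h4]
    exact inv_mem (commutator_mem_commutator (s.co.BW hb) hw)
  · have h5 := hw' b (s.co.BW hb)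
    show c (w * b * w⁻¹ * b⁻¹) = _
    rw [h5, hbu, map_smul, smul_eq_mul, div_mul_cancel₀ _ hu]

/-- `Q ∩ A = 1` -/
theorem q_A {x : G} (hx : x ∈ ⁅ws V A, ws V B⁆) (hxA : x ∈ A) : x = 1 := by
  have h1 := h.comm_inf_left s.cr
  rw [eq_bot_iff] at h1
  exact mem_bot.1 (h1 ⟨hx, hxA⟩)

theorem q_inj {x y : G} (hx : x ∈ ⁅ws V A, ws V B⁆) (hy : y ∈ ⁅ws V A, ws V B⁆) (hxy : c x = c y) : x = y := by
  obtain ⟨r, hr, hr1⟩ := h.pt_ne_bot (s.isCjR h)
  have h1 := s.co.mem_X_of_eq (s.q_mem h hr hr1 hx).1 (s.q_mem h hr hr1 hy).1 hxy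
  exact mul_inv_eq_one.1 (s.q_A h (mul_mem hx (inv_mem hy)) h1)

/-- `|Q| = |E|` -/
theorem card_q : Nat.card (⁅ws V A, ws V B⁆ : Subgroup G) = Nat.card E := by
  obtain ⟨r, hr, hr1⟩ := h.pt_ne_bot (s.isCjR h)
  choose f hf hcf using fun e : E => s.q_surj h hr hr1 e
  symm
  refine Nat.card_congr (Equiv.ofBijective (fun e : E => (⟨f e, hf e⟩ : (⁅ws V A, ws V B⁆ : Subgroup G))) ⟨?_, ?_⟩)
  · intro e e' hee
    have h1 : f e = f e' := congrArg Subtype.val hee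
    have h2 : e • c r = e' • c r := by rw [← hcf, ← hcf, h1]
    exact smul_left_injective E (s.v_ne h hr hr1) h2
  · rintro ⟨x, hx⟩
    obtain ⟨e, he⟩ := (s.q_mem h hr hr1 hx).2
    exact ⟨e, Subtype.ext (s.q_inj h (hf e) hx (by rw [hcf, he]))⟩

/-- `c r'` is a multiple of `c r` -/
theorem c_R {r r' : G} (hr : r ∈ R) (hr1 : r ≠ 1) (hr' : r' ∈ R) : ∃ e : E, c r' = e • c r := by
  obtain ⟨F, -, hF⟩ := h.exists_field (s.isCjA h) s.mem s.co
  obtain ⟨L, hL, hAL, hRL⟩ := s.cr.l.line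
  have hLD : L ≤ D := h.line_le (s.isCjA h) s.mem hL hAL (s.le hr) (hRL hr) (s.not_mem h hr hr1)
  obtain ⟨l, -, hl⟩ := (hF L hL hAL hLD r (hRL hr) (s.not_mem h hr hr1) r' (s.le hr')).1 (hRL hr')
  exact ⟨l, hl⟩

/-- `R ≤ A Q` -/
theorem R_le_mul {r : G} (hr : r ∈ R) : ∃ x ∈ ⁅ws V A, ws V B⁆, r * x⁻¹ ∈ A := by
  obtain ⟨r', hr', hr1⟩ := h.pt_ne_bot (s.isCjR h)
  obtain ⟨e, he⟩ := s.c_R h hr' hr1 hr
  obtain ⟨x, hx, hxe⟩ := s.q_surj h hr' hr1 e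
  exact ⟨x, hx, s.co.mem_X_of_eq (s.le hr) (s.q_mem h hr' hr1 hx).1 (by rw [he, hxe])⟩

end Sd

namespace Root

variable (h : Root S P V Z τ Blk)
include h

theorem exists_sd (hc : Cr V Z A R B) : ∃ (D C : Subgroup G) (c : G → (Fin m → E)), Sd V Z τ Blk A R B D C c ∧
    ∀ R' B', Cr V Z A R' B' → R' ≤ D → Sd V Z τ Blk A R' B' D C c := by
  obtain ⟨L, hL, hAL, hRL⟩ := hc.l.line
  obtain ⟨D, hD, hLD⟩ := h.line A hc.l.left L hL hAL
  obtain ⟨C, c, hco, -, hact⟩ := h.co A hc.l.left D hD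
  have key : ∀ R' B', Cr V Z A R' B' → R' ≤ D → Sd V Z τ Blk A R' B' D C c := fun R' B' hc' hRD =>
    ⟨hc', hD, hRD, hco, hact R' B' hc' hRD⟩
  exact ⟨D, C, c, key R B hc (hRL.trans hLD), key⟩

/-- **`R ≤ Q`** -/
theorem R_le_q (hc : Cr V Z A R B) : R ≤ ⁅ws V A, ws V B⁆ := by
  obtain ⟨D, C, c, s, -⟩ := h.exists_sd hc
  obtain ⟨D', C', c', s', -⟩ := h.exists_sd hc.symm
  intro r hr
  obtain ⟨x, hx, hx'⟩ := s.R_le_mul h hr
  obtain ⟨y, hy, hy'⟩ := s'.R_le_mul h hr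
  rw [commutator_comm] at hy
  -- `r x⁻¹ ∈ A ∩ W_B`
  have h1 : r * x⁻¹ ∈ ws V B := by
    have e : r * x⁻¹ = (r * y⁻¹) * (y * x⁻¹) := by group
    rw [e]
    exact mul_mem (h.pt_le_ws hc.r.right hy') ((h.comm_le hc (mul_mem hy (inv_mem hx))).2)
  have h2 := h.star hc hx' h1
  rw [mul_inv_eq_one] at h2
  rwa [h2]

end Root

/-- the lines of the block are the 1-spaces over `F` -/
def IsF (V X B : Subgroup G) (c : G → (Fin m → E)) (F : Subfield E) : Prop :=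
  ∀ L, IsCj V L → X ≤ L → L ≤ B → ∀ a ∈ L, a ∉ X → ∀ b ∈ B, (b ∈ L ↔ ∃ l ∈ F, c b = l • c a)

/-! ### The action on `E v` -/

/-- `g` acts on `E v` as `σ` -/
def Ga (D : Subgroup G) (c : G → (Fin m → E)) (v : Fin m → E) (g : G) (σ : E ≃+* E) : Prop :=
  ∀ x ∈ D, ∀ e : E, c x = e • v → g * x * g⁻¹ ∈ D ∧ c (g * x * g⁻¹) = σ e • v

theorem Ga.one {D : Subgroup G} {v : Fin m → E} : Ga D c v 1 1 := by
  intro x hx e he
  rw [one_mul, inv_one, mul_one]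
  exact ⟨hx, he⟩

theorem Ga.mul {D : Subgroup G} {v : Fin m → E} {g g' : G} {σ σ' : E ≃+* E} (h : Ga D c v g σ)
    (h' : Ga D c v g' σ') : Ga D c v (g * g') (σ * σ') := by
  intro x hx e he
  obtain ⟨h1, h2⟩ := h' x hx e he
  have h3 := h _ h1 _ h2
  have e1 : g * g' * x * (g * g')⁻¹ = g * (g' * x * g'⁻¹) * g⁻¹ := by group
  rw [e1]
  exact h3

theorem Ga.inv {A D C : Subgroup G} {v : Fin m → E} {g : G} {σ : E ≃+* E} (hco : Co V A D C τ c) (hv : v ≠ 0)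
    (h : Ga D c v g σ) {σ' : E ≃+* E} (h' : Ga D c v g⁻¹ σ') : Ga D c v g⁻¹ σ⁻¹ := by
  have key : ∀ e, σ' e = σ⁻¹ e := by
    intro e
    obtain ⟨x, hx, hxe⟩ := hco.surj (e • v)
    obtain ⟨h1, h2⟩ := h' x hx e hxe
    have h3 := (h _ h1 _ h2).2
    have e1 : g * (g⁻¹ * x * g⁻¹⁻¹) * g⁻¹ = x := by group
    rw [e1, hxe] at h3
    have h4 : σ (σ' e) = e := (smul_left_injective E hv h3).symm
    have h5 : σ⁻¹ (σ (σ' e)) = σ' e := σ.symm_apply_apply _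
    rw [← h5, h4]
  intro x hx e he
  rw [← key]
  exact h' x hx e he

namespace Sd

variable {D : Subgroup G} (s : Sd V Z τ Blk A R B D C c) (h : Root S P V Z τ Blk)
include s h

theorem ga {r g : G} (hr : r ∈ R) (hr1 : r ≠ 1) (hg : g ∈ normalizer (A : Set G)) (hgr : g * r = r * g) :
    ∃ σ : E ≃+* E, Ga D c (c r) g σ := by
  have h1 := s.norm_of_comm h hg hr hr1 hgr
  obtain ⟨σ, T, hT, h2⟩ := s.co.semi g hg h1
  have h3 : T (c r) = c r := by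
    rw [← h2 r (s.le hr), hgr, mul_inv_cancel_right]
  refine ⟨σ, fun x hx e he => ⟨h.blk_conj_mem h1 hx, ?_⟩⟩
  rw [h2 x hx, he, hT.smul, h3]

/-- a group of elements centralising `A` and `R` mapped onto `R`: some `k` acts trivially on `E v`, `[k] ≠ 1` -/
theorem exists_triv {r : G} (hr : r ∈ R) (hr1 : r ≠ 1) (K : Subgroup G) (hKA : K ≤ normalizer (A : Set G))
    (hKR : K ≤ centralizer (R : Set G)) (f : G → G) (hf : ∀ k ∈ K, ∀ k' ∈ K, f (k * k') = f k * f k')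
    (hfR : ∀ k ∈ K, f k ∈ R) (hfs : ∀ r ∈ R, ∃ k ∈ K, f k = r) : ∃ k ∈ K, Ga D c (c r) k 1 ∧ f k ≠ 1 := by
  have := h.fin
  have := h.char
  have hcomm : ∀ k ∈ K, k * r = r * k := fun k hk => (mem_centralizer_iff.1 (hKR hk) r hr).symm
  refine exists_of_cyclic (Ga D c (c r)) K R Ga.one (fun k _ k' _ σ σ' h1 h2 => h1.mul h2) ?_
    (fun k hk => s.ga h hr hr1 (hKA hk) (hcomm k hk)) f hf hfs (fun k hk => h.sq_one (s.isCjR h) (hfR k hk))
    (fun r₀ => h.exists_ne (s.isCjR h) r₀)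
  intro k hk σ hσ
  obtain ⟨σ', hσ'⟩ := s.ga h hr hr1 (hKA (inv_mem hk)) (hcomm _ (inv_mem hk))
  exact hσ.inv s.co (s.v_ne h hr hr1) hσ'

/-- **(A)**: `Q ∩ W_R = R` -/
theorem inf_eq : ⁅ws V A, ws V B⁆ ⊓ ws V R = R := by
  have hA := s.isCjA h
  have hR := s.isCjR h
  obtain ⟨L, hL, hAL, hRL⟩ := s.cr.l.line
  refine le_antisymm ?_ (le_inf (h.R_le_q s.cr) (h.pt_le_ws hR))
  rintro u ⟨huQ, huR⟩
  obtain ⟨r, hr, hr1⟩ := h.pt_ne_bot hR
  by_cases huL : u ∈ L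
  · -- `u = a r'`
    obtain ⟨T, Q, h'⟩ := h.flag hA hL hAL
    obtain ⟨a, ha, r', hr', rfl⟩ := h'.pl.exists_mul h'.pl.isCj_self hAL ((isCj_iff hA).2 hR) hRL s.cr.l.ne huL
    have h1 : a ∈ ⁅ws V A, ws V B⁆ := ((Subgroup.mul_mem_cancel_right _ (h.R_le_q s.cr hr')).1 huQ)
    rw [s.q_A h h1 ha, one_mul]
    exact hr'
  · exfalso
    have huA : u ∈ ws V A := (h.comm_le s.cr huQ).1
    obtain ⟨k, hk, hk1, hk2⟩ := s.exists_triv h hr hr1 (kx V R ⊓ centralizer (L : Set G))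
      (inf_le_right.trans ((centralizer_le hAL).trans (centralizer_le_normalizer _)))
      (inf_le_right.trans (centralizer_le hRL)) (fun k => kp k u)
      (fun k hk k' hk' => h.kp_mul hR hk.1 hk'.1 huR) (fun k hk => h.kp_mem hR hk.1 huR)
      (fun y hy => by
        obtain ⟨d, hd, hd1, hd2⟩ := h.F2p hL hA hR hAL hRL s.cr.l.ne huA huR huL hR hRL hy
        exact ⟨d, ⟨hd, hd1⟩, hd2⟩)
    obtain ⟨huD, e, he⟩ := s.q_mem h hr hr1 huQ
    obtain ⟨h1, h2⟩ := hk1 u huD e he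
    have h3 : kp k u ∈ A := s.co.mem_X_of_eq h1 huD (by rw [h2, he]; rfl)
    exact s.not_mem h (h.kp_mem hR hk.1 huR) hk2 h3

/-! ### `Q ≠ R` -/

/-- `|E| ≤ |R|²` -/
theorem card_le : Nat.card E ≤ Nat.card R * Nat.card R := by
  have hA := s.isCjA h
  have hR := s.isCjR h
  have hB := s.isCjB h
  obtain ⟨L, hL, hAL, hRL⟩ := s.cr.l.line
  obtain ⟨M, hM, hRM, hBM⟩ := s.cr.r.line
  have hLM : L ≠ M := by
    rintro rfl
    exact h.cr_not_le s.cr hM hBM hAL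
  obtain ⟨r, hr, hr1⟩ := h.pt_ne_bot hR
  obtain ⟨a, ha, ha1⟩ := h.pt_ne_bot hA
  obtain ⟨b, hb, hb1⟩ := h.pt_ne_bot hB
  have haR : a ∉ R := fun e => s.cr.l.ne (h.pts_eq hA hR ha e ha1)
  have hbR : b ∉ R := fun e => s.cr.r.ne (h.pts_eq hR hB e hb hb1)
  have hbW : b ∈ ws V R := le_ws hM hRM (hBM hb)
  have haW : a ∈ ws V R := le_ws hL hRL (hAL ha)
  obtain ⟨k, hk, hk1, hk2⟩ := s.exists_triv h hr hr1 (kx V R ⊓ centralizer (L : Set G))
    (inf_le_right.trans ((centralizer_le hAL).trans (centralizer_le_normalizer _)))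
    (inf_le_right.trans (centralizer_le hRL)) (fun k => kp k b)
    (fun k hk k' hk' => h.kp_mul hR hk.1 hk'.1 hbW) (fun k hk => h.kp_mem hR hk.1 hbW)
    (fun y hy => by
      obtain ⟨k, hk, hk1, hk2⟩ := h.two_lines hR hL hRL hM hRM hLM (hAL ha) haR (hBM hb) hbR (one_mem _) hy
      exact ⟨k, ⟨hk, h.cent_line_of_comm hR hA hL hRL hAL s.cr.l.ne.symm hk ha ha1 (kp_eq_one.1 hk1)⟩, hk2⟩)
  -- `x ↦ [k, x]`, `Q / R → A`
  have hQA : (⁅ws V A, ws V B⁆ : Subgroup G) ≤ ws V A := (h.comm_le s.cr).trans inf_le_left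
  have hQB : (⁅ws V A, ws V B⁆ : Subgroup G) ≤ ws V B := (h.comm_le s.cr).trans inf_le_right
  have hkA : ∀ x ∈ ⁅ws V A, ws V B⁆, kp k x ∈ A := by
    intro x hx
    obtain ⟨hxD, e, he⟩ := s.q_mem h hr hr1 hx
    obtain ⟨h1, h2⟩ := hk1 x hxD e he
    exact s.co.mem_X_of_eq h1 hxD (by rw [h2, he]; rfl)
  let f : (⁅ws V A, ws V B⁆ : Subgroup G) →* A :=
    { toFun := fun x => ⟨kp k x, hkA x x.2⟩
      map_one' := Subtype.ext (by simp [kp])
      map_mul' := fun x y => Subtype.ext (by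
        show kp k ((x : G) * (y : G)) = kp k x * kp k y
        exact kp_mul_right (h.comm_X hA (hQA x.2) (hkA y y.2))) }
  have hker : f.ker ≤ R.subgroupOf (⁅ws V A, ws V B⁆ : Subgroup G) := by
    intro x hx
    rw [mem_subgroupOf]
    have h1 : kp k (x : G) = 1 := congrArg Subtype.val hx
    rw [kp_eq_one] at h1
    have h2 : (x : G) ∈ ws V (cj k B) := by
      rw [ws_cj, mem_cj, mul_assoc, ← h1, inv_mul_cancel_left]
      exact hQB x.2
    have hkM : cj k M = M := cj_eq_iff.2 (kx_normalizes hRM (le_ws hM hRM) hk.1)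
    have hBM' : cj k B ≤ M := by rw [← hkM]; exact cj_le_cj.2 hBM
    have h3 : B ≠ cj k B := by
      intro e
      apply hk2
      rw [kp_eq_one]
      exact (mem_centralizer_iff.1 (h.cent_line hR hB hM hRM hBM s.cr.r.ne hk.1 e.symm) b (hBM hb)).symm
    have h4 : (x : G) ∈ ws V R := h.inf_le hM hB (hB.cj k) hR hBM hBM' hRM h3 ⟨hQB x.2, h2⟩
    have h5 : (x : G) ∈ ⁅ws V A, ws V B⁆ ⊓ ws V R := ⟨x.2, h4⟩
    rwa [s.inf_eq h] at h5
  have h1 : Nat.card f.ker * f.ker.index = Nat.card (⁅ws V A, ws V B⁆ : Subgroup G) := f.ker.card_mul_index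
  have h2 : f.ker.index ≤ Nat.card A := by
    rw [Subgroup.index_ker]
    exact Subgroup.card_le_card_group _
  have h3 : Nat.card f.ker ≤ Nat.card R := by
    refine (Subgroup.card_le_of_le hker).trans ?_
    rw [Nat.card_congr (Subgroup.subgroupOfEquivOfLe (h.R_le_q s.cr)).toEquiv]
  have h4 : Nat.card A = Nat.card R := by rw [h.pl.card_pt hA, h.pl.card_pt hR]
  rw [← s.card_q h, ← h1]
  rw [h4] at h2
  exact Nat.mul_le_mul h3 h2

/-- an element centralising `R` acts trivially on the field `F` of the lines -/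
theorem fix_field {F : Subfield E} (hF : IsF V A D c F) {r g : G} (hr : r ∈ R) (hr1 : r ≠ 1)
    (hgR : g ∈ centralizer (R : Set G)) {σ : E ≃+* E} (hσ : Ga D c (c r) g σ) : ∀ l ∈ F, σ l = l := by
  have hA := s.isCjA h
  have hR := s.isCjR h
  obtain ⟨L, hL, hAL, hRL⟩ := s.cr.l.line
  have hrA := s.not_mem h hr hr1
  have hLD : L ≤ D := h.line_le hA s.mem hL hAL (s.le hr) (hRL hr) hrA
  intro l hl
  obtain ⟨b, hb, hbl⟩ := s.co.surj (l • c r)
  have hbL : b ∈ L := (hF L hL hAL hLD r (hRL hr) hrA b hb).2 ⟨l, hl, hbl⟩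
  obtain ⟨T, Q, h'⟩ := h.flag hA hL hAL
  obtain ⟨a, ha, r', hr', rfl⟩ := h'.pl.exists_mul h'.pl.isCj_self hAL ((isCj_iff hA).2 hR) hRL s.cr.l.ne hbL
  rw [s.co.c_mul_X ha (s.co.BW (s.le hr'))] at hbl
  obtain ⟨-, h2⟩ := hσ r' (s.le hr') l hbl
  have h3 : g * r' * g⁻¹ = r' := by
    rw [← mem_centralizer_iff.1 hgR r' hr', mul_inv_cancel_right]
  rw [h3, hbl] at h2
  exact (smul_left_injective E (s.v_ne h hr hr1) h2).symm

/-- **(h4)** : `[Q, C_{K_R}(L)] ≤ L` -/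
theorem h4 (hL : IsCj V L) (hAL : A ≤ L) (hRL : R ≤ L) {k : G} (hkL : k ∈ centralizer (L : Set G)) {x : G}
    (hx : x ∈ ⁅ws V A, ws V B⁆) : kp k x ∈ L := by
  have := h.fin
  have := h.char
  have hA := s.isCjA h
  have hR := s.isCjR h
  obtain ⟨r, hr, hr1⟩ := h.pt_ne_bot hR
  obtain ⟨F, hFc, hF⟩ := h.exists_field hA s.mem s.co
  have hkA : k ∈ normalizer (A : Set G) := ((centralizer_le hAL).trans (centralizer_le_normalizer _)) hkL
  have hkR : k ∈ centralizer (R : Set G) := centralizer_le hRL hkL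
  obtain ⟨σ, hσ⟩ := s.ga h hr hr1 hkA (mem_centralizer_iff.1 hkR r hr).symm
  have hfix := s.fix_field h hF hr hr1 hkR hσ
  have hcard : Nat.card E ≤ Nat.card F * Nat.card F := by
    have h1 := s.card_le h
    rwa [hFc, h.pl.card_pt hA, ← h.pl.card_pt hR]
  obtain ⟨hxD, e, he⟩ := s.q_mem h hr hr1 hx
  obtain ⟨h1, h2⟩ := hσ x hxD e he
  have hrA := s.not_mem h hr hr1
  have hLD : L ≤ D := h.line_le hA s.mem hL hAL (s.le hr) (hRL hr) hrA
  refine (hF L hL hAL hLD r (hRL hr) hrA _ (mul_mem h1 (inv_mem hxD))).2 ⟨σ e + e, aut_add_mem hcard hfix e, ?_⟩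
  rw [s.co.add _ (s.co.BW h1) _ (inv_mem (s.co.BW hxD)), h2, s.co.c_inv (s.co.BW hxD), he, add_smul]
  congr 1
  rw [neg_eq_iff_add_eq_zero, ← add_smul, CharTwo.add_self_eq_zero, zero_smul]

end Sd

namespace Root

variable (h : Root S P V Z τ Blk)
include h

/-- **the hypotheses of LEMMA X^** -/
theorem xh (hc : Cr V Z A R B) (hL : IsCj V L) (hM : IsCj V M) (hAL : A ≤ L) (hRL : R ≤ L) (hRM : R ≤ M)
    (hBM : B ≤ M) : XH V Z R (kx V R) L M A B := by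
  obtain ⟨D, C, c, s, -⟩ := h.exists_sd hc
  obtain ⟨D', C', c', s', -⟩ := h.exists_sd hc.symm
  have hA := hc.l.left
  have hR := hc.l.right
  have hB := hc.r.right
  have hLM : L ≠ M := by
    rintro rfl
    exact h.cr_not_le hc hM hBM hAL
  obtain ⟨a, ha, ha1⟩ := h.pt_ne_bot hA
  obtain ⟨b, hb, hb1⟩ := h.pt_ne_bot hB
  have hAR : ∀ a ∈ A, a ≠ 1 → a ∉ R := fun a ha ha1 e => hc.l.ne (h.pts_eq hA hR ha e ha1)
  have hBR : ∀ b ∈ B, b ≠ 1 → b ∉ R := fun b hb hb1 e => hc.r.ne (h.pts_eq hR hB e hb hb1)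
  refine ⟨hc, hL, hM, hAL, hRL, hRM, hBM, le_rfl, s.inf_eq h, ?_, ?_, ?_, ?_⟩
  · intro b hb hb1 r hr
    obtain ⟨k, hk, hk1, hk2⟩ := h.two_lines hR hL hRL hM hRM hLM (hAL ha) (hAR a ha ha1) (hBM hb) (hBR b hb hb1)
      (one_mem _) hr
    exact ⟨k, hk, h.cent_line_of_comm hR hA hL hRL hAL hc.l.ne.symm hk ha ha1 (kp_eq_one.1 hk1), hk2⟩
  · intro a ha ha1 r hr
    obtain ⟨k, hk, hk1, hk2⟩ := h.two_lines hR hL hRL hM hRM hLM (hAL ha) (hAR a ha ha1) (hBM hb) (hBR b hb hb1)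
      hr (one_mem _)
    exact ⟨k, hk, h.cent_line_of_comm hR hB hM hRM hBM hc.r.ne hk hb hb1 (kp_eq_one.1 hk2), hk1⟩
  · exact fun k _ hkL x hx => s.h4 h hL hAL hRL hkL hx
  · intro k _ hkM x hx
    rw [commutator_comm] at hx
    exact s'.h4 h hM hBM hRM hkM hx

theorem card_q (hc : Cr V Z A R B) : Nat.card (⁅ws V A, ws V B⁆ : Subgroup G) = Nat.card E := by
  obtain ⟨D, C, c, s, -⟩ := h.exists_sd hc
  exact s.card_q h

theorem card_R (hR : IsCj Z R) : Nat.card R = Nat.card Z := h.pl.card_pt hR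

/-- `Q = R` if `|E| ≤ |Z|` -/
theorem q_eq_of_card (hE : Nat.card E ≤ Nat.card Z) (hc : Cr V Z A R B) : ⁅ws V A, ws V B⁆ = R := by
  symm
  refine Subgroup.eq_of_le_of_card_ge (h.R_le_q hc) ?_
  rw [h.card_q hc, h.card_R hc.l.right]
  exact hE

/-- the graph version -/
theorem xg (hE : Nat.card E ≠ Nat.card Z) (hR : IsCj Z R) : XG V Z R (kx V R) where
  xh := fun A B L M hc hL hM hAL hRL hRM hBM => h.xh hc hL hM hAL hRL hRM hBM
  same := by
    intro A B B' hc hc' x hx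
    obtain ⟨D, C, c, s, hs⟩ := h.exists_sd hc
    have s' := hs R B' hc' s.le
    obtain ⟨r, hr, hr1⟩ := h.pt_ne_bot hR
    obtain ⟨hxD, e, he⟩ := s.q_mem h hr hr1 hx
    obtain ⟨y, hy, hye⟩ := s'.q_surj h hr hr1 e
    have h1 := s.co.mem_X_of_eq hxD (s'.q_mem h hr hr1 hy).1 (by rw [he, hye])
    have e1 : x = x * y⁻¹ * y := by group
    rw [e1]
    exact mul_mem (mem_sup_left h1) (mem_sup_right hy)
  ne := by
    intro A B hc e
    apply hE
    rw [← h.card_q hc, e, h.card_R hR]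

end Root

end Cfsg.Agent.Omega.NO3S.MidQ
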