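import Cfsg.Agent.Omega.NO3S.MidQ.EOneLine
import Cfsg.Agent.Omega.NO3S.MidQ.TypeN

/-!
# NO-3S, `q ≥ 4`, `n = 2`: **`e = 1`** over `Root`: `|E| = |Z|` and TYPE N

* `Lc` : the local situation at the middle point `R` of a critical pair `(A, B)`, `|E| ≠ |Z|`;
* `Lc.torus` : `p ∈ F#` is induced on `E v` by an element centralising `R` and `[W_A, W_B]`;
* `Lc.false` : contradiction;
* **`Root.card_E`** : `|E| = |Z|` if there is a critical pair; **`Root.typN`** : `[W_A, W_B] ≤ R`.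
-/

set_option autoImplicit false
set_option linter.unusedSectionVars false

namespace Cfsg.Agent.Omega.NO3S.MidQ

open Subgroup Cfsg.Agent.Omega.NO3S.PT Cfsg.Agent.Omega.NoFF.Basic Cfsg.Agent.ZN
open scoped Pointwise

variable {G : Type*} [Group G] {E : Type*} [Field E] {m : ℕ} {V Z X Y A B R L M C D : Subgroup G} {τ : Typ E m}
  {c : G → (Fin m → E)}

variable [Finite G] {S : Sylow 2 G} {P : Subgroup G} {Blk : Subgroup G → Set (Subgroup G)}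

/-- **the local situation at `R`** -/
structure Lc (V Z : Subgroup G) (τ : Typ E m) (Blk : Subgroup G → Set (Subgroup G)) (A R B L M D C : Subgroup G)
    (c : G → (Fin m → E)) (F : Subfield E) (a b : G) (ζ : E) : Prop where
  hE : Nat.card E ≠ Nat.card Z
  cr : Cr V Z A R B
  lL : IsCj V L
  lM : IsCj V M
  AL : A ≤ L
  RL : R ≤ L
  RM : R ≤ M
  BM : B ≤ M
  mem : D ∈ Blk R
  LD : L ≤ D
  MD : M ≤ D
  co : Co V R D C τ c
  hF : IsF V R D c F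
  cF : Nat.card F = Nat.card Z
  ha : a ∈ A
  a1 : a ≠ 1
  hb : b ∈ B
  b1 : b ≠ 1
  ze : c b = ζ • c a
  zF : ζ ∉ F

theorem Root.exists_lc (h : Root S P V Z τ Blk) (hE : Nat.card E ≠ Nat.card Z) (hc : Cr V Z A R B) :
    ∃ (L M D C : Subgroup G) (c : G → (Fin m → E)) (F : Subfield E) (a b : G) (ζ : E),
      Lc V Z τ Blk A R B L M D C c F a b ζ := by
  have hA := hc.l.left
  have hR := hc.l.right
  have hB := hc.r.right
  obtain ⟨L, hL, hAL, hRL⟩ := hc.l.line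
  obtain ⟨M, hM, hRM, hBM⟩ := hc.r.line
  obtain ⟨D, hD, hLD⟩ := h.line R hR L hL hRL
  obtain ⟨C, c, hco, -⟩ := h.co R hR D hD
  obtain ⟨F, hFc, hF⟩ := h.exists_field hR hD hco
  obtain ⟨a, ha, ha1⟩ := h.pt_ne_bot hA
  obtain ⟨b, hb, hb1⟩ := h.pt_ne_bot hB
  have haR : a ∉ R := fun e => hc.l.ne (h.pts_eq hA hR ha e ha1)
  have hbR : b ∉ R := fun e => hc.r.ne (h.pts_eq hR hB e hb hb1)
  have cl : CrL V Z R L M := ⟨hL, hM, hRL, hRM, A, B, hAL, hBM, hc⟩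
  have hMD := h.crl_blk hE cl hR hD hLD
  obtain ⟨ζ, hζ⟩ := h.crl_in hE cl hR hD hLD hco (hAL ha) haR (hBM hb) hbR
  refine ⟨L, M, D, C, c, F, a, b, ζ, hE, hc, hL, hM, hAL, hRL, hRM, hBM, hD, hLD, hMD, hco, hF,
    hFc.trans (h.card_R hR), ha, ha1, hb, hb1, hζ, fun hζF => ?_⟩
  have hbL : b ∈ L := (hF L hL hRL hLD a (hAL ha) haR b (hMD (hBM hb))).2 ⟨ζ, hζF, hζ⟩
  have h1 := h.line_eq hR hL hRL hM hRM hbL (hBM hb) hbR
  subst h1
  exact h.cr_not_le hc hM hBM hAL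

namespace Lc

variable {F : Subfield E} {a b : G} {ζ : E} (s : Lc V Z τ Blk A R B L M D C c F a b ζ) (h : Root S P V Z τ Blk)
include s h

theorem R' : IsCj Z R := s.cr.l.right

theorem A' : IsCj Z A := s.cr.l.left

theorem B' : IsCj Z B := s.cr.r.right

theorem aR : a ∉ R := fun e => s.cr.l.ne (h.pts_eq (s.A' h) (s.R' h) s.ha e s.a1)

theorem bR : b ∉ R := fun e => s.cr.r.ne (h.pts_eq (s.R' h) (s.B' h) e s.hb s.b1)

theorem v_ne : c a ≠ 0 := s.co.c_ne (s.LD (s.AL s.ha)) (s.aR h)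

theorem ze_ne : ζ ≠ 0 := fun e => s.zF (e ▸ zero_mem _)

theorem LM : L ≠ M := by
  rintro rfl
  exact h.cr_not_le s.cr s.lM s.BM s.AL

theorem xh : XH V Z R (kx V R) L M A B := h.xh s.cr s.lL s.lM s.AL s.RL s.RM s.BM

theorem QR : ∃ x ∈ ⁅ws V A, ws V B⁆, x ∉ R := by
  by_contra hcon
  push Not at hcon
  apply s.hE
  rw [← h.card_q s.cr, ← h.card_R (s.R' h)]
  exact congrArg (fun H : Subgroup G => Nat.card H) (le_antisymm hcon (h.R_le_q s.cr))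

/-- scalars -/
theorem scalar {η : E} (hη : η ≠ 0) : ∃ g ∈ centralizer (R : Set G), ∀ y ∈ D, g * y * g⁻¹ ∈ D ∧
    ∀ e : E, c y = e • c a → c (g * y * g⁻¹) = (η * e) • c a := by
  obtain ⟨A', hA', hAv⟩ := Typ.trans h.ok h.two (s.v_ne h) (smul_ne_zero hη (s.v_ne h))
  obtain ⟨g, hg, hgD, hgc, hgC⟩ := s.co.lift A' hA'
  refine ⟨g, hg, fun y hy => ⟨hgD y hy, fun e he => ?_⟩⟩
  rw [hgc y (s.co.BW hy), he, map_smul, hAv, smul_smul, mul_comm]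

/-- **the torus** : `η²`, `η ∈ F#` -/
theorem torus₀ {η : E} (hη : η ∈ F) (hη0 : η ≠ 0) : ∃ g ∈ centralizer (R : Set G),
    (∀ x ∈ ⁅ws V A, ws V B⁆, g * x = x * g) ∧ ∀ y ∈ D, g * y * g⁻¹ ∈ D ∧
      ∀ e : E, c y = e • c a → c (g * y * g⁻¹) = ((η * η) * e) • c a := by
  have := h.fin
  have := h.char
  have hA := s.A' h
  have hR := s.R' h
  have hB := s.B' h
  obtain ⟨g₁, hg₁, hg₁c⟩ := s.scalar h hη0
  have haD := s.LD (s.AL s.ha)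
  have hbD := s.MD (s.BM s.hb)
  -- `g₁` fixes the lines
  obtain ⟨h1, h2⟩ := hg₁c a haD
  have h2' := h2 1 (by rw [one_smul])
  obtain ⟨h3, h4⟩ := hg₁c b hbD
  have h4' := h4 ζ s.ze
  have ha1L : g₁ * a * g₁⁻¹ ∈ L :=
    (s.hF L s.lL s.RL s.LD a (s.AL s.ha) (s.aR h) _ h1).2 ⟨η * 1, mul_mem hη (one_mem _), h2'⟩
  have hb1M : g₁ * b * g₁⁻¹ ∈ M :=
    (s.hF M s.lM s.RM s.MD b (s.BM s.hb) (s.bR h) _ h3).2 ⟨η, hη, by rw [h4', s.ze, smul_smul]⟩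
  have ha1R : g₁ * a * g₁⁻¹ ∉ R := by
    refine s.co.not_mem ?_
    rw [h2', mul_one]
    exact smul_ne_zero hη0 (s.v_ne h)
  have hb1R : g₁ * b * g₁⁻¹ ∉ R := by
    refine s.co.not_mem ?_
    rw [h4']
    exact smul_ne_zero (mul_ne_zero hη0 (s.ze_ne h)) (s.v_ne h)
  obtain ⟨T, Q, h'⟩ := h.flag hR s.lL s.RL
  obtain ⟨r₁, hr₁, a', ha', hra⟩ := h'.pl.exists_mul h'.pl.isCj_self s.RL ((isCj_iff hR).2 hA) s.AL s.cr.l.ne.symm
    ha1L
  obtain ⟨T', Q', h''⟩ := h.flag hR s.lM s.RM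
  obtain ⟨r₂, hr₂, b', hb', hrb⟩ := h''.pl.exists_mul h''.pl.isCj_self s.RM ((isCj_iff hR).2 hB) s.BM s.cr.r.ne
    hb1M
  obtain ⟨k, hk, hka, hkb⟩ := h.two_lines hR s.lL s.RL s.lM s.RM (s.LM h) ha1L ha1R hb1M hb1R (inv_mem hr₁)
    (inv_mem hr₂)
  have hka' : k * (g₁ * a * g₁⁻¹) * k⁻¹ = a' := by
    have e : k * (g₁ * a * g₁⁻¹) * k⁻¹ = kp k (g₁ * a * g₁⁻¹) * (g₁ * a * g₁⁻¹) := by simp only [kp]; group
    rw [e, hka, hra, inv_mul_cancel_left]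
  have hkb' : k * (g₁ * b * g₁⁻¹) * k⁻¹ = b' := by
    have e : k * (g₁ * b * g₁⁻¹) * k⁻¹ = kp k (g₁ * b * g₁⁻¹) * (g₁ * b * g₁⁻¹) := by simp only [kp]; group
    rw [e, hkb, hrb, inv_mul_cancel_left]
  have ha'1 : a' ≠ 1 := by
    rintro rfl
    rw [mul_one] at hra
    exact ha1R (hra ▸ hr₁)
  have hb'1 : b' ≠ 1 := by
    rintro rfl
    rw [mul_one] at hrb
    exact hb1R (hrb ▸ hr₂)
  set g₀ := k * g₁ with hg₀
  have hg₀A : cj g₀ A = A := by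
    refine h.pts_eq (hA.cj _) hA ?_ ha' ha'1
    have := conj_mem_cj (g := g₀) s.ha
    have e : g₀ * a * g₀⁻¹ = k * (g₁ * a * g₁⁻¹) * k⁻¹ := by rw [hg₀]; group
    rwa [e, hka'] at this
  have hg₀B : cj g₀ B = B := by
    refine h.pts_eq (hB.cj _) hB ?_ hb' hb'1
    have := conj_mem_cj (g := g₀) s.hb
    have e : g₀ * b * g₀⁻¹ = k * (g₁ * b * g₁⁻¹) * k⁻¹ := by rw [hg₀]; group
    rwa [e, hkb'] at this
  have hg₀R : g₀ ∈ centralizer (R : Set G) := mul_mem (kx_le_cent hk) hg₁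
  have hQ : ∀ x ∈ ⁅ws V A, ws V B⁆, g₀ * x * g₀⁻¹ ∈ ⁅ws V A, ws V B⁆ := by
    intro x hx
    have := conj_mem_comm (g := g₀) hx
    rwa [hg₀A, hg₀B] at this
  -- the action on `E c_A(r)`
  obtain ⟨r, hr, hr1⟩ := h.pt_ne_bot hR
  obtain ⟨DA, CA, cA, t, -⟩ := h.exists_sd s.cr
  obtain ⟨FA, hFAc, hFA⟩ := h.exists_field hA t.mem t.co
  obtain ⟨σ, hσ⟩ := t.ga h hr hr1 (cj_eq_iff.1 hg₀A) (mem_centralizer_iff.1 hg₀R r hr).symm
  have hfix := t.fix_field h hFA hr hr1 hg₀R hσ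
  have hcard : Nat.card E ≤ Nat.card FA * Nat.card FA := by
    have h1 := t.card_le h
    rwa [hFAc, h.pl.card_pt hA, ← h.pl.card_pt hR]
  have hσ2 := hσ.mul hσ
  refine ⟨g₀ * g₀, mul_mem hg₀R hg₀R, fun x hx => ?_, fun y hy => ?_⟩
  · obtain ⟨hxD, e, he⟩ := t.q_mem h hr hr1 hx
    obtain ⟨-, h6⟩ := hσ2 x hxD e he
    have h7 : (σ * σ) e = e := aut_sq hcard hfix e
    rw [h7, ← he] at h6
    have h8 : g₀ * g₀ * x * (g₀ * g₀)⁻¹ ∈ ⁅ws V A, ws V B⁆ := by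
      have e1 : g₀ * g₀ * x * (g₀ * g₀)⁻¹ = g₀ * (g₀ * x * g₀⁻¹) * g₀⁻¹ := by group
      rw [e1]
      exact hQ _ (hQ x hx)
    have h9 := t.q_inj h h8 hx h6
    rwa [mul_inv_eq_iff_eq_mul] at h9
  · have key : ∀ y ∈ D, g₀ * y * g₀⁻¹ ∈ D ∧ ∀ e : E, c y = e • c a → c (g₀ * y * g₀⁻¹) = (η * e) • c a := by
      intro y hy
      obtain ⟨h5, h6⟩ := hg₁c y hy
      have e1 : g₀ * y * g₀⁻¹ = k * (g₁ * y * g₁⁻¹) * k⁻¹ := by rw [hg₀]; group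
      rw [e1]
      refine ⟨h.kx_mem_blk hR s.co hk h5, fun e he => ?_⟩
      rw [h.c_kx hR s.co hk (s.co.BW h5), h6 e he]
    obtain ⟨h5, h6⟩ := key y hy
    obtain ⟨h7, h8⟩ := key _ h5
    have e1 : g₀ * g₀ * y * (g₀ * g₀)⁻¹ = g₀ * (g₀ * y * g₀⁻¹) * g₀⁻¹ := by group
    rw [e1]
    refine ⟨h7, fun e he => ?_⟩
    rw [h8 _ (h6 e he), mul_assoc]

/-- **the torus** -/
theorem torus {p : E} (hp : p ∈ F) (hp0 : p ≠ 0) : ∃ g ∈ centralizer (R : Set G),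
    (∀ x ∈ ⁅ws V A, ws V B⁆, g * x = x * g) ∧ ∀ y ∈ D, g * y * g⁻¹ ∈ D ∧
      ∀ e : E, c y = e • c a → c (g * y * g⁻¹) = (p * e) • c a := by
  have := h.fin
  have := h.char
  have hch : ringChar F = 2 := by
    have : CharP F 2 := RingHom.charP (Subfield.subtype F) (Subfield.subtype F).injective 2
    exact ringChar.eq F 2
  obtain ⟨q, hq⟩ := FiniteField.isSquare_of_char_two hch (⟨p, hp⟩ : F)
  have hq' : p = (q : E) * (q : E) := congrArg Subtype.val hq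
  obtain ⟨g, hg, hg1, hg2⟩ := s.torus₀ h q.2 (fun e => hp0 (by rw [hq', e, mul_zero]))
  refine ⟨g, hg, hg1, ?_⟩
  rw [hq']
  exact hg2

/-! ### The two functions of `k ∈ K_R` -/

/-- `D ∋ y(e)`, `c (y(e)) = e v` -/
theorem exists_y (e : E) : ∃ y ∈ D, c y = e • c a := s.co.surj _

/-- the line over `e v` -/
theorem exists_line {e : E} (he : e ≠ 0) {y : G} (hy : y ∈ D) (hye : c y = e • c a) :
    y ∉ R ∧ ∃ N, IsCj V N ∧ R ≤ N ∧ N ≤ D ∧ y ∈ N := by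
  have hyR : y ∉ R := s.co.not_mem (by rw [hye]; exact smul_ne_zero he (s.v_ne h))
  exact ⟨hyR, h.exists_line_le (s.R' h) s.mem hy hyR⟩

/-- `k ∈ K_R` centralising `y` centralises the line of `y` -/
theorem cent_N {N : Subgroup G} (hN : IsCj V N) (hRN : R ≤ N) {y k : G} (hy : y ∈ N) (hyR : y ∉ R)
    (hk : k ∈ kx V R) (hky : kp k y = 1) : k ∈ centralizer (N : Set G) := by
  have hy1 : y ≠ 1 := fun e => hyR (e ▸ one_mem _)
  obtain ⟨T, hT, hTN, hyT⟩ := h.exists_point hN hy hy1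
  exact h.cent_line_of_comm (s.R' h) hT hN hRN hTN (fun e => hyR (e ▸ hyT)) hk hyT hy1 (kp_eq_one.1 hky)

theorem kap_congr {k y y' : G} (hk : k ∈ kx V R) (hy : y ∈ D) (hy' : y' ∈ D) (hyy : c y = c y') :
    kp k y = kp k y' :=
  h.kp_congr (s.R' h) hk (s.co.BW hy) (s.co.BW hy') (s.co.mem_X_of_eq hy hy' hyy)

/-- additivity -/
theorem kap_add {k y y' y'' : G} {e e' : E} (hk : k ∈ kx V R) (hy : y ∈ D) (hy' : y' ∈ D) (hy'' : y'' ∈ D)
    (h1 : c y = e • c a) (h2 : c y' = e' • c a) (h3 : c y'' = (e + e') • c a) : kp k y'' = kp k y * kp k y' := by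
  rw [← h.kp_add (s.R' h) hk (s.co.BW hy) (s.co.BW hy')]
  refine s.kap_congr h hk hy'' (mul_mem hy hy') ?_
  rw [s.co.add _ (s.co.BW hy) _ (s.co.BW hy'), h1, h2, h3, add_smul]

/-- conjugation by a torus element -/
theorem kap_conj {g k y y' : G} {p e : E} (hp : p ≠ 0) (hg : g ∈ centralizer (R : Set G))
    (hgy : ∀ y ∈ D, g * y * g⁻¹ ∈ D ∧ ∀ e : E, c y = e • c a → c (g * y * g⁻¹) = (p * e) • c a)
    (hk : k ∈ kx V R) (hy : y ∈ D) (hy' : y' ∈ D) (h1 : c y = e • c a) (h2 : c y' = (p⁻¹ * e) • c a) :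
    kp (g * k * g⁻¹) y = kp k y' := by
  have hR := s.R' h
  have hgk : g * k * g⁻¹ ∈ kx V R := by
    have := h.kx_conj hR (centralizer_le_normalizer _ (inv_mem hg)) hk
    rwa [inv_inv] at this
  obtain ⟨h3, h4⟩ := hgy y' hy'
  have h5 : kp (g * k * g⁻¹) y = kp (g * k * g⁻¹) (g * y' * g⁻¹) := by
    refine s.kap_congr h hgk hy h3 ?_
    rw [h4 _ h2, h1, ← mul_assoc, mul_inv_cancel₀ hp, one_mul]
  rw [h5]
  have e1 : kp (g * k * g⁻¹) (g * y' * g⁻¹) = g * kp k y' * g⁻¹ := by simp only [kp]; group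
  rw [e1, ← mem_centralizer_iff.1 hg _ (h.kp_mem hR hk (s.co.BW hy')), mul_inv_cancel_right]

variable {x : G} (hx : x ∈ ⁅ws V A, ws V B⁆)
include hx

theorem xi_exists {k : G} (hk : k ∈ kx V R) : kp k x ∈ D ∧ ∃ e : E, c (kp k x) = e • c a := by
  have hR := s.R' h
  have h1 := (s.xh h).mem_sup h.toMid hk hx
  obtain ⟨l, hl, l', hl', he⟩ := h.mem_sup_lines hR s.lL s.RL s.lM s.RM h1
  have h2 : kp k x = l * l' := he
  obtain ⟨t, -, ht⟩ := (s.hF L s.lL s.RL s.LD a (s.AL s.ha) (s.aR h) l (s.LD hl)).1 hl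
  obtain ⟨t', -, ht'⟩ := (s.hF M s.lM s.RM s.MD b (s.BM s.hb) (s.bR h) l' (s.MD hl')).1 hl'
  rw [h2]
  refine ⟨mul_mem (s.LD hl) (s.MD hl'), t + t' * ζ, ?_⟩
  rw [s.co.add _ (s.co.BW (s.LD hl)) _ (s.co.BW (s.MD hl')), ht, ht', s.ze, smul_smul, add_smul]

/-- `ξ(k) v = c([k, x])`: `ξ` is additive -/
theorem xi_mul {k k' : G} {e e' : E} (hk : k ∈ kx V R) (hk' : k' ∈ kx V R) (h1 : c (kp k x) = e • c a)
    (h2 : c (kp k' x) = e' • c a) : c (kp (k * k') x) = (e + e') • c a := by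
  have hR := s.R' h
  have hW := s.co.BW (s.xi_exists h hx hk).1
  have hW' := s.co.BW (s.xi_exists h hx hk').1
  have e1 : kp (k * k') x = k * kp k' x * k⁻¹ * kp k x := by simp only [kp]; group
  have hW'' : k * kp k' x * k⁻¹ ∈ ws V R :=
    h.ws_conj hR ((kx_le_cent.trans (centralizer_le_normalizer _)) hk) hW'
  rw [e1, s.co.add _ hW'' _ hW, h.c_kx hR s.co hk hW', h1, h2, add_comm, add_smul]

theorem xi_inv {k : G} {e : E} (hk : k ∈ kx V R) (h1 : c (kp k x) = e • c a) : c (kp k⁻¹ x) = (-e) • c a := by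
  obtain ⟨e', he'⟩ := (s.xi_exists h hx (inv_mem hk)).2
  have h2 := s.xi_mul h hx hk (inv_mem hk) h1 he'
  rw [mul_inv_cancel] at h2
  have h3 : kp 1 x = 1 := by simp [kp]
  rw [h3, s.co.c_one] at h2
  have h4 : e + e' = 0 := by
    rcases smul_eq_zero.1 h2.symm with h5 | h5
    · exact h5
    · exact absurd h5 (s.v_ne h)
  rw [he', eq_neg_of_add_eq_zero_right h4]

theorem xi_conj {g k : G} {p e : E} (hg1 : g * x = x * g)
    (hgy : ∀ y ∈ D, g * y * g⁻¹ ∈ D ∧ ∀ e : E, c y = e • c a → c (g * y * g⁻¹) = (p * e) • c a)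
    (hk : k ∈ kx V R) (h1 : c (kp k x) = e • c a) : c (kp (g * k * g⁻¹) x) = (p * e) • c a := by
  have e1 : kp (g * k * g⁻¹) x = g * kp k x * g⁻¹ := by
    have e2 : g⁻¹ * x = x * g⁻¹ := by
      rw [inv_mul_eq_iff_eq_mul, ← mul_assoc, hg1, mul_inv_cancel_right]
    have e3 : g⁻¹ * x⁻¹ = x⁻¹ * g⁻¹ := by
      rw [← mul_inv_rev, ← mul_inv_rev, hg1]
    simp only [kp]
    calc g * k * g⁻¹ * x * (g * k * g⁻¹)⁻¹ * x⁻¹ = g * k * (g⁻¹ * x) * g * k⁻¹ * (g⁻¹ * x⁻¹) := by group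
      _ = g * k * (x * g⁻¹) * g * k⁻¹ * (x⁻¹ * g⁻¹) := by rw [e2, e3]
      _ = _ := by group
  rw [e1]
  exact (hgy _ (s.xi_exists h hx hk).1).2 e h1

omit hx in
theorem kx_cj {g k : G} (hg : g ∈ centralizer (R : Set G)) (hk : k ∈ kx V R) : g * k * g⁻¹ ∈ kx V R := by
  have := h.kx_conj (s.R' h) (centralizer_le_normalizer _ (inv_mem hg)) hk
  rwa [inv_inv] at this

/-- the kernel -/
theorem xi_ne (hxR : x ∉ R) {k : G} {e : E} (hk : k ∈ kx V R) (hkb : kp k b ≠ 1) (h1 : c (kp k x) = e • c a) :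
    e ≠ 0 := by
  rintro rfl
  rw [zero_smul] at h1
  have h2 : kp k x ∈ R := s.co.mem_X (s.xi_exists h hx hk).1 h1
  have h3 := (s.xh h).ker h.toMid hk hx hxR h2
  exact hkb (kp_eq_one.2 (mem_centralizer_iff.1 h3 b (s.BM s.hb)).symm)

/-- **the first step**: `|F| = 4` -/
theorem card_F (hxR : x ∉ R) : Nat.card F ≤ 4 := by
  have := h.fin
  have := h.char
  have hR := s.R' h
  have haD := s.LD (s.AL s.ha)
  have hbD := s.MD (s.BM s.hb)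
  obtain ⟨ρ, hρ, hρ1⟩ := h.pt_ne_bot hR
  obtain ⟨k, hk, hka, hkb⟩ := h.two_lines hR s.lL s.RL s.lM s.RM (s.LM h) (s.AL s.ha) (s.aR h) (s.BM s.hb)
    (s.bR h) (one_mem _) hρ
  obtain ⟨e, he⟩ := (s.xi_exists h hx hk).2
  have he0 : e ≠ 0 := s.xi_ne h hx hxR hk (by rw [hkb]; exact hρ1) he
  refine card_le_four (end_one ?_)
  intro p hp q hq hp0 hq0 hpq
  obtain ⟨g, hg, hg1, hg2⟩ := s.torus h hp hp0
  obtain ⟨g', hg', hg1', hg2'⟩ := s.torus h hq hq0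
  have hgk := s.kx_cj h hg hk
  have hgk' := s.kx_cj h hg' hk
  -- `k' = k^g k^g' k⁻¹` centralises `L` and `M`
  have key : ∀ y ∈ D, ∀ t : E, c y = t • c a → kp (g * k * g⁻¹ * (g' * k * g'⁻¹)) y = kp k y := by
    intro y hy t hyt
    obtain ⟨y₁, hy₁, hy₁t⟩ := s.co.surj ((p⁻¹ * t) • c a)
    obtain ⟨y₂, hy₂, hy₂t⟩ := s.co.surj ((q⁻¹ * t) • c a)
    rw [h.kp_mul hR hgk hgk' (s.co.BW hy), s.kap_conj h hp0 hg hg2 hk hy hy₁ hyt hy₁t,
      s.kap_conj h hq0 hg' hg2' hk hy hy₂ hyt hy₂t]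
    refine (s.kap_add h hk hy₁ hy₂ hy hy₁t hy₂t ?_).symm
    rw [hyt, ← add_mul, hpq, one_mul]
  have hk' : g * k * g⁻¹ * (g' * k * g'⁻¹) * k⁻¹ ∈ kx V R := mul_mem (mul_mem hgk hgk') (inv_mem hk)
  have hone : ∀ y ∈ D, ∀ t : E, c y = t • c a → kp (g * k * g⁻¹ * (g' * k * g'⁻¹) * k⁻¹) y = 1 := by
    intro y hy t hyt
    rw [h.kp_mul hR (mul_mem hgk hgk') (inv_mem hk) (s.co.BW hy), key y hy t hyt, h.kp_inv hR hk (s.co.BW hy),
      mul_inv_cancel]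
  have hL' := s.cent_N h s.lL s.RL (s.AL s.ha) (s.aR h) hk' (hone a haD 1 (by rw [one_smul]))
  have hM' := s.cent_N h s.lM s.RM (s.BM s.hb) (s.bR h) hk' (hone b hbD ζ s.ze)
  have h1 := (s.xh h).g _ hk' hL' x hx
  have h2 := (s.xh h).g' _ hk' hM' x hx
  have h3 : kp (g * k * g⁻¹ * (g' * k * g'⁻¹) * k⁻¹) x ∈ R := by
    have h4 : kp (g * k * g⁻¹ * (g' * k * g'⁻¹) * k⁻¹) x ∈ L ⊓ M := ⟨h1, h2⟩
    rwa [(s.xh h).inf_lines h.toMid] at h4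
  have h4 := s.xi_mul h hx (mul_mem hgk hgk') (inv_mem hk)
    (s.xi_mul h hx hgk hgk' (s.xi_conj h hx (hg1 x hx) hg2 hk he) (s.xi_conj h hx (hg1' x hx) hg2' hk he))
    (s.xi_inv h hx hk he)
  rw [s.co.c_X h3] at h4
  rcases smul_eq_zero.1 h4.symm with h5 | h5
  · have h6 : (p + q - 1) * e = 0 := by
      rw [← h5]; ring
    rcases mul_eq_zero.1 h6 with h7 | h7
    · exact sub_eq_zero.1 h7
    · exact absurd h7 he0
  · exact absurd h5 (s.v_ne h)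

omit hx in
theorem indep {s₁ t₁ s₂ t₂ : E} (h1 : s₁ ∈ F) (h2 : t₁ ∈ F) (h3 : s₂ ∈ F) (h4 : t₂ ∈ F)
    (he : s₁ + t₁ * ζ = s₂ + t₂ * ζ) : s₁ = s₂ ∧ t₁ = t₂ := by
  have h5 : (t₁ - t₂) * ζ = s₂ - s₁ := by
    rw [sub_mul, sub_eq_sub_iff_add_eq_add, add_comm, he]
  have h6 : t₁ = t₂ := by
    by_contra hne
    have h7 : t₁ - t₂ ≠ 0 := sub_ne_zero.2 hne
    apply s.zF
    have h8 : ζ = (s₂ - s₁) / (t₁ - t₂) := by rw [← h5, mul_comm, mul_div_cancel_right₀ _ h7]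
    rw [h8]
    exact div_mem (sub_mem h3 h1) (sub_mem h2 h4)
  refine ⟨?_, h6⟩
  rw [h6] at he
  exact add_right_cancel he

omit hx in
/-- **all lines of the `E`-line are in the component** if `|F| = 4` -/
theorem all_comp (hF4 : Nat.card F = 4) (hE : Nat.card E = 16) {e : E} (he : e ≠ 0) {N : Subgroup G}
    (hN : IsCj V N) (hRN : R ≤ N) {y : G} (hyN : y ∈ N) (hy : y ∈ D) (hye : c y = e • c a) :
    Relation.ReflTransGen (CrL V Z R) L N := by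
  have := h.fin
  have hR := s.R' h
  have cl : CrL V Z R L M := ⟨s.lL, s.lM, s.RL, s.RM, A, B, s.AL, s.BM, s.cr⟩
  let DD : Set E := {e | e ≠ 0 ∧ ∀ N, IsCj V N → R ≤ N → ∀ y ∈ N, y ∈ D → c y = e • c a →
    Relation.ReflTransGen (CrL V Z R) L N}
  have hDD : e ∈ DD := by
    refine all_of_four hF4 hE DD ?_ ?_ (ζ := ζ) ?_ s.zF e he
    · rintro e ⟨he, h1⟩ e' ⟨he', h2⟩
      refine ⟨mul_ne_zero he he', ?_⟩
      intro N hN hRN y hyN hy hye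
      obtain ⟨g, hg, hg1⟩ := s.scalar h he
      have hgR : PT.cj g R = R := cj_eq_iff.2 (centralizer_le_normalizer _ hg)
      obtain ⟨y', hy', hye'⟩ := s.co.surj (e' • c a)
      obtain ⟨hyR', N', hN', hRN', -, hyN'⟩ := s.exists_line h he' hy' hye'
      obtain ⟨h3, h4⟩ := hg1 y' hy'
      have h5 := h4 e' hye'
      have h6 : y ∈ PT.cj g N' := by
        have h7 : y * (g * y' * g⁻¹)⁻¹ ∈ R := s.co.mem_X_of_eq hy h3 (by rw [h5, hye])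
        have e1 : y = y * (g * y' * g⁻¹)⁻¹ * (g * y' * g⁻¹) := by group
        rw [e1]
        refine mul_mem ?_ (conj_mem_cj hyN')
        have h8 : R ≤ PT.cj g N' := by rw [← hgR]; exact cj_le_cj.2 hRN'
        exact h8 h7
      have hyR : y ∉ R := (s.exists_line h (mul_ne_zero he he') hy hye).1
      have h7 : N = PT.cj g N' := h.line_eq hR hN hRN (hN'.cj g) (by rw [← hgR]; exact cj_le_cj.2 hRN') hyN h6 hyR
      have h8 : Relation.ReflTransGen (CrL V Z R) (PT.cj g L) (PT.cj g N') := by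
        refine Relation.ReflTransGen.lift (PT.cj g) ?_ _ _ (h2 N' hN' hRN' y' hyN' hy' hye')
        intro N₁ N₂ h9
        have := h9.conj g
        rwa [hgR] at this
      have haD := s.LD (s.AL s.ha)
      obtain ⟨h9, h10⟩ := hg1 a haD
      have h11 : Relation.ReflTransGen (CrL V Z R) L (PT.cj g L) :=
        h1 (PT.cj g L) (s.lL.cj g) (by rw [← hgR]; exact cj_le_cj.2 s.RL) _ (conj_mem_cj (s.AL s.ha)) h9
          (by rw [h10 1 (by rw [one_smul]), mul_one])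
      rw [h7]
      exact h11.trans h8
    · intro e heF he
      refine ⟨he, fun N hN hRN y hyN hy hye => ?_⟩
      have hyR : y ∉ R := (s.exists_line h he hy hye).1
      have h1 : y ∈ L := (s.hF L s.lL s.RL s.LD a (s.AL s.ha) (s.aR h) y hy).2 ⟨e, heF, hye⟩
      have h2 : L = N := h.line_eq hR s.lL s.RL hN hRN h1 hyN hyR
      rw [h2]
    · refine ⟨s.ze_ne h, fun N hN hRN y hyN hy hye => ?_⟩
      have hyR : y ∉ R := (s.exists_line h (s.ze_ne h) hy hye).1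
      have h1 : y ∈ M :=
        (s.hF M s.lM s.RM s.MD b (s.BM s.hb) (s.bR h) y hy).2 ⟨1, one_mem _, by rw [hye, s.ze, one_smul]⟩
      have h2 : M = N := h.line_eq hR s.lM s.RM hN hRN h1 hyN hyR
      rw [← h2]
      exact Relation.ReflTransGen.single cl
  exact hDD.2 N hN hRN y hyN hy hye

omit hx in
/-- (**) -/
theorem kap_line {k y y' : G} {e l : E} (he : e ≠ 0) (hk : k ∈ kx V R) (hy : y ∈ D) (hy' : y' ∈ D)
    (h1 : c y = e • c a) (hl : l ∈ F) (h2 : c y' = (l * e) • c a) (hky : kp k y = 1) : kp k y' = 1 := by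
  obtain ⟨hyR, N, hN, hRN, hND, hyN⟩ := s.exists_line h he hy h1
  have h3 := s.cent_N h hN hRN hyN hyR hk hky
  have h4 : y' ∈ N := (s.hF N hN hRN hND y hyN hyR y' hy').2 ⟨l, hl, by rw [h2, h1, smul_smul]⟩
  exact kp_eq_one.2 (mem_centralizer_iff.1 h3 y' h4).symm

/-- (*) -/
theorem xi_line (hF4 : Nat.card F = 4) (hE : Nat.card E = 16) {k y : G} {e : E} (he : e ≠ 0) (hk : k ∈ kx V R)
    (hy : y ∈ D) (h1 : c y = e • c a) (hky : kp k y = 1) : ∃ l ∈ F, c (kp k x) = (l * e) • c a := by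
  obtain ⟨hyR, N, hN, hRN, hND, hyN⟩ := s.exists_line h he hy h1
  have h3 := s.cent_N h hN hRN hyN hyR hk hky
  have h4 := s.all_comp h hF4 hE he hN hRN hyN hy h1
  have h5 : kp k x ∈ N := h.comp_h4 s.hE s.cr s.lL s.RL s.AL h4 hk h3 hx
  obtain ⟨l, hl, h6⟩ := (s.hF N hN hRN hND y hyN hyR _ (s.xi_exists h hx hk).1).1 h5
  exact ⟨l, hl, by rw [h6, h1, smul_smul]⟩

omit hx in
/-- **contradiction** -/
theorem false : False := by
  have := h.fin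
  have := h.char
  have hR := s.R' h
  obtain ⟨x, hx, hxR⟩ := s.QR h
  have hF4 : Nat.card F = 4 := le_antisymm (s.card_F h hx hxR) (s.cF ▸ h.four)
  have hE16 : Nat.card E = 16 := by
    obtain ⟨DA, CA, cA, t, -⟩ := h.exists_sd s.cr
    have h1 := t.card_le h
    rw [h.card_R hR, ← s.cF, hF4] at h1
    have h2 : F ≠ ⊤ := by
      intro e
      apply s.zF
      rw [e]
      trivial
    have h3 := sq_le_card h2
    rw [hF4] at h3
    omega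
  have haD := s.LD (s.AL s.ha)
  have hbD := s.MD (s.BM s.hb)
  have ha1 : c a = (1 : E) • c a := (one_smul _ _).symm
  obtain ⟨ρ, hρ, hρ1⟩ := h.pt_ne_bot hR
  obtain ⟨k₁, hk₁, hk₁a, hk₁b⟩ := h.two_lines hR s.lL s.RL s.lM s.RM (s.LM h) (s.AL s.ha) (s.aR h) (s.BM s.hb)
    (s.bR h) (one_mem _) hρ
  obtain ⟨k₂, hk₂, hk₂a, hk₂b⟩ := h.two_lines hR s.lL s.RL s.lM s.RM (s.LM h) (s.AL s.ha) (s.aR h) (s.BM s.hb)
    (s.bR h) hρ (one_mem _)
  have hζ0 := s.ze_ne h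
  obtain ⟨α, hα, hα1⟩ := s.xi_line h hx hF4 hE16 one_ne_zero hk₁ haD ha1 hk₁a
  obtain ⟨β, hβ, hβ1⟩ := s.xi_line h hx hF4 hE16 hζ0 hk₂ hbD s.ze hk₂b
  have hα0 : α ≠ 0 := by
    have h1 := s.xi_ne h hx hxR hk₁ (by rw [hk₁b]; exact hρ1) hα1
    rwa [mul_one] at h1
  rw [mul_one] at hα1
  -- `α = β`
  have h1ζ : (1 : E) + ζ ≠ 0 := by
    intro e
    apply s.zF
    have : ζ = 1 := by
      have h1 := CharTwo.add_eq_zero.1 e
      exact h1.symm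
    rw [this]
    exact one_mem _
  obtain ⟨y₃, hy₃, hy₃c⟩ := s.co.surj (((1 : E) + ζ) • c a)
  have h3 : kp (k₁ * k₂) y₃ = 1 := by
    rw [h.kp_mul hR hk₁ hk₂ (s.co.BW hy₃), s.kap_add h hk₁ haD hbD hy₃ ha1 s.ze hy₃c,
      s.kap_add h hk₂ haD hbD hy₃ ha1 s.ze hy₃c, hk₁a, hk₁b, hk₂a, hk₂b, one_mul, mul_one]
    exact h.sq_one hR hρ
  obtain ⟨γ, hγ, hγ1⟩ := s.xi_line h hx hF4 hE16 h1ζ (mul_mem hk₁ hk₂) hy₃ hy₃c h3
  rw [s.xi_mul h hx hk₁ hk₂ hα1 hβ1] at hγ1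
  have h4 : α + β * ζ = γ + γ * ζ := by
    have h5 := smul_left_injective E (s.v_ne h) hγ1
    rw [h5]; ring
  obtain ⟨h5, h6⟩ := s.indep h hα hβ hγ hγ h4
  have hαβ : β = α := h6.trans h5.symm
  subst hαβ
  -- the fourth line
  obtain ⟨p, hp, hp0, hp1⟩ : ∃ p ∈ F, p ≠ 0 ∧ p ≠ 1 := by
    by_contra hcon
    push Not at hcon
    have h1 : (F : Set E) ⊆ {0, 1} := by
      intro p hp
      by_cases hp0 : p = 0
      · left; exact hp0
      · right; exact hcon p hp hp0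
    have h2 : (F : Set E).ncard ≤ ({0, 1} : Set E).ncard := Set.ncard_le_ncard h1 (Set.toFinite _)
    have h3 : ({0, 1} : Set E).ncard ≤ 2 := (Set.ncard_insert_le _ _).trans (by rw [Set.ncard_singleton])
    have h4 : (F : Set E).ncard = 4 := by rw [← Nat.card_coe_set_eq]; exact hF4
    omega
  have hpi : p⁻¹ ∈ F := inv_mem hp
  obtain ⟨g, hg, hg1, hg2⟩ := s.torus h hp hp0
  have hgk := s.kx_cj h hg hk₂
  have h2' := s.xi_conj h hx (hg1 x hx) hg2 hk₂ hβ1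
  have h4ζ : (1 : E) + p⁻¹ * ζ ≠ 0 := by
    intro e
    apply s.zF
    have h7 := CharTwo.add_eq_zero.1 e
    have h8 : ζ = p := by
      rw [← one_mul ζ, ← mul_inv_cancel₀ hp0, mul_assoc, ← h7, mul_one]
    rw [h8]
    exact hp
  obtain ⟨y₄, hy₄, hy₄c⟩ := s.co.surj (((1 : E) + p⁻¹ * ζ) • c a)
  obtain ⟨y₅, hy₅, hy₅c⟩ := s.co.surj ((p⁻¹ * ζ) • c a)
  obtain ⟨y₆, hy₆, hy₆c⟩ := s.co.surj ((p⁻¹ * ((1 : E) + p⁻¹ * ζ)) • c a)
  obtain ⟨y₇, hy₇, hy₇c⟩ := s.co.surj (p⁻¹ • c a)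
  obtain ⟨y₈, hy₈, hy₈c⟩ := s.co.surj ((p⁻¹ * p⁻¹ * ζ) • c a)
  obtain ⟨y₉, hy₉, hy₉c⟩ := s.co.surj ((p⁻¹ * ((1 : E) + ζ)) • c a)
  have k14 : kp k₁ y₄ = kp k₁ y₅ := by
    rw [s.kap_add h hk₁ haD hy₅ hy₄ ha1 hy₅c hy₄c, hk₁a, one_mul]
  have k28 : kp k₂ y₈ = 1 := s.kap_line h hζ0 hk₂ hbD hy₈ s.ze (mul_mem hpi hpi) hy₈c hk₂b
  have k26 : kp k₂ y₆ = kp k₂ y₇ := by
    rw [s.kap_add h hk₂ hy₇ hy₈ hy₆ hy₇c hy₈c (by rw [hy₆c]; congr 1; ring), k28, mul_one]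
  have k24 : kp (g * k₂ * g⁻¹) y₄ = kp k₂ y₇ := by
    rw [s.kap_conj h hp0 hg hg2 hk₂ hy₄ hy₆ hy₄c hy₆c, k26]
  have k9 : kp (k₁ * k₂) y₉ = 1 := s.kap_line h h1ζ (mul_mem hk₁ hk₂) hy₃ hy₉ hy₃c hpi hy₉c h3
  have k17 : kp k₁ y₇ = 1 := s.kap_line h one_ne_zero hk₁ haD hy₇ ha1 hpi (by rw [hy₇c, mul_one]) hk₁a
  have k25 : kp k₂ y₅ = 1 := s.kap_line h hζ0 hk₂ hbD hy₅ s.ze hpi hy₅c hk₂b
  have k57 : kp k₁ y₅ * kp k₂ y₇ = 1 := by
    rw [h.kp_mul hR hk₁ hk₂ (s.co.BW hy₉),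
      s.kap_add h hk₁ hy₇ hy₅ hy₉ hy₇c hy₅c (by rw [hy₉c]; congr 1; ring),
      s.kap_add h hk₂ hy₇ hy₅ hy₉ hy₇c hy₅c (by rw [hy₉c]; congr 1; ring), k17, k25, one_mul, mul_one] at k9
    exact k9
  have k4 : kp (k₁ * (g * k₂ * g⁻¹)) y₄ = 1 := by
    rw [h.kp_mul hR hk₁ hgk (s.co.BW hy₄), k14, k24, k57]
  obtain ⟨l, hl, hl1⟩ := s.xi_line h hx hF4 hE16 h4ζ (mul_mem hk₁ hgk) hy₄ hy₄c k4
  rw [s.xi_mul h hx hk₁ hgk hα1 h2'] at hl1
  have h7 : β + p * β * ζ = l + l * p⁻¹ * ζ := by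
    have h8 := smul_left_injective E (s.v_ne h) hl1
    have h9 : β + p * (β * ζ) = l * (1 + p⁻¹ * ζ) := h8
    rw [mul_assoc, h9]; ring
  obtain ⟨h8, h9⟩ := s.indep h hα (mul_mem hp hα) hl (mul_mem hl hpi) h7
  rw [← h8] at h9
  have h10 : p * p = 1 := by
    have h11 : p * β * p = β := by
      rw [h9, mul_assoc, inv_mul_cancel₀ hp0, mul_one]
    have h12 : (p * p - 1) * β = 0 := by
      rw [sub_mul, one_mul, sub_eq_zero]
      calc p * p * β = p * β * p := by ring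
        _ = β := h11
    rcases mul_eq_zero.1 h12 with h13 | h13
    · exact sub_eq_zero.1 h13
    · exact absurd h13 hα0
  have h11 : (p + 1) * (p + 1) = 0 := by
    calc (p + 1) * (p + 1) = p * p + (p + p) + 1 := by ring
      _ = 0 := by rw [h10, CharTwo.add_self_eq_zero, add_zero, CharTwo.add_self_eq_zero]
  have h12 : p + 1 = 0 := by simpa using h11
  exact hp1 (CharTwo.add_eq_zero.1 h12)

end Lc

namespace Root

variable (h : Root S P V Z τ Blk)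
include h

/-- **`e = 1`** -/
theorem card_E (hc : Cr V Z A R B) : Nat.card E = Nat.card Z := by
  by_contra hE
  obtain ⟨L, M, D, C, c, F, a, b, ζ, s⟩ := h.exists_lc hE hc
  exact s.false h

/-- `[W_A, W_B] = R` -/
theorem q_eq (hc : Cr V Z A R B) : ⁅ws V A, ws V B⁆ = R := h.q_eq_of_card (h.card_E hc).le hc

/-- **TYPE N** -/
theorem typN : TypN V Z := by
  intro X R Y hc a ha b hb
  rw [← h.q_eq hc]
  exact commutator_mem_commutator ha hb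

end Root

end Cfsg.Agent.Omega.NO3S.MidQ
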