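import Cfsg.Agent.Omega.NO3S.MidQ.EOne

/-!
# NO-3S, `q ≥ 4`, `n = 2`: `e = 1` over `Root`, part 2: joined lines are in one `E`-line

* `Typ.shear` : some `A` of type `τ` fixes `v` and maps `w` to `w + ζ v`;
* `Root.crl_in` : if `|E| ≠ |Z|` and the lines `L`, `M` on `R` are joined, then `M` is in the block of `L` and
  `c(M) ≤ E c(L)`;
* `Root.ff_le` : `[W_A, W_B] ≤ W_R [W_A', W_B']` for all critical pairs of the component.
-/

set_option autoImplicit false
set_option linter.unusedSectionVars false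

namespace Cfsg.Agent.Omega.NO3S.MidQ

open Subgroup Cfsg.Agent.Omega.NO3S.PT Cfsg.Agent.Omega.NoFF.Basic Cfsg.Agent.ZN
open scoped Pointwise

variable {G : Type*} [Group G] {E : Type*} [Field E] {m : ℕ} {V Z X Y A B R L M C D : Subgroup G} {τ : Typ E m}
  {c : G → (Fin m → E)}

theorem Typ.shear [CharP E 2] (hok : τ.Ok) {v w : Fin m → E} (hwv : ∀ a : E, w ≠ a • v) (ζ : E) :
    ∃ A, τ.Mem A ∧ A v = v ∧ A w = w + ζ • v := by
  cases τ with
  | sl =>
    obtain ⟨φ, h1, h2⟩ := exists_dual hwv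
    have h3 : (ζ • φ) v = 0 := by rw [LinearMap.smul_apply, h1, smul_zero]
    refine ⟨_, Typ.tv (τ := .sl) trivial h3 (fun f e => by cases e), ?_, ?_⟩
    · rw [LinearEquiv.transvection.apply, h3, zero_smul, add_zero]
    · rw [LinearEquiv.transvection.apply, LinearMap.smul_apply, h2, smul_eq_mul, mul_one]
  | sp f =>
    have h0 := Typ.sp_neg hok
    by_cases h1 : f w v = 0
    · -- `u` perpendicular to `v`, not to `w`
      obtain ⟨u, hu1, hu2⟩ : ∃ u, f v u = 0 ∧ f w u ≠ 0 := by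
        by_contra hcon
        push Not at hcon
        by_cases hv : v = 0
        · obtain ⟨y, hy⟩ : ∃ y, f w y ≠ 0 := by
            by_contra hcon'; push Not at hcon'
            exact hwv 0 (by rw [zero_smul]; exact hok.2 w hcon')
          exact hy (hcon y (by rw [hv, map_zero, LinearMap.zero_apply]))
        obtain ⟨y, hy⟩ : ∃ y, f v y ≠ 0 := by
          by_contra hcon'; push Not at hcon'; exact hv (hok.2 v hcon')
        apply hwv (f w y / f v y)
        rw [← sub_eq_zero]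
        refine hok.2 _ fun x => ?_
        have h3 := hcon (x - (f v x / f v y) • y) (by
          rw [map_sub, map_smul, smul_eq_mul, div_mul_cancel₀ _ hy, sub_self])
        rw [map_sub, map_smul, smul_eq_mul] at h3
        rw [map_sub, LinearMap.sub_apply, map_smul, LinearMap.smul_apply, smul_eq_mul, sub_eq_zero.1 h3]
        field_simp
        ring
      -- scale
      obtain ⟨t, ht1, ht2⟩ : ∃ t, f v t = 0 ∧ f w t = ζ :=
        ⟨(ζ / f w u) • u, by rw [map_smul, hu1, smul_zero], by rw [map_smul, smul_eq_mul, div_mul_cancel₀ _ hu2]⟩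
      have h3 : f.flip t t = 0 := by rw [LinearMap.flip_apply, hok.1]
      have h4 : f.flip (t + v) (t + v) = 0 := by rw [LinearMap.flip_apply, hok.1]
      have m3 : (Typ.sp f : Typ E m).Mem (LinearEquiv.transvection h3) :=
        Typ.tv hok h3 (fun f' e => by cases e; exact ⟨1, fun x => by rw [LinearMap.flip_apply, one_mul]⟩)
      have m4 : (Typ.sp f : Typ E m).Mem (LinearEquiv.transvection h4) :=
        Typ.tv hok h4 (fun f' e => by cases e; exact ⟨1, fun x => by rw [LinearMap.flip_apply, one_mul]⟩)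
      refine ⟨_, Typ.Mem.mul m3 m4, ?_, ?_⟩
      · rw [LinearEquiv.trans_apply, LinearEquiv.transvection.apply, LinearEquiv.transvection.apply,
          LinearMap.flip_apply, LinearMap.flip_apply, map_add, ht1, hok.1, add_zero, zero_smul, add_zero, ht1,
          zero_smul, add_zero]
      · have h5 : f w (t + v) = ζ := by rw [map_add, ht2, h1, add_zero]
        rw [LinearEquiv.trans_apply, LinearEquiv.transvection.apply, LinearEquiv.transvection.apply,
          LinearMap.flip_apply, LinearMap.flip_apply, h5]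
        have h6 : f (w + ζ • (t + v)) t = ζ := by
          rw [map_add, LinearMap.add_apply, ht2, map_smul, LinearMap.smul_apply, map_add, LinearMap.add_apply,
            hok.1, ht1, add_zero, smul_zero, add_zero]
        rw [h6, smul_add]
        have h7 : ζ • t + ζ • t = 0 := by rw [← add_smul, CharTwo.add_self_eq_zero, zero_smul]
        calc w + (ζ • t + ζ • v) + ζ • t = w + ζ • v + (ζ • t + ζ • t) := by abel
          _ = w + ζ • v := by rw [h7, add_zero]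
    · have h3 : ((ζ / f w v) • f.flip v) v = 0 := by
        rw [LinearMap.smul_apply, LinearMap.flip_apply, hok.1, smul_zero]
      refine ⟨_, Typ.tv hok h3 (fun f' e => ?_), ?_, ?_⟩
      · cases e
        exact ⟨ζ / f w v, fun x => by rw [LinearMap.smul_apply, LinearMap.flip_apply, smul_eq_mul]⟩
      · rw [LinearEquiv.transvection.apply, h3, zero_smul, add_zero]
      · rw [LinearEquiv.transvection.apply, LinearMap.smul_apply, LinearMap.flip_apply, smul_eq_mul,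
          div_mul_cancel₀ _ h1]

variable [Finite G] {S : Sylow 2 G} {P : Subgroup G} {Blk : Subgroup G → Set (Subgroup G)}

theorem cj_eq_of_kp {g : G} {L : Subgroup G} (hg : ∀ l ∈ L, kp g l ∈ L) : cj g L = L := by
  have h1 : cj g L ≤ L := by
    intro x hx
    rw [mem_cj] at hx
    have h2 := mul_mem (hg _ hx) hx
    have e : kp g (g⁻¹ * x * g) * (g⁻¹ * x * g) = x := by simp only [kp]; group
    rwa [e] at h2
  exact Subgroup.eq_of_le_of_card_ge h1 (by rw [card_cj])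

/-- conjugation of `[W_A, W_B]` -/
theorem conj_mem_comm {g x : G} (hx : x ∈ ⁅ws V A, ws V B⁆) : g * x * g⁻¹ ∈ ⁅ws V (cj g A), ws V (cj g B)⁆ := by
  have key : ⁅ws V A, ws V B⁆ ≤ cj g⁻¹ ⁅ws V (cj g A), ws V (cj g B)⁆ := by
    rw [commutator_le]
    intro a ha b hb
    rw [mem_cj, inv_inv]
    have h1 : g * a * g⁻¹ ∈ ws V (cj g A) := by rw [ws_cj]; exact conj_mem_cj ha
    have h2 : g * b * g⁻¹ ∈ ws V (cj g B) := by rw [ws_cj]; exact conj_mem_cj hb
    have h3 := commutator_mem_commutator h1 h2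
    have e : g * (a * b * a⁻¹ * b⁻¹) * g⁻¹ =
      (g * a * g⁻¹) * (g * b * g⁻¹) * (g * a * g⁻¹)⁻¹ * (g * b * g⁻¹)⁻¹ := by group
    show g * (a * b * a⁻¹ * b⁻¹) * g⁻¹ ∈ _
    rw [e]
    exact h3
  have h1 := key hx
  rwa [mem_cj, inv_inv] at h1

namespace Root

variable (h : Root S P V Z τ Blk)
include h

/-- the elements of `K_R` do not change `c` -/
theorem c_kx (hR : IsCj Z R) (hc : Co V R D C τ c) {k x : G} (hk : k ∈ kx V R) (hx : x ∈ ws V R) :
    c (k * x * k⁻¹) = c x := by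
  have h1 := h.kp_mem hR hk hx
  have e : k * x * k⁻¹ = kp k x * x := by simp only [kp]; group
  rw [e, hc.c_mul_X h1 hx]

theorem kx_mem_blk (hR : IsCj Z R) (hc : Co V R D C τ c) {k x : G} (hk : k ∈ kx V R) (hx : x ∈ D) :
    k * x * k⁻¹ ∈ D := by
  have h1 := h.kp_mem hR hk (hc.BW hx)
  have e : k * x * k⁻¹ = kp k x * x := by simp only [kp]; group
  rw [e]
  exact mul_mem (hc.XB h1) hx

theorem exists_not_mem (hE : Nat.card E ≠ Nat.card Z) {F : Subfield E} (hF : Nat.card F = Nat.card Z) :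
    ∃ ζ : E, ζ ∉ F := by
  by_contra hcon
  push Not at hcon
  apply hE
  rw [← hF]
  have h1 : F = ⊤ := by
    rw [eq_top_iff]
    exact fun x _ => hcon x
  rw [h1]
  exact (Nat.card_congr (Subfield.topEquiv (K := E)).toEquiv).symm

/-- the elements of `N N'`, for lines `N`, `N'` -/
theorem mem_sup_lines (hR : IsCj Z R) (hL : IsCj V L) (hRL : R ≤ L) (hM : IsCj V M) (hRM : R ≤ M) {x : G}
    (hx : x ∈ L ⊔ M) : ∃ l ∈ L, ∃ l' ∈ M, x = l * l' :=
  sup_mul_of_comm (fun _ ha _ hb => h.ws_comm hR (le_ws hL hRL ha) (le_ws hM hRM hb)) hx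

/-- **joined lines are in one block** -/
theorem crl_blk (hE : Nat.card E ≠ Nat.card Z) (cl : CrL V Z R L M) (hR : IsCj Z R) (hD : D ∈ Blk R)
    (hLD : L ≤ D) : M ≤ D := by
  have hx := h.xg hE hR
  have cl' := cl
  obtain ⟨hL, hM, hRL, hRM, -⟩ := cl
  obtain ⟨D', hD', hMD'⟩ := h.line R hR M hM hRM
  by_cases hDD : D' = D
  · rwa [hDD] at hMD'
  exfalso
  obtain ⟨C', c', hc', hCC', -⟩ := h.co R hR D' hD'
  have hDC' : D ≤ C' := hCC' D hD (Ne.symm hDD)
  obtain ⟨F, hFc, hF⟩ := h.exists_field hR hD' hc'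
  obtain ⟨ζ, hζ⟩ := h.exists_not_mem hE (hFc.trans (h.card_R hR))
  obtain ⟨Y, hY, hYM, hYR⟩ := h.exists_second hR hM hRM
  obtain ⟨b, hb, hb1⟩ := h.pt_ne_bot hY
  have hbR : b ∉ R := fun e => hYR (h.pts_eq hY hR hb e hb1)
  have hbM := hYM hb
  have hv : c' b ≠ 0 := hc'.c_ne (hMD' hbM) hbR
  have hζ0 : ζ ≠ 0 := fun e => hζ (e ▸ zero_mem _)
  obtain ⟨A', hA', hAv⟩ := Typ.trans h.ok h.two hv (smul_ne_zero hζ0 hv)
  obtain ⟨g, hg, hgD, hgc, hgC⟩ := hc'.lift A' hA'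
  have hgR : cj g R = R := cj_eq_iff.2 (centralizer_le_normalizer _ hg)
  have hgL : cj g L = L := cj_eq_of_kp fun l hl => hRL (hgC l (hDC' (hLD hl)))
  have cl2 := cl'.conj g
  rw [hgR, hgL] at cl2
  have h1 := hx.sup_eq h.toMid cl' cl2
  have h2 : g * b * g⁻¹ ∈ L ⊔ M := by
    rw [h1]
    exact mem_sup_right (conj_mem_cj hbM)
  obtain ⟨l, hl, l', hl', he⟩ := h.mem_sup_lines hR hL hRL hM hRM h2
  have h3 : c' (g * b * g⁻¹) = c' l' := by
    rw [he, hc'.add l (hc'.CW (hDC' (hLD hl))) l' (hc'.BW (hMD' hl')), hc'.c_C (hDC' (hLD hl)), zero_add]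
  rw [hgc b (hc'.BW (hMD' hbM)), hAv] at h3
  obtain ⟨t, ht, htl⟩ := (hF M hM hRM hMD' b hbM hbR l' (hMD' hl')).1 hl'
  rw [htl] at h3
  exact hζ ((smul_left_injective E hv h3) ▸ ht)

/-- **joined lines are in one `E`-line** -/
theorem crl_in (hE : Nat.card E ≠ Nat.card Z) (cl : CrL V Z R L M) (hR : IsCj Z R) (hD : D ∈ Blk R)
    (hLD : L ≤ D) (hc : Co V R D C τ c) {a b : G} (ha : a ∈ L) (haR : a ∉ R) (hb : b ∈ M) (hbR : b ∉ R) :
    ∃ ζ : E, c b = ζ • c a := by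
  have := h.char
  have hx := h.xg hE hR
  have cl' := cl
  have hMD := h.crl_blk hE cl hR hD hLD
  obtain ⟨hL, hM, hRL, hRM, -⟩ := cl
  by_contra hcon
  push Not at hcon
  obtain ⟨F, hFc, hF⟩ := h.exists_field hR hD hc
  obtain ⟨ζ, hζ⟩ := h.exists_not_mem hE (hFc.trans (h.card_R hR))
  obtain ⟨A', hA', hAv, hAw⟩ := Typ.shear h.ok hcon ζ
  obtain ⟨g, hg, hgD, hgc, hgC⟩ := hc.lift A' hA'
  have hgR : cj g R = R := cj_eq_iff.2 (centralizer_le_normalizer _ hg)
  have haD := hLD ha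
  have hbD := hMD hb
  have h0 : g * a * g⁻¹ ∈ L := by
    have h1 := hc.mem_X_of_eq (hgD a haD) haD (by rw [hgc a (hc.BW haD), hAv])
    have e : g * a * g⁻¹ = g * a * g⁻¹ * a⁻¹ * a := by group
    rw [e]
    exact mul_mem (hRL h1) ha
  have hgL : cj g L = L := by
    refine h.line_eq hR (hL.cj g) (by rw [← hgR]; exact cj_le_cj.2 hRL) hL hRL (conj_mem_cj ha) h0 ?_
    refine hc.not_mem ?_
    rw [hgc a (hc.BW haD), hAv]
    exact hc.c_ne haD haR
  have cl2 := cl'.conj g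
  rw [hgR, hgL] at cl2
  have h1 := hx.sup_eq h.toMid cl' cl2
  have h2 : g * b * g⁻¹ ∈ L ⊔ M := by
    rw [h1]
    exact mem_sup_right (conj_mem_cj hb)
  obtain ⟨l, hl, l', hl', he⟩ := h.mem_sup_lines hR hL hRL hM hRM h2
  obtain ⟨s, hs, hsl⟩ := (hF L hL hRL hLD a ha haR l (hLD hl)).1 hl
  obtain ⟨t, ht, htl⟩ := (hF M hM hRM hMD b hb hbR l' (hMD hl')).1 hl'
  have h3 : c (g * b * g⁻¹) = s • c a + t • c b := by
    rw [he, hc.add l (hc.BW (hLD hl)) l' (hc.BW (hMD hl')), hsl, htl]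
  rw [hgc b (hc.BW hbD), hAw] at h3
  have h4 : (1 - t) • c b = (s - ζ) • c a := by
    rw [sub_smul, sub_smul, one_smul, sub_eq_sub_iff_add_eq_add, h3]
  by_cases ht1 : (1 - t) = 0
  · rw [ht1, zero_smul] at h4
    rcases smul_eq_zero.1 h4.symm with h5 | h5
    · exact hζ ((sub_eq_zero.1 h5) ▸ hs)
    · exact hc.c_ne haD haR h5
  · apply hcon ((1 - t)⁻¹ * (s - ζ))
    rw [mul_smul, ← h4, smul_smul, inv_mul_cancel₀ ht1, one_smul]

/-! ### `W_R [W_A, W_B]` -/

/-- two critical pairs with middle `R`, the first points on one line -/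
theorem ff_le₁ (hE : Nat.card E ≠ Nat.card Z) {A' B' : Subgroup G} (hc : Cr V Z A R B) (hc' : Cr V Z A' R B')
    (hL : IsCj V L) (hRL : R ≤ L) (hAL : A ≤ L) (hAL' : A' ≤ L) :
    ⁅ws V A, ws V B⁆ ≤ ws V R ⊔ ⁅ws V A', ws V B'⁆ := by
  have hR := hc.l.right
  have hx := h.xg hE hR
  obtain ⟨k, hk, hkA⟩ := h.K_trans hR hL hRL hc.l.left hAL hc'.l.left hAL' hc.l.ne hc'.l.ne
  have hkR : cj k R = R := cj_eq_iff.2 ((kx_le_cent.trans (centralizer_le_normalizer _)) hk)
  have hc2 := hc.cj k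
  rw [hkA, hkR] at hc2
  intro x hxQ
  obtain ⟨M, hM, hRM, hBM⟩ := hc.r.line
  have h1 := (h.xh hc hL hM hAL hRL hRM hBM).mem_sup h.toMid hk hxQ
  have h1' : kp k x ∈ ws V R := (_root_.sup_le (le_ws hL hRL) (le_ws hM hRM)) h1
  have h2 : k * x * k⁻¹ ∈ ⁅ws V A', ws V (cj k B)⁆ := by
    have := conj_mem_comm (g := k) hxQ
    rwa [hkA] at this
  have h3 := hx.same A' (cj k B) B' hc2 hc' h2
  have h4 : k * x * k⁻¹ ∈ ws V R ⊔ ⁅ws V A', ws V B'⁆ :=
    (sup_le_sup_right (h.adj_le_ws hc'.l.symm) _) h3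
  have e : x = (kp k x)⁻¹ * (k * x * k⁻¹) := by simp only [kp]; group
  rw [e]
  exact mul_mem (mem_sup_left (inv_mem h1')) h4

/-- all critical pairs of the component of `L` -/
theorem ff_le (hE : Nat.card E ≠ Nat.card Z) (hc : Cr V Z A R B) (hL : IsCj V L) (hRL : R ≤ L) (hAL : A ≤ L)
    {N : Subgroup G} (hN : Relation.ReflTransGen (CrL V Z R) L N) :
    ∀ A' B', Cr V Z A' R B' → A' ≤ N → ⁅ws V A, ws V B⁆ ≤ ws V R ⊔ ⁅ws V A', ws V B'⁆ := by
  induction hN with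
  | refl => exact fun A' B' hc' hA' => h.ff_le₁ hE hc hc' hL hRL hAL hA'
  | @tail N N' _ hNN' ih =>
    intro A' B' hc' hA'
    obtain ⟨hN, hN', hRN, hRN', A₁, B₁, hA₁, hB₁, hc₁⟩ := hNN'
    have h1 := ih A₁ B₁ hc₁ hA₁
    have h2 := h.ff_le₁ hE hc₁.symm hc' hN' hRN' hB₁ hA'
    rw [commutator_comm] at h2
    exact h1.trans (_root_.sup_le le_sup_left h2)

/-- **for a line `N` of the component of `L`**: `[C_{K_R}(N), Q] ≤ N` -/
theorem comp_h4 (hE : Nat.card E ≠ Nat.card Z) (hc : Cr V Z A R B) (hL : IsCj V L) (hRL : R ≤ L) (hAL : A ≤ L)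
    {N : Subgroup G} (hN : Relation.ReflTransGen (CrL V Z R) L N) {k x : G} (hk : k ∈ kx V R)
    (hkN : k ∈ centralizer (N : Set G)) (hx : x ∈ ⁅ws V A, ws V B⁆) : kp k x ∈ N := by
  have hR := hc.l.right
  -- a critical pair on `N`
  obtain ⟨A', B', hc', hA', hNl, hRN⟩ : ∃ A' B', Cr V Z A' R B' ∧ A' ≤ N ∧ IsCj V N ∧ R ≤ N := by
    cases hN with
    | refl => exact ⟨A, B, hc, hAL, hL, hRL⟩
    | @tail N _ _ hNN' =>
      obtain ⟨hN, hN', hRN, hRN', A₁, B₁, hA₁, hB₁, hc₁⟩ := hNN'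
      exact ⟨B₁, A₁, hc₁.symm, hB₁, hN', hRN'⟩
  have h1 := h.ff_le hE hc hL hRL hAL hN A' B' hc' hA' hx
  have hn : ⁅ws V A', ws V B'⁆ ≤ normalizer ((ws V R : Subgroup G) : Set G) :=
    (h.comm_le hc').trans (inf_le_left.trans ((h.com _ _ hc'.l).trans (centralizer_le_normalizer _)))
  obtain ⟨w, hw, y, hy, rfl⟩ := sup_mul_of_norm hn h1
  obtain ⟨M', hM', hRM', hBM'⟩ := hc'.r.line
  have h2 : kp k y ∈ N := (h.xh hc' hNl hM' hA' hRN hRM' hBM').g k hk hkN y hy
  have h3 : kp k (w * y) = kp k w * kp k y := kp_mul_right (h.ws_comm hR hw (le_ws hNl hRN h2))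
  rw [h3]
  exact mul_mem (hRN (h.kp_mem hR hk hw)) h2

end Root

end Cfsg.Agent.Omega.NO3S.MidQ
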