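import Mathlib

/-!
# NO-3S, `q ≥ 4`, `n = 2`: the functionals of `K_p` on a block (TEXT 426-1, section 2), abstract part

`U` a vector space over the finite field `E`, `Γ` a set of automorphisms of `U`, transitive on `U#`, such that for
`u ∉ E v` some `A ∈ Γ` fixes `v` and moves `u`; `K` a set of homomorphisms `U → X` closed under products, inverses
and composition with `Γ`, such that `K v = X` for `v ≠ 0` (`KS`).

* `KS.Lam v` : the `l ∈ E` such that `κ v = 1` implies `κ (l v) = 1`: a subfield (`KS.lam`), the same for all `v ≠ 0`;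
* `KS.inj`, `KS.card_le` : `|Lam| ≤ |X|`;
* `KS.two` : if `|X| ≤ |Lam|` then `K` is transitive on `X × X` for two vectors `v ≠ 0`, `w ∉ Lam v`;
* `KS.exists_scal` : `X` is a `Lam`-module such that every `κ ∈ K` is `Lam`-linear.
-/

set_option autoImplicit false

namespace Cfsg.Agent.Omega.NO3S.MidQ

variable {E U G : Type*} [Field E] [AddCommGroup U] [Module E U] [Group G]

/-- the situation -/
structure KS (Γ : Set (U ≃ₗ[E] U)) (X : Subgroup G) (K : Set (U → G)) : Prop where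
  map : ∀ κ ∈ K, ∀ u, κ u ∈ X
  add : ∀ κ ∈ K, ∀ u v, κ (u + v) = κ u * κ v
  mul : ∀ κ ∈ K, ∀ κ' ∈ K, ∃ κ'' ∈ K, ∀ u, κ'' u = κ u * κ' u
  inv : ∀ κ ∈ K, ∃ κ' ∈ K, ∀ u, κ' u = (κ u)⁻¹
  comp : ∀ κ ∈ K, ∀ A ∈ Γ, ∃ κ' ∈ K, ∀ u, κ' u = κ (A u)
  onto : ∀ v : U, v ≠ 0 → ∀ x ∈ X, ∃ κ ∈ K, κ v = x
  trans : ∀ u v : U, u ≠ 0 → v ≠ 0 → ∃ A ∈ Γ, A u = v
  fix : ∀ u v : U, (∀ a : E, u ≠ a • v) → ∃ A ∈ Γ, A v = v ∧ A u ≠ u

namespace KS

variable {Γ : Set (U ≃ₗ[E] U)} {X : Subgroup G} {K : Set (U → G)} (h : KS Γ X K)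
include h

theorem zero {κ : U → G} (hκ : κ ∈ K) : κ 0 = 1 := by
  have h1 := h.add κ hκ 0 0
  rw [add_zero] at h1
  exact (mul_eq_left.1 h1.symm)

theorem neg {κ : U → G} (hκ : κ ∈ K) (u : U) : κ (-u) = (κ u)⁻¹ := by
  rw [← mul_eq_one_iff_eq_inv, ← h.add κ hκ, neg_add_cancel, h.zero hκ]

theorem sub {κ : U → G} (hκ : κ ∈ K) (u v : U) : κ (u - v) = κ u * (κ v)⁻¹ := by
  rw [sub_eq_add_neg, h.add κ hκ, h.neg hκ]

variable [Finite E]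

/-- the scalars `l` such that `κ v = 1` implies `κ (l v) = 1` -/
def lam (v : U) (hv : v ≠ 0) : Subfield E where
  carrier := {l | ∀ κ ∈ K, κ v = 1 → κ (l • v) = 1}
  one_mem' := fun κ _ h1 => by rw [one_smul]; exact h1
  zero_mem' := fun κ hκ _ => by rw [zero_smul]; exact h.zero hκ
  add_mem' := by
    intro a b ha hb κ hκ h1
    rw [add_smul, h.add κ hκ, ha κ hκ h1, hb κ hκ h1, one_mul]
  neg_mem' := by
    intro a ha κ hκ h1
    rw [neg_smul, h.neg hκ, ha κ hκ h1, inv_one]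
  mul_mem' := by
    intro a b ha hb κ hκ h1
    by_cases ha0 : a = 0
    · rw [ha0, zero_mul, zero_smul]; exact h.zero hκ
    obtain ⟨A, hA, hAv⟩ := h.trans v (a • v) hv (smul_ne_zero ha0 hv)
    obtain ⟨κ', hκ', hk⟩ := h.comp κ hκ A hA
    have h2 := hb κ' hκ' (by rw [hk, hAv]; exact ha κ hκ h1)
    rw [hk, map_smul, hAv, smul_smul, mul_comm b a] at h2
    exact h2
  inv_mem' := by
    intro a ha
    by_cases ha0 : a = 0
    · intro κ hκ _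
      rw [ha0, inv_zero, zero_smul]; exact h.zero hκ
    have hpow : ∀ n : ℕ, ∀ κ ∈ K, κ v = 1 → κ (a ^ n • v) = 1 := by
      intro n
      induction n with
      | zero => intro κ hκ h1; rw [pow_zero, one_smul]; exact h1
      | succ n ih =>
        intro κ hκ h1
        obtain ⟨A, hA, hAv⟩ := h.trans v (a ^ n • v) hv (smul_ne_zero (pow_ne_zero n ha0) hv)
        obtain ⟨κ', hκ', hk⟩ := h.comp κ hκ A hA
        have h2 := ha κ' hκ' (by rw [hk, hAv]; exact ih κ hκ h1)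
        rw [hk, map_smul, hAv, smul_smul, ← pow_succ'] at h2
        exact h2
    have : Fintype E := Fintype.ofFinite E
    have h3 : a⁻¹ = a ^ (Fintype.card E - 2) := by
      have h4 := FiniteField.pow_card_sub_one_eq_one a ha0
      have h5 : 1 < Fintype.card E := Fintype.one_lt_card
      have h6 : Fintype.card E - 1 = Fintype.card E - 2 + 1 := by omega
      rw [h6, pow_succ] at h4
      exact (eq_inv_of_mul_eq_one_left h4).symm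
    rw [Set.mem_ofPred_eq, h3]
    exact hpow _

theorem mem_lam {v : U} {hv : v ≠ 0} {l : E} : l ∈ h.lam v hv ↔ ∀ κ ∈ K, κ v = 1 → κ (l • v) = 1 := Iff.rfl

theorem lam_le {u v : U} (hu : u ≠ 0) (hv : v ≠ 0) : h.lam u hu ≤ h.lam v hv := by
  intro l hl κ hκ h1
  obtain ⟨A, hA, hAv⟩ := h.trans u v hu hv
  obtain ⟨κ', hκ', hk⟩ := h.comp κ hκ A hA
  have h2 := hl κ' hκ' (by rw [hk, hAv]; exact h1)
  rwa [hk, map_smul, hAv] at h2

/-- `lam` is the same for all vectors -/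
theorem lam_eq {u v : U} (hu : u ≠ 0) (hv : v ≠ 0) : h.lam u hu = h.lam v hv :=
  le_antisymm (h.lam_le hu hv) (h.lam_le hv hu)

theorem mem_lam_iff {u v : U} (hu : u ≠ 0) (hv : v ≠ 0) {l : E} : l ∈ h.lam u hu ↔ l ∈ h.lam v hv := by
  rw [h.lam_eq hu hv]

/-- `κ v ≠ 1`: then `l ↦ κ (l v)` is injective on `lam` -/
theorem eq_zero {v : U} (hv : v ≠ 0) {κ : U → G} (hκ : κ ∈ K) (h1 : κ v ≠ 1) {l : E} (hl : l ∈ h.lam v hv)
    (h2 : κ (l • v) = 1) : l = 0 := by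
  by_contra hl0
  have hlv : l • v ≠ 0 := smul_ne_zero hl0 hv
  have h3 : l⁻¹ ∈ h.lam (l • v) hlv := (h.mem_lam_iff hv hlv).1 (inv_mem hl)
  have h4 := h3 κ hκ h2
  rw [smul_smul, inv_mul_cancel₀ hl0, one_smul] at h4
  exact h1 h4

theorem inj {v : U} (hv : v ≠ 0) {κ : U → G} (hκ : κ ∈ K) (h1 : κ v ≠ 1) :
    Function.Injective fun l : h.lam v hv => κ ((l : E) • v) := by
  intro a b hab
  have h2 : κ (((a : E) - b) • v) = 1 := by
    rw [sub_smul, h.sub hκ]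
    exact mul_inv_eq_one.2 hab
  exact Subtype.ext (sub_eq_zero.1 (h.eq_zero hv hκ h1 (sub_mem a.2 b.2) h2))

/-- `|lam| ≤ |X|` -/
theorem card_le [Finite X] {v : U} (hv : v ≠ 0) (hX : ∃ x ∈ X, x ≠ 1) : Nat.card (h.lam v hv) ≤ Nat.card X := by
  obtain ⟨x, hx, hx1⟩ := hX
  obtain ⟨κ, hκ, hk⟩ := h.onto v hv x hx
  refine Nat.card_le_card_of_injective (fun l : h.lam v hv => (⟨κ ((l : E) • v), h.map κ hκ _⟩ : X)) ?_
  intro a b hab
  exact h.inj hv hκ (by rw [hk]; exact hx1) (congrArg Subtype.val hab)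

/-- `κ v ≠ 1`: then `l ↦ κ (l v)`, `lam → X`, is onto -/
theorem surj [Finite X] {v : U} (hv : v ≠ 0) (hc : Nat.card X ≤ Nat.card (h.lam v hv)) {κ : U → G} (hκ : κ ∈ K)
    (h1 : κ v ≠ 1) {x : G} (hx : x ∈ X) : ∃ l ∈ h.lam v hv, κ (l • v) = x := by
  have : Finite (h.lam v hv) := inferInstance
  have hi : Function.Injective (fun l : h.lam v hv => (⟨κ ((l : E) • v), h.map κ hκ _⟩ : X)) := by
    intro a b hab
    exact h.inj hv hκ h1 (congrArg Subtype.val hab)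
  have hb := hi.bijective_of_nat_card_le hc
  obtain ⟨l, hl⟩ := hb.2 ⟨x, hx⟩
  exact ⟨l, l.2, congrArg Subtype.val hl⟩

/-- `κ v = 1`, `κ w` arbitrary, if `w ∉ lam v` -/
theorem one_two [Finite X] {v w : U} (hv : v ≠ 0) (hc : Nat.card X ≤ Nat.card (h.lam v hv))
    (hw : ∀ l ∈ h.lam v hv, w ≠ l • v) {y : G} (hy : y ∈ X) : ∃ κ ∈ K, κ v = 1 ∧ κ w = y := by
  by_cases hwv : ∀ a : E, w ≠ a • v
  · obtain ⟨A, hA, hAv, hAw⟩ := h.fix w v hwv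
    obtain ⟨κ, hκ, hk⟩ := h.onto (A w - w) (sub_ne_zero.2 hAw) y hy
    obtain ⟨κ₁, hκ₁, hk₁⟩ := h.comp κ hκ A hA
    obtain ⟨κ₂, hκ₂, hk₂⟩ := h.inv κ hκ
    obtain ⟨κ₃, hκ₃, hk₃⟩ := h.mul κ₁ hκ₁ κ₂ hκ₂
    refine ⟨κ₃, hκ₃, ?_, ?_⟩
    · rw [hk₃, hk₁, hk₂, hAv, mul_inv_cancel]
    · rw [hk₃, hk₁, hk₂, ← h.sub hκ, hk]
  · push Not at hwv
    obtain ⟨a, rfl⟩ := hwv
    have ha : a ∉ h.lam v hv := fun e => hw a e rfl
    have ha0 : a ≠ 0 := fun e => ha (e ▸ zero_mem _)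
    rw [mem_lam] at ha
    push Not at ha
    obtain ⟨κ, hκ, h1, h2⟩ := ha
    have hav : a • v ≠ 0 := smul_ne_zero ha0 hv
    obtain ⟨l, hl, hly⟩ := h.surj hav (by rwa [← h.lam_eq hv hav]) hκ h2 hy
    by_cases hl0 : l = 0
    · obtain ⟨κ', hκ', hk'⟩ := h.onto v hv 1 (one_mem _)
      obtain ⟨κ₂, hκ₂, hk₂⟩ := h.inv κ' hκ'
      obtain ⟨κ₃, hκ₃, hk₃⟩ := h.mul κ' hκ' κ₂ hκ₂
      refine ⟨κ₃, hκ₃, by rw [hk₃, hk₂, mul_inv_cancel], ?_⟩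
      rw [hk₃, hk₂, mul_inv_cancel, ← hly, hl0, zero_smul, h.zero hκ]
    · obtain ⟨A, hA, hAv⟩ := h.trans v (l • v) hv (smul_ne_zero hl0 hv)
      obtain ⟨κ', hκ', hk⟩ := h.comp κ hκ A hA
      refine ⟨κ', hκ', ?_, ?_⟩
      · rw [hk, hAv]
        exact ((h.mem_lam_iff hav hv).1 hl) κ hκ h1
      · rw [hk, map_smul, hAv, smul_comm]
        exact hly

/-- **two vectors**: `κ v` and `κ w` are arbitrary if `w ∉ lam v` -/
theorem two [Finite X] {v w : U} (hv : v ≠ 0) (hc : Nat.card X ≤ Nat.card (h.lam v hv))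
    (hw : ∀ l ∈ h.lam v hv, w ≠ l • v) {x y : G} (hx : x ∈ X) (hy : y ∈ X) : ∃ κ ∈ K, κ v = x ∧ κ w = y := by
  obtain ⟨κ, hκ, hk⟩ := h.onto v hv x hx
  obtain ⟨κ', hκ', h1, h2⟩ := h.one_two hv hc hw (mul_mem (inv_mem (h.map κ hκ w)) hy)
  obtain ⟨κ₃, hκ₃, hk₃⟩ := h.mul κ hκ κ' hκ'
  exact ⟨κ₃, hκ₃, by rw [hk₃, h1, mul_one, hk], by rw [hk₃, h2, mul_inv_cancel_left]⟩

/-- the value `κ (l v)` depends on `κ v` only -/
theorem congr {v : U} (hv : v ≠ 0) {l : E} (hl : l ∈ h.lam v hv) {κ κ' : U → G} (hκ : κ ∈ K) (hκ' : κ' ∈ K)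
    (hv' : κ v = κ' v) : κ (l • v) = κ' (l • v) := by
  obtain ⟨κ₂, hκ₂, hk₂⟩ := h.inv κ' hκ'
  obtain ⟨κ₃, hκ₃, hk₃⟩ := h.mul κ hκ κ₂ hκ₂
  have h1 := hl κ₃ hκ₃ (by rw [hk₃, hk₂, hv', mul_inv_cancel])
  rw [hk₃, hk₂, mul_inv_eq_one] at h1
  exact h1

/-- **`X` is a `lam`-module and the `κ` are linear**: `κ u = κ' u'` implies `κ (l u) = κ' (l u')` -/
theorem scal {v : U} (hv : v ≠ 0) {l : E} (hl : l ∈ h.lam v hv) {κ κ' : U → G} (hκ : κ ∈ K) (hκ' : κ' ∈ K)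
    {u u' : U} (hu : u ≠ 0) (hu' : u' ≠ 0) (huu : κ u = κ' u') : κ (l • u) = κ' (l • u') := by
  obtain ⟨A, hA, hAv⟩ := h.trans u u' hu hu'
  obtain ⟨κ₁, hκ₁, hk₁⟩ := h.comp κ' hκ' A hA
  have h1 := h.congr hu ((h.mem_lam_iff hv hu).1 hl) hκ hκ₁ (by rw [hk₁, hAv, huu])
  rw [h1, hk₁, map_smul, hAv]

end KS

end Cfsg.Agent.Omega.NO3S.MidQ
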