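import Cfsg.Agent.Omega.NO3S.MidQ.Base

/-!
# NO-3S, critical distance 2: LEMMA X^ (supplement to TEXT 426-1, helper129, bb OMEGA #16032, section B)

`RR V X Y = [W_X, W_Y]`.  `XHyp V Z r N`: the hypotheses (h1)-(h4) at the point `r` for a subgroup `N ≤ K_r`
(`N = K_r` or a Sylow 2-subgroup of `K_r`); `Pr V Z r a b l m`: `(a, b)` is critical with middle point `r`, `l = ar`,
`m = br`.

* `XHyp.comm_mem`: `[N, x] ≤ l m` for `x ∈ R(a, b)`;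
* `XHyp.surj`: for `x ∈ R(a, b) - r` every element of `l m` is `[k, x]` modulo `r` for some `k ∈ N`;
* `XHyp.sup_eq`: if `x ∈ R(a, b) - r`, `x' ∈ R(a', b')` and `x ≡ x'` modulo `W_r`, then `l m = l' m'`;
* `XHyp.conn`: if `R(a, b) ≠ r`, the connected component of `l` in the graph `critical` on the lines of `r` lies in
  `l m`.
-/

set_option autoImplicit false
set_option linter.unusedSectionVars false

namespace Cfsg.Agent.Omega.NO3S.MidQ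

open Subgroup Cfsg.Agent.Omega.NO3S.PT
open scoped Pointwise

variable {G : Type*} [Group G]

/-- `R(X, Y) = [W_X, W_Y]` -/
def RR (V X Y : Subgroup G) : Subgroup G := ⁅ws V X, ws V Y⁆

theorem RR_symm (V X Y : Subgroup G) : RR V X Y = RR V Y X := commutator_comm _ _

theorem RR_cj (V X Y : Subgroup G) (g : G) : RR V (cj g X) (cj g Y) = cj g (RR V X Y) := by
  unfold RR
  rw [ws_cj, ws_cj]
  change ⁅(ws V X).map (MulAut.conj g).toMonoidHom, (ws V Y).map (MulAut.conj g).toMonoidHom⁆ =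
    (⁅ws V X, ws V Y⁆).map (MulAut.conj g).toMonoidHom
  rw [Subgroup.map_commutator]

/-- a critical pair `(a, b)` with middle `r` on the lines `l`, `m` -/
structure Pr (V Z r a b l m : Subgroup G) : Prop where
  cr : Cr V Z a r b
  hl : IsCj V l
  hm : IsCj V m
  al : a ≤ l
  rl : r ≤ l
  bm : b ≤ m
  rm : r ≤ m

/-- **the hypotheses of LEMMA X^** at `r` for `N ≤ K_r` -/
structure XHyp (V Z r N : Subgroup G) : Prop where
  le : N ≤ kx V r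
  cap : ∀ a b, Cr V Z a r b → ∀ x ∈ RR V a b, x ∈ ws V r → x ∈ r
  trans : ∀ a b l m, Pr V Z r a b l m → ∀ a' b', IsCj Z a' → IsCj Z b' → a' ≤ l → b' ≤ m → a' ≠ r → b' ≠ r →
    ∃ k ∈ N, cj k a = a' ∧ cj k b = b'
  act : ∀ a b l m, Pr V Z r a b l m → ∀ k ∈ N, k ∈ centralizer (l : Set G) → ∀ x ∈ RR V a b,
    k * x * k⁻¹ * x⁻¹ ∈ l

variable {V Z r a b l m N : Subgroup G}

theorem Pr.symm (p : Pr V Z r a b l m) : Pr V Z r b a m l := ⟨p.cr.symm, p.hm, p.hl, p.bm, p.rm, p.al, p.rl⟩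

theorem XHyp.act' (X : XHyp V Z r N) (p : Pr V Z r a b l m) {k : G} (hk : k ∈ N)
    (hkm : k ∈ centralizer (m : Set G)) {x : G} (hx : x ∈ RR V a b) : k * x * k⁻¹ * x⁻¹ ∈ m :=
  X.act b a m l p.symm k hk hkm x (by rwa [RR_symm])

namespace XHyp

variable [Finite G] {S : Sylow 2 G} {P : Subgroup G} (M : Mid S P V Z) (X : XHyp V Z r N)
include M X

theorem comm_pt {k c : G} (hk : k ∈ N) (hc : c ∈ r) : k * c = c * k := (mem_kx.1 (X.le hk)).1 c hc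

theorem comm_ws {k w : G} (hk : k ∈ N) (hw : w ∈ ws V r) : k * w * k⁻¹ * w⁻¹ ∈ r := (mem_kx.1 (X.le hk)).2 w hw

/-- `N` fixes the lines on `r` -/
theorem cj_line {k : G} (hk : k ∈ N) (hl : IsCj V l) (hrl : r ≤ l) : cj k l = l :=
  cj_eq_iff.2 (kx_normalizes hrl (le_ws hl hrl) (X.le hk))

theorem cj_pt {k : G} (hk : k ∈ N) : cj k r = r := by
  rw [cj_eq_iff, mem_normalizer_iff]
  intro c
  have h1 : ∀ c ∈ r, k * c * k⁻¹ = c := fun c hc => by rw [comm_pt M X hk hc, mul_inv_cancel_right]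
  constructor
  · intro hc
    rwa [h1 c hc]
  · intro hc
    have h2 := comm_pt M X hk hc
    have e : c = k * c * k⁻¹ := by
      calc c = k⁻¹ * (k * c * k⁻¹ * k) := by group
        _ = k⁻¹ * (k * (k * c * k⁻¹)) := by rw [h2]
        _ = k * c * k⁻¹ := by group
    rwa [e]

/-- `k ∈ N` which fixes a point `b ≠ r` of a line `m` on `r` centralises `m` -/
theorem fix {k : G} (hk : k ∈ N) (hr : IsCj Z r) (hm : IsCj V m) (hrm : r ≤ m) (hb : IsCj Z b) (hbm : b ≤ m)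
    (hbr : b ≠ r) (hkb : cj k b = b) : k ∈ centralizer (m : Set G) := by
  rw [mem_centralizer_iff]
  intro v hv
  obtain ⟨T, Q, h'⟩ := M.flag hr hm hrm
  obtain ⟨x, hx, y, hy, rfl⟩ := h'.pl.exists_mul h'.pl.isCj_self hrm ((isCj_iff hr).2 hb) hbm (Ne.symm hbr) hv
  have h1 : k * y * k⁻¹ ∈ b := by rw [← hkb]; exact conj_mem_cj hy
  have h2 : k * y * k⁻¹ * y⁻¹ = 1 := by
    by_contra hne
    exact hbr (M.pts_eq hb hr (b.mul_mem h1 (b.inv_mem hy)) (comm_ws M X hk (le_ws hm hrm (hbm hy))) hne)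
  have h3 : k * y = y * k := by
    rw [mul_inv_eq_one, mul_inv_eq_iff_eq_mul] at h2
    exact h2
  calc x * y * k = x * (y * k) := by group
    _ = (x * k) * y := by rw [← h3]; group
    _ = k * (x * y) := by rw [← comm_pt M X hk hx]; group

/-- `N = (N ∩ C(m)) (N ∩ C(l))` -/
theorem factor (p : Pr V Z r a b l m) {k : G} (hk : k ∈ N) : ∃ k₁ ∈ N, ∃ k₂ ∈ N,
    k₁ ∈ centralizer (l : Set G) ∧ k₂ ∈ centralizer (m : Set G) ∧ k = k₂ * k₁ := by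
  have hr := p.cr.l.right
  have ha := p.cr.l.left
  have hb := p.cr.r.right
  have hka : cj k a ≤ l := by
    rw [← cj_line M X hk p.hl p.rl]; exact cj_le_cj.2 p.al
  have hkar : cj k a ≠ r := by
    intro e
    rw [← cj_pt M X hk] at e
    exact p.cr.l.ne (cj_inj.1 e)
  obtain ⟨k₂, hk₂, h1, h2⟩ := X.trans a b l m p (cj k a) b (ha.cj k) hb hka p.bm hkar p.cr.r.ne.symm
  refine ⟨k₂⁻¹ * k, N.mul_mem (N.inv_mem hk₂) hk, k₂, hk₂, ?_, ?_, by group⟩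
  · refine fix M X (N.mul_mem (N.inv_mem hk₂) hk) hr p.hl p.rl ha p.al p.cr.l.ne ?_
    rw [← cj_cj, ← h1, cj_cj, inv_mul_cancel, cj_one]
  · exact fix M X hk₂ hr p.hm p.rm hb p.bm p.cr.r.ne.symm h2

/-- **(1)** `[N, x] ≤ l m` -/
theorem comm_mem (p : Pr V Z r a b l m) {k x : G} (hk : k ∈ N) (hx : x ∈ RR V a b) :
    k * x * k⁻¹ * x⁻¹ ∈ l ⊔ m := by
  obtain ⟨k₁, hk₁, k₂, hk₂, h1, h2, rfl⟩ := factor M X p hk
  have e : k₂ * k₁ * x * (k₂ * k₁)⁻¹ * x⁻¹ = k₂ * (k₁ * x * k₁⁻¹ * x⁻¹) * k₂⁻¹ * (k₂ * x * k₂⁻¹ * x⁻¹) := by group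
  rw [e]
  have h3 := X.act a b l m p k₁ hk₁ h1 x hx
  have h4 := X.act' p hk₂ h2 hx
  refine mul_mem (mem_sup_left ?_) (mem_sup_right h4)
  have h5 := conj_mem_cj (g := k₂) h3
  rwa [cj_line M X hk₂ p.hl p.rl] at h5

/-- **(2)**, injectivity -/
theorem inj (p : Pr V Z r a b l m) {k x : G} (hk : k ∈ N) (hx : x ∈ RR V a b) (hxr : x ∉ r)
    (hkx : k * x * k⁻¹ * x⁻¹ ∈ r) : k ∈ centralizer (m : Set G) := by
  have hr := p.cr.l.right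
  have hb := p.cr.r.right
  by_cases hkb : cj k b = b
  · exact fix M X hk hr p.hm p.rm hb p.bm p.cr.r.ne.symm hkb
  exfalso
  have hkbm : cj k b ≤ m := by
    rw [← cj_line M X hk p.hm p.rm]; exact cj_le_cj.2 p.bm
  have hxb : x ∈ ws V b := (M.comm_le p.cr hx).2
  have h1 : k * x * k⁻¹ ∈ ws V (cj k b) := by
    rw [ws_cj]; exact conj_mem_cj hxb
  have h2 : x ∈ ws V (cj k b) := by
    have e : x = (k * x * k⁻¹ * x⁻¹)⁻¹ * (k * x * k⁻¹) := by group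
    rw [e]
    exact mul_mem (inv_mem (p.rm.trans (le_ws p.hm hkbm) hkx)) h1
  have h3 : x ∈ ws V b ⊓ ws V r := by
    rw [← M.inf_ws p.hm hb (hb.cj k) hb hr p.bm hkbm p.bm p.rm (Ne.symm hkb) p.cr.r.ne.symm]
    exact ⟨hxb, h2⟩
  exact hxr (X.cap a b p.cr x hx h3.2)

/-- `k ∈ N` with given `[k, v]`, `v ∈ b`, centralising `l` -/
theorem exists_k (p : Pr V Z r a b l m) {v c : G} (hv : v ∈ b) (hv1 : v ≠ 1) (hc : c ∈ r) :
    ∃ k ∈ N, k ∈ centralizer (l : Set G) ∧ k * v * k⁻¹ * v⁻¹ = c := by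
  have hr := p.cr.l.right
  have ha := p.cr.l.left
  have hb := p.cr.r.right
  have hvr : v ∉ r := fun h => p.cr.r.ne (M.pts_eq hr hb h hv hv1)
  have hcv1 : c * v ≠ 1 := by
    intro e
    apply hvr
    have : v = c⁻¹ := (inv_eq_of_mul_eq_one_right e).symm
    rw [this]
    exact r.inv_mem hc
  obtain ⟨b', hb', hb'm, hcv⟩ := M.exists_point p.hm (m.mul_mem (p.rm hc) (p.bm hv)) hcv1
  have hb'r : b' ≠ r := by
    rintro rfl
    exact hvr ((b'.mul_mem_cancel_left hc).1 hcv)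
  obtain ⟨k, hk, h1, h2⟩ := X.trans a b l m p a b' ha hb' p.al hb'm p.cr.l.ne hb'r
  refine ⟨k, hk, fix M X hk hr p.hl p.rl ha p.al p.cr.l.ne h1, ?_⟩
  have h3 : k * v * k⁻¹ ∈ b' := by rw [← h2]; exact conj_mem_cj hv
  have h4 := comm_ws M X hk (le_ws p.hm p.rm (p.bm hv))
  -- `k v k⁻¹` and `c v` are in `b'` and congruent modulo `r`
  have h5 : k * v * k⁻¹ * (c * v)⁻¹ ∈ b' := b'.mul_mem h3 (b'.inv_mem hcv)
  have h6 : k * v * k⁻¹ * (c * v)⁻¹ ∈ r := by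
    have e : k * v * k⁻¹ * (c * v)⁻¹ = k * v * k⁻¹ * v⁻¹ * c⁻¹ := by group
    rw [e]
    exact r.mul_mem h4 (r.inv_mem hc)
  have h7 : k * v * k⁻¹ * (c * v)⁻¹ = 1 := by
    by_contra hne
    exact hb'r (M.pts_eq hb' hr h5 h6 hne)
  rw [mul_inv_eq_one] at h7
  rw [h7]; group

/-- **(2)**, surjectivity onto `l / r` -/
theorem surj_l (p : Pr V Z r a b l m) {x w : G} (hx : x ∈ RR V a b) (hxr : x ∉ r) (hw : w ∈ l) :
    ∃ k ∈ N, k ∈ centralizer (l : Set G) ∧ k * x * k⁻¹ * x⁻¹ * w⁻¹ ∈ r := by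
  classical
  have hr := p.cr.l.right
  have ha := p.cr.l.left
  have hb := p.cr.r.right
  obtain ⟨v, hv, hv1⟩ := M.pt_ne_bot hb
  have hex : ∀ c : ↥r, ∃ k ∈ N, k ∈ centralizer (l : Set G) ∧ k * v * k⁻¹ * v⁻¹ = c := fun c =>
    exists_k M X p hv hv1 c.2
  choose k hk hkl hkv using hex
  have hlc : ∀ s ∈ l, ∀ t ∈ l, s * t = t * s := fun s hs t ht =>
    M.ws_comm hr (le_ws p.hl p.rl hs) (le_ws p.hl p.rl ht)
  let f : ↥r → ↥l ⧸ (r.subgroupOf l) := fun c =>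
    QuotientGroup.mk ⟨k c * x * (k c)⁻¹ * x⁻¹, X.act a b l m p (k c) (hk c) (hkl c) x hx⟩
  have hf : Function.Injective f := by
    intro c c' hcc
    have h1 : (k c * x * (k c)⁻¹ * x⁻¹)⁻¹ * (k c' * x * (k c')⁻¹ * x⁻¹) ∈ r := by
      have h2 := QuotientGroup.eq.1 hcc
      exact h2
    have hD := X.act a b l m p (k c) (hk c) (hkl c) x hx
    have hD' := X.act a b l m p (k c') (hk c') (hkl c') x hx
    rw [hlc _ (l.inv_mem hD) _ hD'] at h1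
    have hkk : (k c)⁻¹ * k c' ∈ N := N.mul_mem (N.inv_mem (hk c)) (hk c')
    have e1 : (k c)⁻¹ * k c' * x * ((k c)⁻¹ * k c')⁻¹ * x⁻¹ =
        (k c)⁻¹ * (k c' * x * (k c')⁻¹ * x⁻¹ * (k c * x * (k c)⁻¹ * x⁻¹)⁻¹) * k c := by group
    have h3 : (k c)⁻¹ * k c' * x * ((k c)⁻¹ * k c')⁻¹ * x⁻¹ ∈ r := by
      rw [e1, mul_assoc, ← comm_pt M X (hk c) h1]
      rw [inv_mul_cancel_left]
      exact h1
    have h4 := inj M X p hkk hx hxr h3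
    have h5 := mem_centralizer_iff.1 h4 v (p.bm hv)
    have e2 : (k c)⁻¹ * ((k c' * v * (k c')⁻¹ * v⁻¹) * (k c * v * (k c)⁻¹ * v⁻¹)⁻¹) * k c = 1 := by
      calc (k c)⁻¹ * ((k c' * v * (k c')⁻¹ * v⁻¹) * (k c * v * (k c)⁻¹ * v⁻¹)⁻¹) * k c
          = (k c)⁻¹ * k c' * v * ((k c)⁻¹ * k c')⁻¹ * v⁻¹ := by group
        _ = v * ((k c)⁻¹ * k c') * ((k c)⁻¹ * k c')⁻¹ * v⁻¹ := by rw [h5]
        _ = 1 := by group
    rw [hkv, hkv] at e2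
    have e3 : (c' : G) * (c : G)⁻¹ = 1 := by
      calc (c' : G) * (c : G)⁻¹ = k c * ((k c)⁻¹ * ((c' : G) * (c : G)⁻¹) * k c) * (k c)⁻¹ := by group
        _ = 1 := by rw [e2]; group
    exact Subtype.ext (mul_inv_eq_one.1 e3).symm
  have hcard : Nat.card (↥l ⧸ (r.subgroupOf l)) ≤ Nat.card ↥r := by
    have h1 := (r.subgroupOf l).card_mul_index
    have h2 : Nat.card ↥(r.subgroupOf l) = Nat.card ↥r := Nat.card_congr (subgroupOfEquivOfLe p.rl).toEquiv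
    rw [h2, M.card_line p.hl, M.pl.card, ← M.pl.card_pt hr] at h1
    have h3 : (r.subgroupOf l).index = Nat.card ↥r := Nat.eq_of_mul_eq_mul_left Nat.card_pos h1
    exact h3.le
  obtain ⟨c, hc⟩ := (hf.bijective_of_nat_card_le hcard).2 (QuotientGroup.mk ⟨w, hw⟩)
  refine ⟨k c, hk c, hkl c, ?_⟩
  have h2' := QuotientGroup.eq.1 hc.symm
  have h2 : w⁻¹ * (k c * x * (k c)⁻¹ * x⁻¹) ∈ r := h2'
  rwa [hlc _ (l.inv_mem hw) _ (X.act a b l m p (k c) (hk c) (hkl c) x hx)] at h2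

theorem surj_m (p : Pr V Z r a b l m) {x w : G} (hx : x ∈ RR V a b) (hxr : x ∉ r) (hw : w ∈ m) :
    ∃ k ∈ N, k ∈ centralizer (m : Set G) ∧ k * x * k⁻¹ * x⁻¹ * w⁻¹ ∈ r :=
  surj_l M X p.symm (by rwa [RR_symm]) hxr hw

/-- `[k, x]` depends only on `x W_r` modulo `r` -/
theorem comm_congr (p : Pr V Z r a b l m) {k x x' : G} (hk : k ∈ N) (hx : x ∈ RR V a b)
    (hxx : x⁻¹ * x' ∈ ws V r) : k * x' * k⁻¹ * x'⁻¹ * (k * x * k⁻¹ * x⁻¹)⁻¹ ∈ r := by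
  have hr := p.cr.l.right
  have h1 := comm_ws M X hk hxx
  have hxc : ∀ c ∈ r, c * x = x * c := fun c hc =>
    mem_centralizer_iff.1 (M.ws_le_cent' p.cr.l (M.comm_le p.cr hx).1) c hc
  have h2 : k * x * k⁻¹ * x⁻¹ ∈ ws V r :=
    (sup_le (le_ws p.hl p.rl) (le_ws p.hm p.rm)) (comm_mem M X p hk hx)
  have h3 := M.ws_comm hr (M.pt_le_ws hr h1) h2
  have e : k * x' * k⁻¹ * x'⁻¹ * (k * x * k⁻¹ * x⁻¹)⁻¹ =
      k * (x⁻¹ * x') * k⁻¹ * (x⁻¹ * x')⁻¹ := by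
    calc k * x' * k⁻¹ * x'⁻¹ * (k * x * k⁻¹ * x⁻¹)⁻¹
        = (k * x * k⁻¹ * x⁻¹) * (x * (k * (x⁻¹ * x') * k⁻¹ * (x⁻¹ * x')⁻¹)) * x⁻¹ * (k * x * k⁻¹ * x⁻¹)⁻¹ := by
          group
      _ = (k * x * k⁻¹ * x⁻¹) * ((k * (x⁻¹ * x') * k⁻¹ * (x⁻¹ * x')⁻¹) * x) * x⁻¹ *
          (k * x * k⁻¹ * x⁻¹)⁻¹ := by rw [hxc _ h1]
      _ = (k * x * k⁻¹ * x⁻¹) * (k * (x⁻¹ * x') * k⁻¹ * (x⁻¹ * x')⁻¹) * (k * x * k⁻¹ * x⁻¹)⁻¹ := by group
      _ = (k * (x⁻¹ * x') * k⁻¹ * (x⁻¹ * x')⁻¹) * (k * x * k⁻¹ * x⁻¹) * (k * x * k⁻¹ * x⁻¹)⁻¹ := by rw [h3]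
      _ = k * (x⁻¹ * x') * k⁻¹ * (x⁻¹ * x')⁻¹ := by group
  rw [e]
  exact h1

/-- **(2)**: `im x^ = l m / r` for `x ∈ R(a, b) - r` -/
theorem surj (p : Pr V Z r a b l m) {x w : G} (hx : x ∈ RR V a b) (hxr : x ∉ r) (hw : w ∈ l ⊔ m) :
    ∃ k ∈ N, k * x * k⁻¹ * x⁻¹ * w⁻¹ ∈ r := by
  have hr := p.cr.l.right
  have hlw := le_ws p.hl p.rl
  have hmw := le_ws p.hm p.rm
  have hn : m ≤ normalizer (l : Set G) := by
    refine le_trans ?_ (centralizer_le_normalizer _)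
    intro y hy
    rw [mem_centralizer_iff]
    exact fun x hx => M.ws_comm hr (hlw hx) (hmw hy)
  rw [← SetLike.mem_coe, coe_mul_of_right_le_normalizer_left l m hn] at hw
  obtain ⟨w₁, hw₁, w₂, hw₂, rfl⟩ := hw
  have hw₁' : w₁ ∈ l := hw₁
  have hw₂' : w₂ ∈ m := hw₂
  obtain ⟨k₁, hk₁, hk₁l, h1⟩ := surj_l M X p hx hxr hw₁'
  obtain ⟨k₂, hk₂, hk₂m, h2⟩ := surj_m M X p hx hxr hw₂'
  refine ⟨k₂ * k₁, N.mul_mem hk₂ hk₁, ?_⟩
  have hD1 := hlw (X.act a b l m p k₁ hk₁ hk₁l x hx)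
  have hD2 := hmw (X.act' p hk₂ hk₂m hx)
  have h3 := comm_ws M X hk₂ hD1
  set D₁ : G := k₁ * x * k₁⁻¹ * x⁻¹ with hD₁
  set D₂ : G := k₂ * x * k₂⁻¹ * x⁻¹ with hD₂
  set c : G := k₂ * D₁ * k₂⁻¹ * D₁⁻¹ with hc
  have e : k₂ * k₁ * x * (k₂ * k₁)⁻¹ * x⁻¹ = c * D₁ * D₂ := by
    rw [hc, hD₁, hD₂]; group
  simp only
  rw [e]
  have h4 : D₂ * (w₁ * w₂)⁻¹ = (D₂ * w₂⁻¹) * w₁⁻¹ := by group
  have h5 : (D₂ * w₂⁻¹) * w₁⁻¹ = w₁⁻¹ * (D₂ * w₂⁻¹) :=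
    M.ws_comm hr (M.pt_le_ws hr h2) (hlw (l.inv_mem hw₁'))
  have e2 : c * D₁ * D₂ * (w₁ * w₂)⁻¹ = c * (D₁ * w₁⁻¹) * (D₂ * w₂⁻¹) := by
    calc c * D₁ * D₂ * (w₁ * w₂)⁻¹ = c * D₁ * (D₂ * (w₁ * w₂)⁻¹) := by group
      _ = c * D₁ * (w₁⁻¹ * (D₂ * w₂⁻¹)) := by rw [h4, h5]
      _ = c * (D₁ * w₁⁻¹) * (D₂ * w₂⁻¹) := by group
  rw [e2]
  exact r.mul_mem (r.mul_mem h3 h1) h2

theorem sup_le_of {a' b' l' m' : Subgroup G} (p : Pr V Z r a b l m) (p' : Pr V Z r a' b' l' m') {x x' : G}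
    (hx : x ∈ RR V a b) (hx' : x' ∈ RR V a' b') (hxr' : x' ∉ r) (hxx : x⁻¹ * x' ∈ ws V r) : l' ⊔ m' ≤ l ⊔ m := by
  intro w hw
  obtain ⟨k, hk, h1⟩ := surj M X p' hx' hxr' hw
  have h2 := comm_congr M X p hk hx hxx
  have h3 := comm_mem M X p hk hx
  have hrl : r ≤ l ⊔ m := p.rl.trans le_sup_left
  have e : w = (k * x' * k⁻¹ * x'⁻¹ * w⁻¹)⁻¹ * ((k * x' * k⁻¹ * x'⁻¹ * (k * x * k⁻¹ * x⁻¹)⁻¹) *
      (k * x * k⁻¹ * x⁻¹)) := by group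
  rw [e]
  exact mul_mem (inv_mem (hrl h1)) (mul_mem (hrl h2) h3)

/-- **(3)** -/
theorem sup_eq {a' b' l' m' : Subgroup G} (p : Pr V Z r a b l m) (p' : Pr V Z r a' b' l' m') {x x' : G}
    (hx : x ∈ RR V a b) (hxr : x ∉ r) (hx' : x' ∈ RR V a' b') (hxx : x⁻¹ * x' ∈ ws V r) : l' ⊔ m' = l ⊔ m := by
  have hr := p.cr.l.right
  have hxr' : x' ∉ r := by
    intro h1
    apply hxr
    refine X.cap a b p.cr x hx ?_
    have e : x = x' * (x⁻¹ * x')⁻¹ := by group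
    rw [e]
    exact mul_mem (M.pt_le_ws hr h1) (inv_mem hxx)
  have hxx' : x'⁻¹ * x ∈ ws V r := by
    have e : x'⁻¹ * x = (x⁻¹ * x')⁻¹ := by group
    rw [e]
    exact inv_mem hxx
  exact le_antisymm (sup_le_of M X p p' hx hx' hxr' hxx) (sup_le_of M X p' p hx' hx hxr hxx')

/-- two critical pairs with a common line have the same `R W_r` -/
theorem link (hlam : ∀ a b b', Cr V Z a r b → Cr V Z a r b' → RR V a b ≤ a ⊔ RR V a b')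
    {a' b' m' : Subgroup G} (p : Pr V Z r a b l m) (p' : Pr V Z r a' b' l m') {x : G} (hx : x ∈ RR V a b) :
    ∃ x' ∈ RR V a' b', x⁻¹ * x' ∈ ws V r := by
  have hr := p.cr.l.right
  have ha := p.cr.l.left
  obtain ⟨k, hk, h1, h2⟩ := X.trans a' b' l m' p' a b' ha p'.cr.r.right p.al p'.bm p.cr.l.ne p'.cr.r.ne.symm
  have hcr : Cr V Z a r b' := by
    have h3 := p'.cr.cj k
    rwa [h1, h2, cj_pt M X hk] at h3
  have h4 := hlam a b b' p.cr hcr hx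
  have hn : RR V a b' ≤ normalizer (a : Set G) := by
    refine le_trans ?_ (centralizer_le_normalizer _)
    intro y hy
    rw [mem_centralizer_iff]
    exact fun c hc => M.ws_comm ha (M.pt_le_ws ha hc) (M.comm_le hcr hy).1
  rw [← SetLike.mem_coe, coe_mul_of_right_le_normalizer_left a _ hn] at h4
  obtain ⟨c, hc, y, hy, hcy⟩ := h4
  have hc' : c ∈ a := hc
  have hy' : y ∈ RR V a b' := hy
  have hcy' : c * y = x := hcy
  have h5 : k⁻¹ * y * k ∈ RR V a' b' := by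
    rw [← mem_cj, ← RR_cj, h1, h2]
    exact hy'
  refine ⟨k⁻¹ * y * k, h5, ?_⟩
  have h6 := comm_mem M X p' hk h5
  have e1 : k * (k⁻¹ * y * k) * k⁻¹ * (k⁻¹ * y * k)⁻¹ = y * (k⁻¹ * y * k)⁻¹ := by group
  rw [e1] at h6
  have h7 : y * (k⁻¹ * y * k)⁻¹ ∈ ws V r := (sup_le (le_ws p'.hl p'.rl) (le_ws p'.hm p'.rm)) h6
  -- `x x'⁻¹ ∈ W_r`, and `x ∈ W_a` centralises `W_r`
  have h8 : x * (k⁻¹ * y * k)⁻¹ ∈ ws V r := by
    rw [← hcy', mul_assoc]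
    exact mul_mem (le_ws p.hl p.rl (p.al hc')) h7
  have h9 := mem_centralizer_iff.1 (M.com a r p.cr.l (M.comm_le p.cr hx).1) _ h8
  have e2 : x⁻¹ * (k⁻¹ * y * k) = (x * (k⁻¹ * y * k)⁻¹)⁻¹ := by
    have h10 : x⁻¹ * (x * (k⁻¹ * y * k)⁻¹) * x = x * (k⁻¹ * y * k)⁻¹ := by
      rw [mul_assoc, h9]; group
    calc x⁻¹ * (k⁻¹ * y * k) = (x⁻¹ * (x * (k⁻¹ * y * k)⁻¹) * x)⁻¹ := by group
      _ = (x * (k⁻¹ * y * k)⁻¹)⁻¹ := by rw [h10]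
  rw [e2]
  exact inv_mem h8

/-- **LEMMA X^**: if `R(a, b) ≠ r`, all lines in the connected component of `l` in the graph `critical` on the lines
of `r` lie in `l m`. -/
theorem conn (hlam : ∀ a b b', Cr V Z a r b → Cr V Z a r b' → RR V a b ≤ a ⊔ RR V a b')
    (p : Pr V Z r a b l m) {x : G} (hx : x ∈ RR V a b) (hxr : x ∉ r) {l' : Subgroup G}
    (hl' : Relation.ReflTransGen (fun l m => ∃ a b, Pr V Z r a b l m) l l') : l' ≤ l ⊔ m := by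
  have key : l' ≤ l ⊔ m ∧ ∀ a' b' m', Pr V Z r a' b' l' m' → ∃ x' ∈ RR V a' b', x⁻¹ * x' ∈ ws V r := by
    induction hl' with
    | refl => exact ⟨le_sup_left, fun a' b' m' p' => link M X hlam p p' hx⟩
    | tail _ hstep ih =>
      obtain ⟨a₁, b₁, p₁⟩ := hstep
      obtain ⟨x₁, hx₁, hxx₁⟩ := ih.2 a₁ b₁ _ p₁
      refine ⟨?_, fun a' b' m' p' => ?_⟩
      · rw [← sup_eq M X p p₁ hx hxr hx₁ hxx₁]
        exact le_sup_right
      · obtain ⟨x₂, hx₂, hxx₂⟩ := link M X hlam p₁.symm p' (x := x₁) (by rwa [RR_symm])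
        refine ⟨x₂, hx₂, ?_⟩
        have e : x⁻¹ * x₂ = (x⁻¹ * x₁) * (x₁⁻¹ * x₂) := by group
        rw [e]
        exact mul_mem hxx₁ hxx₂
  exact key.1

end XHyp

end Cfsg.Agent.Omega.NO3S.MidQ
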