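import Cfsg.Agent.Omega.NO3S.MidQ.McL
import Mathlib.Tactic.Abel
import Mathlib.LinearAlgebra.Dual.Lemmas
import Mathlib.Algebra.Module.ZMod
import Mathlib.Algebra.Field.ZMod

/-!
# Groups generated by transvections, elementwise: 2-groups centralising a point

`McQ lam Φ i Q` : `Q` is a set of automorphisms of 2-power order, closed under products, trivial on `lam i`, normalised
by all `1 + φ`, `φ ∈ Φ j` trivial on `lam i`.

* `McL.end_le` : if `McL lam Φ`, `Big lam Φ`, `Dist lam Φ`, then `[M, f] ≤ lam i` for every involution `f ∈ Q`.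

(bb OMEGA #19438 (9), end.)
-/

set_option autoImplicit false

namespace Cfsg.Agent.Omega.NO3S.MidQ

variable {M ι : Type*} [AddCommGroup M] {lam : ι → AddSubgroup M} {Φ : ι → AddSubgroup (AddMonoid.End M)}

/-- see the header -/
structure McQ (lam : ι → AddSubgroup M) (Φ : ι → AddSubgroup (AddMonoid.End M)) (i : ι)
    (Q : Set (AddMonoid.End M)) : Prop where
  mul : ∀ f ∈ Q, ∀ g ∈ Q, f * g ∈ Q
  two : ∀ f ∈ Q, ∃ n : ℕ, f ^ 2 ^ n = 1
  fix : ∀ f ∈ Q, ∀ a ∈ lam i, f a = a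
  conj : ∀ f ∈ Q, ∀ j, ∀ φ ∈ Φ j, Kl lam φ i → (1 + φ) * f * (1 + φ) ∈ Q
  mv : ∀ f ∈ Q, f * f = 1 → ∀ j, ∃ k, (∀ m ∈ lam j, f m ∈ lam k) ∧ ∀ φ ∈ Φ j, f * φ * f ∈ Φ k

namespace McL

variable (h : McL lam Φ)
include h

theorem pow_add_one (u : AddMonoid.End M) (n : ℕ) : (u + 1) ^ 2 ^ n = u ^ 2 ^ n + 1 := by
  induction n with
  | zero => rw [pow_zero, pow_one, pow_one]
  | succ n ih =>
    rw [pow_succ, pow_mul, ih, pow_mul, pow_two, pow_two, add_mul, mul_add, mul_one, one_mul, add_assoc,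
      ← add_assoc (u ^ 2 ^ n) (u ^ 2 ^ n) 1, h.two_end, zero_add]

variable {i : ι} {Q : Set (AddMonoid.End M)} (hQ : McQ lam Φ i Q) {f : AddMonoid.End M} (hf : f ∈ Q)
include hQ hf

/-- **(1)** the 2-element `[1 + φ, f]` -/
theorem two_el (hf2 : f * f = 1) {j k : ι} {φ : AddMonoid.End M} (hφ : φ ∈ Φ j) (hki : Kl lam φ i)
    (hk : ∀ m ∈ lam j, f m ∈ lam k) : Kl lam φ k := by
  have hff : ∀ m, f (f m) = m := fun m => DFunLike.congr_fun hf2 m
  have hinj : ∀ m, f m = 0 → m = 0 := fun m e => by rw [← hff m, e, map_zero]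
  by_contra hno
  -- `ρ = φ f` is injective on `lam j`
  have hρ : ∀ m ∈ lam j, φ (f m) = 0 → m = 0 := by
    intro m hm e
    by_contra hm0
    exact h.ne_zero hφ hno (hk m hm) (fun e' => hm0 (hinj m e')) e
  set u : AddMonoid.End M := (1 + φ) * f * (1 + φ) * f with hu
  have huQ : u ∈ Q := hQ.mul _ (hQ.conj f hf j φ hφ hki) f hf
  obtain ⟨n, hn⟩ := hQ.two u huQ
  have huv : ∀ m, u m = m + f (φ (f m)) + φ (m + f (φ (f m))) := by
    intro m
    show (1 + φ) (f ((1 + φ) (f m))) = _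
    show f (f m + φ (f m)) + φ (f (f m + φ (f m))) = _
    rw [map_add f, hff]
  have hval : ∀ a ∈ lam j, ∀ b ∈ lam j, (u + 1) (a + f b) = (φ (f (φ (f a))) + φ (f b)) + f (φ (f a)) := by
    intro a ha b hb
    show u (a + f b) + (a + f b) = _
    have e1 : φ (f (a + f b)) = φ (f a) := by
      rw [map_add, map_add, hff, h.ker j φ hφ b hb, add_zero]
    rw [huv, e1, map_add, map_add, h.ker j φ hφ a ha, zero_add]
    have e2 := h.two (a + f b)
    calc a + f b + f (φ (f a)) + (φ (f b) + φ (f (φ (f a)))) + (a + f b)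
        = (a + f b + (a + f b)) + (f (φ (f a)) + (φ (f b) + φ (f (φ (f a))))) := by abel
      _ = _ := by rw [e2]; abel
  have hzero : ∀ a ∈ lam j, ∀ b ∈ lam j, a + f b = 0 → a = 0 ∧ b = 0 := by
    intro a ha b hb e
    have e1 : φ (f b) = 0 := by
      have := congrArg φ e
      rwa [map_add, h.ker j φ hφ a ha, zero_add, map_zero] at this
    have hb0 := hρ b hb e1
    rw [hb0, map_zero, add_zero] at e
    exact ⟨e, hb0⟩
  -- iterate
  have key : ∀ n : ℕ, ∀ a ∈ lam j, ∀ b ∈ lam j, ¬ (a = 0 ∧ b = 0) →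
      ((u + 1) ^ n) (a + f b) ≠ 0 := by
    intro n
    induction n with
    | zero =>
      intro a ha b hb hne e
      exact hne (hzero a ha b hb e)
    | succ n ih =>
      intro a ha b hb hne
      rw [pow_succ]
      show ((u + 1) ^ n) ((u + 1) (a + f b)) ≠ 0
      rw [hval a ha b hb]
      refine ih _ (add_mem (h.val j φ hφ _) (h.val j φ hφ _)) _ (h.val j φ hφ _) ?_
      rintro ⟨e1, e2⟩
      have ha0 : a = 0 := hρ a ha e2
      have e3 : φ (f b) = 0 := by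
        rwa [e2, map_zero, map_zero, zero_add] at e1
      exact hne ⟨ha0, hρ b hb e3⟩
  obtain ⟨a, ha, ha0⟩ := h.lne j
  refine key (2 ^ n) a ha 0 (zero_mem _) (fun e => ha0 e.1) ?_
  rw [h.pow_add_one, hn]
  show a + f 0 + (a + f 0) = 0
  exact h.two _

/-- an involution of `Q` which acts on `lam d` as `1 + φ` -/
theorem two_el' (hf2 : f * f = 1) {j d : ι} {φ : AddMonoid.End M} (hφ : φ ∈ Φ j) (hd : ¬ Kl lam φ d)
    (hdi : ¬ JJ lam Φ d i) (he : ∀ m ∈ lam d, f m = m + φ m) : False := by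
  obtain ⟨m, hm, hm0⟩ := h.lne d
  have h1 := h.ne_zero hφ hd hm hm0
  obtain ⟨k, hk, -⟩ := h.mv j d φ hφ
  obtain ⟨ψ, hψ, hψ0⟩ := h.moves (h.symm (h.jj hφ hd)) (h.val j φ hφ m) h1
  have h2 : Kl lam ψ k := by
    refine h.two_el hQ hf hf2 hψ (fun a ha => ?_) (fun m hm => ?_)
    · by_contra hne
      exact hdi ⟨ψ, hψ, a, ha, hne⟩
    · rw [he m hm]
      exact hk m hm
  have h3 := h2 _ (hk m hm)
  rw [map_add, h.ker d ψ hψ m hm, zero_add] at h3
  exact hψ0 h3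

/-- `f` normalises `Φ i` -/
theorem conj_i (hf2 : f * f = 1) {ψ : AddMonoid.End M} (hψ : ψ ∈ Φ i) : f * ψ * f ∈ Φ i := by
  obtain ⟨k, h1, h2⟩ := hQ.mv f hf hf2 i
  obtain ⟨a, ha, ha0⟩ := h.lne i
  have h3 := h1 a ha
  rw [hQ.fix f hf a ha] at h3
  rw [(h.same i k a ha h3 ha0).2]
  exact h2 ψ hψ

/-- **(2)**, first part -/
theorem joined_line (hB : Big lam Φ) (hD : Dist lam Φ) (hf2 : f * f = 1) {j : ι} (hj : JJ lam Φ i j) {m : M}
    (hm : m ∈ lam j) : ∃ a ∈ lam i, ∃ b ∈ lam j, f m = a + b := by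
  have := h.fin
  have hff : ∀ m, f (f m) = m := fun m => DFunLike.congr_fun hf2 m
  have hji := h.symm hj
  obtain ⟨k, hk, -⟩ := hQ.mv f hf hf2 j
  by_cases hjk : lam j = lam k
  · exact ⟨0, zero_mem _, f m, hjk ▸ hk m hm, (zero_add _).symm⟩
  -- `i`, `k` are joined
  have hik : JJ lam Φ i k := by
    obtain ⟨φ, hφ, b, hb, hb0⟩ := hj
    refine ⟨f * φ * f, h.conj_i hQ hf hf2 hφ, f b, hk b hb, ?_⟩
    show f (φ (f (f b))) ≠ 0
    rw [hff, hQ.fix f hf _ (h.val i φ hφ b)]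
    exact hb0
  have hjk' : JJ lam Φ j k := h.trans hB hD hji hik hjk
  have hkl : ∀ φ ∈ Φ j, Kl lam φ i → Kl lam φ k := fun φ hφ hki => h.two_el hQ hf hf2 hφ hki hk
  choose! F hF1 hF2 using fun (α : M) (hα : α ∈ lam i) => h.exists_E hB hkl hjk' hα
  let F' : lam i → lam k := fun α => ⟨F α, hF1 α α.2⟩
  have hinj : Function.Injective F' := by
    intro α α' e
    have e1 : F α = F α' := congrArg Subtype.val e
    by_contra hne
    have hne' : (α : M) + α' ≠ 0 := fun e' => hne (Subtype.ext (h.add_eq_zero.1 e'))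
    obtain ⟨φ, hφ, hφ0⟩ := h.moves hji (add_mem α.2 α'.2) hne'
    apply hφ0
    have h1 := hF2 α α.2 φ hφ
    have h2 := hF2 α' α'.2 φ hφ
    rw [map_add] at h1 h2 ⊢
    rw [← e1] at h2
    rw [h.add_eq_zero] at h1 h2
    rw [h1, h2]
    exact h.two _
  have hsurj : Function.Surjective F' := by
    have : Fintype (lam i) := Fintype.ofFinite _
    have : Fintype (lam k) := Fintype.ofFinite _
    have h1 := h.card i k
    rw [Nat.card_eq_fintype_card, Nat.card_eq_fintype_card] at h1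
    exact ((Fintype.bijective_iff_injective_and_card F').2 ⟨hinj, h1⟩).2
  obtain ⟨⟨α, hα⟩, hαe⟩ := hsurj ⟨f m, hk m hm⟩
  have hαm : F α = f m := congrArg Subtype.val hαe
  have hE : ∀ φ ∈ Φ j, φ (α + f m) = 0 := fun φ hφ => by rw [← hαm]; exact hF2 α hα φ hφ
  have hfm : f m = α + (α + f m) := by rw [← add_assoc, h.two, zero_add]
  by_cases h0 : α + f m = 0
  · refine ⟨α, hα, 0, zero_mem _, ?_⟩
    rw [h.add_eq_zero] at h0
    rw [add_zero, h0]
  refine ⟨α, hα, α + f m, ?_, hfm⟩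
  by_cases hm0 : f m = 0
  · exfalso
    have hm1 : α = 0 := by
      by_contra hα0
      obtain ⟨φ, hφ, hφ0⟩ := h.moves hji hα hα0
      apply hφ0
      have := hE φ hφ
      rwa [hm0, add_zero] at this
    rw [hm0, hm1, add_zero] at h0
    exact h0 rfl
  obtain ⟨φ₁, hφ₁, hφ₁0⟩ := h.moves hik (hk m hm) hm0
  obtain ⟨φ, hφ, hφe⟩ := h.surj i k (f m) (hk m hm) ⟨φ₁, hφ₁, hφ₁0⟩ α hα
  obtain ⟨d, hd, -⟩ := h.mv i k φ hφ
  have h1 : α + f m ∈ lam d := by
    have := hd _ (hk m hm)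
    rwa [hφe, add_comm] at this
  have hid : JJ lam Φ i d := ⟨φ₁, hφ₁, _, h1, by rw [map_add, h.ker i φ₁ hφ₁ α hα, zero_add]; exact hφ₁0⟩
  by_contra hno
  have hjd : lam j ≠ lam d := fun e => hno (e ▸ h1)
  obtain ⟨ψ, hψ, hψ0⟩ := h.moves (h.trans hB hD hji hid hjd) h1 h0
  exact hψ0 (hE ψ hψ)

/-- **(2)** -/
theorem joined_le (hB : Big lam Φ) (hD : Dist lam Φ) (hf2 : f * f = 1) {j : ι} (hj : JJ lam Φ i j) {x : M}
    (hx : x ∈ lam j) : x + f x ∈ lam i := by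
  have hff : ∀ m, f (f m) = m := fun m => DFunLike.congr_fun hf2 m
  -- `m₀`
  obtain ⟨m₀, hm₀, hm₀0, hm₀i⟩ : ∃ m ∈ lam j, m ≠ 0 ∧ m + f m ∈ lam i := by
    obtain ⟨m, hm, hm0⟩ := h.lne j
    obtain ⟨a, ha, b, hb, e⟩ := h.joined_line hQ hf hB hD hf2 hj hm
    by_cases hbm : b = m
    · refine ⟨m, hm, hm0, ?_⟩
      rw [e, hbm, add_comm a m, ← add_assoc, h.two, zero_add]
      exact ha
    · refine ⟨m + b, add_mem hm hb, fun e' => hbm (h.add_eq_zero.1 e').symm, ?_⟩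
      have h1 : f b = m + a := by
        have h2 : b = a + f m := by rw [e, ← add_assoc, h.two, zero_add]
        have h3 : f b = f a + m := by rw [h2, map_add, hff]
        rw [h3, hQ.fix f hf a ha, add_comm]
      have h4 : m + b + f (m + b) = 0 := by
        rw [map_add, e, h1]
        have h5 := h.two (m + b + a)
        calc m + b + (a + b + (m + a)) = m + b + a + (m + b + a) := by abel
          _ = 0 := h5
      rw [h4]
      exact zero_mem _
  obtain ⟨φ, hφ, hφe⟩ := h.surj i j m₀ hm₀ (h.moves hj hm₀ hm₀0) _ hm₀i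
  have hte : m₀ + φ m₀ = f m₀ := by rw [hφe, ← add_assoc, h.two, zero_add]
  obtain ⟨k, hk, -⟩ := hQ.mv f hf hf2 j
  obtain ⟨k'', hk'', -⟩ := h.mv i k φ hφ
  have hfm0 : f m₀ ≠ 0 := fun e => hm₀0 (by rw [← hff m₀, e, map_zero])
  -- `t f x ∈ lam j`
  have h1 : f m₀ + φ (f m₀) = m₀ := by
    rw [← hte, map_add, h.ker i φ hφ _ (h.val i φ hφ m₀), add_zero, add_assoc, h.two, add_zero]
  have h2 : lam j = lam k'' := (h.same j k'' m₀ hm₀ (by have := hk'' _ (hk m₀ hm₀); rwa [h1] at this) hm₀0).1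
  have h3 : f x + φ (f x) ∈ lam j := h2 ▸ hk'' _ (hk x hx)
  -- `ψ (t f x) = ψ x`
  have h4 : ∀ ψ ∈ Φ i, ψ (f x + φ (f x) + x) = 0 := by
    intro ψ hψ
    have h5 : f * ψ * f - ψ ∈ Φ i := sub_mem (h.conj_i hQ hf hf2 hψ) hψ
    have h6 : ∀ y, (f * ψ * f - ψ) y = ψ (f y + φ (f y)) - ψ y := by
      intro y
      show f (ψ (f y)) - ψ y = _
      rw [hQ.fix f hf _ (h.val i ψ hψ _), map_add ψ, h.ker i ψ hψ _ (h.val i φ hφ _), add_zero]
    have h7 := h.kl_of h5 hm₀ hm₀0 (by rw [h6, h1, sub_self]) x hx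
    rw [h6, sub_eq_zero] at h7
    rw [map_add ψ, h7]
    exact h.two _
  have h5 : f x + φ (f x) + x = 0 := by
    by_contra hne
    obtain ⟨ψ, hψ, hψ0⟩ := h.moves hj (add_mem h3 hx) hne
    exact hψ0 (h4 ψ hψ)
  have h6 : x + f x = φ (f x) := by
    rw [← h.add_eq_zero]
    calc x + f x + φ (f x) = f x + φ (f x) + x := by abel
      _ = 0 := h5
  rw [h6]
  exact h.val i φ hφ _

/-! ### Points which are not joined to `i` -/

omit hQ hf in
theorem away (hB : Big lam Φ) (hD : Dist lam Φ) {j d : ι} (hji : ¬ JJ lam Φ j i) (hne : lam j ≠ lam i)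
    (hjd : JJ lam Φ j d) : ¬ JJ lam Φ d i ∧ lam d ≠ lam i := by
  refine ⟨fun e => hji (h.trans hB hD hjd e hne), fun e => hji ?_⟩
  obtain ⟨φ, hφ, b, hb, hb0⟩ := hjd
  exact ⟨φ, hφ, b, e ▸ hb, hb0⟩

omit hf in
/-- **(3)**, LEMMA B -/
theorem phi_zero (hB : Big lam Φ) (hD : Dist lam Φ) {j : ι} (hji : ¬ JJ lam Φ j i) (hne : lam j ≠ lam i)
    {φ : AddMonoid.End M} (hφ : φ ∈ Φ j) (hφQ : 1 + φ ∈ Q) : φ = 0 := by
  by_contra h0
  obtain ⟨d, hd⟩ := h.exists_not_kl hφ h0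
  exact h.two_el' hQ hφQ (h.sq_end hφ) hφ hd (h.away hB hD hji hne (h.jj hφ hd)).1 (fun m _ => rfl)

/-- **(3)**, LEMMA C -/
theorem fix_line (hB : Big lam Φ) (hD : Dist lam Φ) (hf2 : f * f = 1) {j k : ι} (hji : ¬ JJ lam Φ j i)
    (hne : lam j ≠ lam i) (hk : ∀ m ∈ lam j, f m ∈ lam k) (hk2 : ∀ φ ∈ Φ j, f * φ * f ∈ Φ k) : lam j = lam k := by
  by_contra hjk
  have hff : ∀ m, f (f m) = m := fun m => DFunLike.congr_fun hf2 m
  have hkl : ∀ φ ∈ Φ j, Kl lam φ i := fun φ hφ a ha => by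
    by_contra e
    exact hji ⟨φ, hφ, a, ha, e⟩
  have hkk : ∀ φ ∈ Φ j, Kl lam φ k := fun φ hφ => h.two_el hQ hf hf2 hφ (hkl φ hφ) hk
  obtain ⟨φ, hφ, hφ0⟩ := h.ne j
  obtain ⟨d, hd⟩ := h.exists_not_kl hφ hφ0
  have hjd := h.jj hφ hd
  have hkd : ¬ JJ lam Φ k d := by
    intro e
    obtain ⟨ψ, hψ, b, hb, hb0⟩ := h.symm (h.trans hB hD e (h.symm hjd) (fun e => hjk e.symm))
    exact hb0 (hkk ψ hψ b hb)
  set g : AddMonoid.End M := (1 + φ) * f * (1 + φ) * f with hg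
  have hgQ : g ∈ Q := hQ.mul _ (hQ.conj f hf j φ hφ (hkl φ hφ)) f hf
  have hgv : ∀ m, g m = m + f (φ (f m)) + φ m := by
    intro m
    show f (f m + φ (f m)) + φ (f (f m + φ (f m))) = _
    rw [map_add f, hff, map_add φ, hkk φ hφ _ (hk _ (h.val j φ hφ _)), add_zero]
  have hg2 : g * g = 1 := by
    ext m
    show g (g m) = m
    have e1 : ∀ x, φ (f (φ x)) = 0 := fun x => hkk φ hφ _ (hk _ (h.val j φ hφ _))
    have e2 : ∀ x, φ (φ x) = 0 := fun x => h.ker j φ hφ _ (h.val j φ hφ _)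
    rw [hgv (g m), hgv m]
    simp only [map_add, hff, e1, e2, add_zero]
    have e3 := h.two (f (φ (f m)))
    have e4 := h.two (φ m)
    calc m + f (φ (f m)) + φ m + f (φ (f m)) + φ m = m + (f (φ (f m)) + f (φ (f m))) + (φ m + φ m) := by abel
      _ = m := by rw [e3, e4, add_zero, add_zero]
  refine h.two_el' hQ hgQ hg2 hφ hd (h.away hB hD hji hne hjd).1 (fun m hm => ?_)
  rw [hgv]
  have e5 : f (φ (f m)) = 0 := by
    by_contra e
    exact hkd ⟨f * φ * f, hk2 φ hφ, m, hm, e⟩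
  rw [e5, add_zero]

/-- **(3)**: `f` commutes with `Φ j` -/
theorem comm_phi (hB : Big lam Φ) (hD : Dist lam Φ) (hf2 : f * f = 1) {j : ι} (hji : ¬ JJ lam Φ j i)
    (hne : lam j ≠ lam i) {φ : AddMonoid.End M} (hφ : φ ∈ Φ j) :
    (∀ m ∈ lam j, f m ∈ lam j) ∧ ∀ m, f (φ (f m)) = φ m := by
  have hff : ∀ m, f (f m) = m := fun m => DFunLike.congr_fun hf2 m
  obtain ⟨k, hk, hk2⟩ := hQ.mv f hf hf2 j
  have e := h.fix_line hQ hf hB hD hf2 hji hne hk hk2
  rw [← e] at hk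
  refine ⟨hk, ?_⟩
  have hΦ : Φ j = Φ k := by
    obtain ⟨a, ha, ha0⟩ := h.lne j
    exact (h.same j k a ha (e ▸ ha) ha0).2
  rw [← hΦ] at hk2
  have hkl : Kl lam φ i := fun a ha => by
    by_contra e
    exact hji ⟨φ, hφ, a, ha, e⟩
  have h1 : 1 + (f * φ * f + φ) ∈ Q := by
    have h2 := hQ.mul _ (hQ.conj f hf j φ hφ hkl) f hf
    have h3 : (1 + φ) * f * (1 + φ) * f = 1 + (f * φ * f + φ) := by
      ext m
      show f (f m + φ (f m)) + φ (f (f m + φ (f m))) = m + (f (φ (f m)) + φ m)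
      rw [map_add f, hff, map_add φ, h.ker j φ hφ _ (hk _ (h.val j φ hφ _)), add_zero, add_assoc]
    rwa [h3] at h2
  have h2 := h.phi_zero hQ hB hD hji hne (add_mem (hk2 φ hφ) hφ) h1
  intro m
  have h3 : f (φ (f m)) + φ m = 0 := DFunLike.congr_fun h2 m
  rwa [h.add_eq_zero] at h3

/-- **(3)** -/
theorem not_joined (hB : Big lam Φ) (hD : Dist lam Φ) (hf2 : f * f = 1) {j : ι} (hji : ¬ JJ lam Φ j i)
    (hne : lam j ≠ lam i) {x : M} (hx : x ∈ lam j) : f x = x := by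
  have hff : ∀ m, f (f m) = m := fun m => DFunLike.congr_fun hf2 m
  obtain ⟨φ₀, hφ₀, hφ₀0⟩ := h.ne j
  obtain ⟨d, hd⟩ := h.exists_not_kl hφ₀ hφ₀0
  have hjd := h.jj hφ₀ hd
  obtain ⟨hdi, hdne⟩ := h.away hB hD hji hne hjd
  -- step
  have step : ∀ {a b : ι}, ¬ JJ lam Φ a i → lam a ≠ lam i → JJ lam Φ a b → ∀ {m : M}, m ∈ lam b → m ≠ 0 → f m = m →
      ∀ y ∈ lam a, f y = y := by
    intro a b h1 h2 h3 m hm hm0 hfm y hy
    obtain ⟨φ, hφ, e⟩ := h.surj a b m hm (h.moves h3 hm hm0) y hy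
    have h4 := (h.comm_phi hQ hf hB hD hf2 h1 h2 hφ).2 m
    rw [hfm, e] at h4
    exact h4
  -- a fixed point
  obtain ⟨m, hm, hm0, hfm⟩ : ∃ m ∈ lam j, m ≠ 0 ∧ f m = m := by
    obtain ⟨m, hm, hm0⟩ := h.lne j
    have h1 := (h.comm_phi hQ hf hB hD hf2 hji hne hφ₀).1
    by_cases e : m + f m = 0
    · exact ⟨m, hm, hm0, (h.add_eq_zero.1 e).symm⟩
    · refine ⟨m + f m, add_mem hm (h1 m hm), e, ?_⟩
      rw [map_add, hff, add_comm]
  obtain ⟨y, hy, hy0⟩ := h.lne d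
  exact step hji hne hjd hy hy0 (step hdi hdne (h.symm hjd) hm hm0 hfm y hy) x hx

omit hQ hf in
/-- the points generate `M` -/
theorem eq_top {N : AddSubgroup M} (hN : ∀ j, lam j ≤ N) : N = ⊤ := by
  by_contra hne
  have : Fact (Nat.Prime 2) := ⟨Nat.prime_two⟩
  let _ : Module (ZMod 2) M := AddCommGroup.zmodModule (fun m => by rw [two_nsmul]; exact h.two m)
  let N' : Submodule (ZMod 2) M := AddSubgroup.toZModSubmodule 2 N
  have hN' : N' < ⊤ := by
    rw [lt_top_iff_ne_top]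
    intro e
    apply hne
    ext m
    have : m ∈ N' := by rw [e]; trivial
    exact ⟨fun _ => trivial, fun _ => this⟩
  obtain ⟨χ, hχ, hχN⟩ := Submodule.exists_le_ker_of_lt_top N' hN'
  apply hχ
  obtain ⟨x, hx⟩ : ∃ x, x ∉ N := by
    by_contra hcon
    push Not at hcon
    exact hne (eq_top_iff.2 fun x _ => hcon x)
  have hx0 : x ≠ 0 := fun e => hx (e ▸ zero_mem _)
  let φ : AddMonoid.End M := ((LinearMap.toSpanSingleton (ZMod 2) M x).comp χ).toAddMonoidHom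
  have hφ : φ = 0 := by
    refine h.gen φ fun j a ha => ?_
    have h1 : χ a = 0 := hχN (hN j ha)
    show χ a • x = 0
    rw [h1, zero_smul]
  ext m
  have h2 : χ m • x = 0 := DFunLike.congr_fun hφ m
  rcases smul_eq_zero.1 h2 with h3 | h3
  · simpa using h3
  · exact absurd h3 hx0

/-- **[M, f] ≤ lam i** -/
theorem end_le (hB : Big lam Φ) (hD : Dist lam Φ) (hf2 : f * f = 1) (m : M) : m + f m ∈ lam i := by
  let N : AddSubgroup M := (lam i).comap ((1 : AddMonoid.End M) + f)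
  have hN : N = ⊤ := by
    refine h.eq_top fun j x hx => ?_
    show x + f x ∈ lam i
    by_cases hji : JJ lam Φ i j
    · exact h.joined_le hQ hf hB hD hf2 hji hx
    by_cases hne : lam j = lam i
    · rw [hQ.fix f hf x (hne ▸ hx), h.two]
      exact zero_mem _
    · rw [h.not_joined hQ hf hB hD hf2 (fun e => hji (h.symm e)) hne hx, h.two]
      exact zero_mem _
  have : m ∈ N := by rw [hN]; trivial
  exact this

end McL

end Cfsg.Agent.Omega.NO3S.MidQ
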