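import Cfsg.Agent.Omega.NO3S.MidQ.NTwoBig

/-!
# NO-3S, natural lines, TYPE N, blocks `SL_m`, `m ≥ 3`: section (A1), end (TEXT 426-2, THEOREM N2, (6.3), (6.4))

* `NT.card_cg` : `|C_{B_z(a)}(g)| = s³` for `g ∈ U_p ∩ C(a) - C(W_z)`;
* `NT.exists_del` : (6.3) for a flag `(z, L)` an element `δ` which centralises `L` and the blocks `B_x(L)`, `x ≠ z` on
  `L`, and acts nontrivially on `B_z(L) / L`;
* `NT.not_AOne` : (6.4).
-/

set_option autoImplicit false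
set_option linter.unusedSectionVars false

namespace Cfsg.Agent.Omega.NO3S.MidQ

open Subgroup Cfsg.Agent.Omega.NO3S.PT Cfsg.Agent.Omega.NoFF.Basic Cfsg.Agent.ZN
open scoped Pointwise

variable {G : Type*} [Group G] {V Z X Y L : Subgroup G} {Blk : Subgroup G → Set (Subgroup G)} {m : ℕ}

/-- `C_A(g)` -/
def cg (A : Subgroup G) (g : G) : Subgroup G := A ⊓ centralizer ({g} : Set G)

theorem mem_cg {A : Subgroup G} {g x : G} : x ∈ cg A g ↔ x ∈ A ∧ x * g = g * x := by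
  rw [cg, mem_inf, mem_cs]

/-- `g y = l y g`, `l` commutes with `g'`, etc. -/
theorem comm_act {g g' y k k' : G} (h1 : g * y * g⁻¹ = k * y) (h2 : g' * y * g'⁻¹ = k' * y) (h3 : g * k' = k' * g)
    (h4 : g' * k = k * g') (h5 : k * k' = k' * k) :
    g * g' * y * (g * g')⁻¹ = g' * g * y * (g' * g)⁻¹ := by
  have e1 : g * g' * y * (g * g')⁻¹ = g * (g' * y * g'⁻¹) * g⁻¹ := by group
  have e2 : g' * g * y * (g' * g)⁻¹ = g' * (g * y * g⁻¹) * g'⁻¹ := by group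
  rw [e1, e2, h1, h2]
  calc g * (k' * y) * g⁻¹ = (g * k') * y * g⁻¹ := by group
    _ = k' * (g * y * g⁻¹) := by rw [h3]; group
    _ = (k' * k) * y := by rw [h1]; group
    _ = k * (g' * y * g'⁻¹) := by rw [← h5, h2]; group
    _ = (k * g') * y * g'⁻¹ := by group
    _ = g' * (k * y) * g'⁻¹ := by rw [← h4]; group

namespace NT

variable [Finite G] {S : Sylow 2 G} {P : Subgroup G} (h : NT S P V Z Blk m) (h1 : AOne V Z Blk)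
include h h1

theorem pt_dich {p z : Subgroup G} (hpz : Adj V Z p z) {g : G} (hg : TwoEl g) {x : G} (hx : x ∈ p)
    (hxg : x * g ≠ g * x) : ∀ y ∈ p, y * g = g * y → y = 1 := by
  intro y hy e
  by_contra hy1
  exact hxg (h.comm_pt hpz.left hg hy hy1 e.symm x hx).symm

/-- `|C_{B_z(a)}(g)| = s³` -/
theorem card_cg {z p a : Subgroup G} (hs : Sb V Z Blk z p a) (hL : IsCj V L) (hzL : z ≤ L) (haL : a ≤ L) {g : G}
    (hg : g ∈ UU V Z p) (hga : ∀ x ∈ a, g * x = x * g) (hgW : ∃ v ∈ ws V z, g * v ≠ v * g) :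
    Nat.card (cg (bk Blk z a) g) = Nat.card Z ^ 3 ∧ L ≤ cg (bk Blk z a) g ∧ p ≤ cg (bk Blk z a) g := by
  have hpz := hs.l
  have haz := hs.r
  have hgz : ∀ x ∈ z, g * x = x * g := fun x hx =>
    (mem_centralizer_iff.1 (h.UU_le_cent_adj hpz.symm hg) x hx).symm
  have hgp : ∀ x ∈ p, g * x = x * g := fun x hx =>
    (mem_centralizer_iff.1 (h.UU_le_cent_pt hpz.left hg) x hx).symm
  have hLC : L ≤ cg (bk Blk z a) g := by
    intro y hy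
    refine mem_cg.2 ⟨h.line_le_bk haz hL hzL haL hy, ?_⟩
    obtain ⟨u, hu, v, hv, rfl⟩ := h.line_eq haz.right haz.left haz.ne.symm hL hzL haL hy
    calc u * v * g = u * (g * v) := by rw [hga v hv]; group
      _ = g * (u * v) := by rw [← mul_assoc, ← hgz u hu]; group
  have hpC : p ≤ cg (bk Blk z a) g := fun y hy => mem_cg.2 ⟨(hs.symm h).le_bk h hy, (hgp y hy).symm⟩
  refine ⟨?_, hLC, hpC⟩
  -- lower bound
  have h2 : Nat.card p * Nat.card L ≤ Nat.card (cg (bk Blk z a) g) :=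
    card_mul_le hpC hLC fun y hy hyL =>
      h.line_inf hpz.left hL ((hs.symm h).ne L hL hzL haL) hy hyL
  -- a point meeting `C` trivially
  obtain ⟨v, hv, hgv⟩ := hgW
  obtain ⟨β, hβ, d, hd, rfl, hd'⟩ := h.dec haz hv
  have hgd := hd' p hpz ((hs.symm h).le_bk h) g hg
  have hgβ : β * g ≠ g * β := by
    intro e
    apply hgv
    calc g * (β * d) = (g * β) * d := by group
      _ = β * (g * d) := by rw [← e]; group
      _ = β * d * g := by rw [hgd]; group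
  obtain ⟨E, hE, hEz, hβE⟩ := h.exists_pt haz hβ (fun e => hgβ (hgz β e).symm)
  have h3 : Nat.card E * Nat.card (cg (bk Blk z a) g) ≤ Nat.card (bk Blk z a) :=
    card_mul_le hEz inf_le_left fun y hy hyC => h.pt_dich h1 hE (h.two_UU hg) hβE hgβ y hy (mem_cg.1 hyC).2
  rw [h.card_bk haz, h.m_eq h1, h.card_pt hE.left] at h3
  rw [h.card_pt hpz.left, h.card_ln hL] at h2
  have hs0 : 0 < Nat.card Z := Nat.card_pos
  refine le_antisymm (Nat.le_of_mul_le_mul_left (c := Nat.card Z) ?_ hs0) ?_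
  · calc _ ≤ Nat.card Z ^ (3 + 1) := h3
      _ = Nat.card Z * Nat.card Z ^ 3 := by ring
  · calc Nat.card Z ^ 3 = Nat.card Z * (Nat.card Z * Nat.card Z) := by ring
      _ ≤ _ := h2

/-- **(6.3)** -/
theorem exists_del {z a : Subgroup G} (haz : Adj V Z a z) (hL : IsCj V L) (hzL : z ≤ L) (haL : a ≤ L) :
    ∃ δ : G, (∀ y ∈ L, δ * y = y * δ) ∧ (∀ x, IsCj Z x → x ≤ L → x ≠ z → ∀ y ∈ bk Blk x z, δ * y = y * δ) ∧
      ∃ y ∈ bk Blk z a, δ * y * δ⁻¹ * y⁻¹ ∉ L := by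
  -- the first element
  obtain ⟨p1, hp1⟩ := h.exists_sb haz
  have hs1 := hp1.symm h
  obtain ⟨c1, w1, hq1⟩ := h.exists_path h1 hs1
  obtain ⟨g1, hg1, hg1a, hg1W⟩ := h.exists_w0 h1 hq1
  obtain ⟨hC1, hC1L, hC1p⟩ := h.card_cg h1 hs1 hL hzL haL hg1 hg1a hg1W
  -- the second
  have h2 : ∃ x ∈ bk Blk z a, x ∉ cg (bk Blk z a) g1 := by
    by_contra hcon
    push Not at hcon
    have h3 : Nat.card (bk Blk z a) ≤ Nat.card (cg (bk Blk z a) g1) := Subgroup.card_le_of_le hcon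
    rw [hC1, h.card_bk haz, h.m_eq h1] at h3
    have h4 := (Nat.pow_le_pow_iff_right (h.two_le)).1 h3
    omega
  obtain ⟨x, hx, hxC⟩ := h2
  obtain ⟨p2, hp2z, hp2, hxp⟩ := h.exists_pt haz hx (fun e => hxC (hC1L (hzL e)))
  have hs2 : Sb V Z Blk z p2 a :=
    (h.sb_mk' haz hp2z hp2 hL hzL haL fun e => hxC (hC1L (e hxp))).symm h
  obtain ⟨c2, w2, hq2⟩ := h.exists_path h1 hs2
  obtain ⟨g2, hg2, hg2a, hg2W⟩ := h.exists_w0 h1 hq2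
  obtain ⟨hC2, hC2L, hC2p⟩ := h.card_cg h1 hs2 hL hzL haL hg2 hg2a hg2W
  have hd2 : ∀ y ∈ p2, y * g1 = g1 * y → y = 1 :=
    h.pt_dich h1 hp2z (h.two_UU hg1) hxp fun e => hxC (mem_cg.2 ⟨hx, e⟩)
  have hp1L : ¬ p1 ≤ L := fun e => hp1.ne L hL hzL haL e
  have hp1C : ¬ p1 ≤ cg (bk Blk z a) g2 := by
    intro e
    have h3 := mul_of_card (A := L) (B := p1) (K := cg (bk Blk z a) g2) hC2L e
      (fun y hy hy' => h.line_inf hs1.l.left hL hp1L hy' hy)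
      (by rw [hC2, h.card_ln hL, h.card_pt hs1.l.left]; exact le_of_eq (by ring))
    obtain ⟨l, hl, q, hq, e'⟩ := h3 x (hC2p hxp)
    apply hxC
    rw [e']
    exact mul_mem (hC1L hl) (hC1p hq)
  obtain ⟨π, hπ, hπC⟩ := SetLike.not_le_iff_exists.1 hp1C
  have hπz : π ∈ ws V z := h.adj_le_ws' hs1.l hπ
  have hπg2 : π * g2 ≠ g2 * π := fun e => hπC (mem_cg.2 ⟨hp1.le_bk h hπ, e⟩)
  -- the centralisers
  have hLg1 : ∀ y ∈ L, g1 * y = y * g1 := fun y hy => (mem_cg.1 (hC1L hy)).2.symm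
  have hLg2 : ∀ y ∈ L, g2 * y = y * g2 := fun y hy => (mem_cg.1 (hC2L hy)).2.symm
  have hact : ∀ {p : Subgroup G} {g : G}, Sb V Z Blk z p a → g ∈ UU V Z p → (∀ y ∈ L, g * y = y * g) →
      ∀ x, IsCj Z x → x ≤ L → x ≠ z → ∀ y ∈ bk Blk x z, ∃ k ∈ L, g * y * g⁻¹ = k * y := by
    intro p g hs hg hgL x hxZ hxL hxz y hy
    have hxz' : Adj V Z x z := ⟨hxZ, haz.right, hxz, L, hL, hxL, hzL⟩
    have hs' : Sb V Z Blk z p x := by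
      refine ((h.sb_mk' hxz' hs.l ?_ hL hzL hxL ((hs.symm h).ne L hL hzL haL)).symm h)
      rw [h.bk_line haz hxz' hL hzL haL hxL]
      exact (hs.symm h).le_bk h
    have h3 := h.w0_line h1 hs' hL hzL hxL hg (fun y hy => hgL y (hxL hy)) hy
    refine ⟨(y * g * y⁻¹ * g⁻¹)⁻¹, inv_mem h3, ?_⟩
    group
  have hδ1 : ∀ y ∈ L, g1 * g2 * g1⁻¹ * g2⁻¹ * y = y * (g1 * g2 * g1⁻¹ * g2⁻¹) := by
    intro y hy
    have c1 : Commute y g1 := (hLg1 y hy).symm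
    have c2 : Commute y g2 := (hLg2 y hy).symm
    exact (((c1.mul_right c2).mul_right c1.inv_right).mul_right c2.inv_right).symm
  refine ⟨g1 * g2 * g1⁻¹ * g2⁻¹, hδ1, fun x hxZ hxL hxz y hy => ?_, ?_⟩
  · have hxz' : Adj V Z x z := ⟨hxZ, haz.right, hxz, L, hL, hxL, hzL⟩
    have hblk : ∀ {g : G}, (∀ y ∈ L, g * y = y * g) → cj g⁻¹ (bk Blk x z) = bk Blk x z := by
      intro g hgL
      have h3 : ∀ y ∈ L, g⁻¹ * y = y * g⁻¹ := fun y hy => (Commute.inv_left (hgL y hy : Commute g y) : _)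
      rw [← h.bk_cj hxz'.symm, cj_of_cent fun y hy => h3 y (hxL hy), cj_of_cent fun y hy => h3 y (hzL hy)]
    -- `y0 = (g2 g1)⁻¹ y (g2 g1)`
    have hy1 : g2⁻¹ * y * g2⁻¹⁻¹ ∈ bk Blk x z := by
      rw [← hblk hLg2]; exact conj_mem_cj hy
    have hy0 : g1⁻¹ * (g2⁻¹ * y * g2⁻¹⁻¹) * g1⁻¹⁻¹ ∈ bk Blk x z := by
      rw [← hblk hLg1]; exact conj_mem_cj hy1
    obtain ⟨k, hk, ek⟩ := hact hs1 hg1 hLg1 x hxZ hxL hxz _ hy0
    obtain ⟨k', hk', ek'⟩ := hact hs2 hg2 hLg2 x hxZ hxL hxz _ hy0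
    have h3 := comm_act ek ek' (hLg1 k' hk') (hLg2 k hk)
      (h.ws_comm haz.right (le_ws hL hzL hk) (le_ws hL hzL hk'))
    have e1 : g2 * g1 * (g1⁻¹ * (g2⁻¹ * y * g2⁻¹⁻¹) * g1⁻¹⁻¹) * (g2 * g1)⁻¹ = y := by group
    have e2 : g1 * g2 * (g1⁻¹ * (g2⁻¹ * y * g2⁻¹⁻¹) * g1⁻¹⁻¹) * (g1 * g2)⁻¹ =
      g1 * g2 * g1⁻¹ * g2⁻¹ * y * (g1 * g2 * g1⁻¹ * g2⁻¹)⁻¹ := by group
    rw [e1, e2] at h3
    rwa [mul_inv_eq_iff_eq_mul] at h3
  · -- nontrivial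
    have hκ : g2 * π * g2⁻¹ * π⁻¹ ∈ p2 := h.UU_ws h.typ hs2.l hg2 hπz
    have hκ1 : g2 * π * g2⁻¹ * π⁻¹ ≠ 1 := fun e => hπg2 (Mid.comm_eq e).symm
    set κ := g2 * π * g2⁻¹ * π⁻¹ with hκ'
    have hlam : g1 * κ * g1⁻¹ * κ⁻¹ ∈ p1 := h.UU_ws h.typ hs1.l hg1 (h.adj_le_ws' hs2.l hκ)
    have hlam1 : g1 * κ * g1⁻¹ * κ⁻¹ ≠ 1 := fun e => hκ1 (hd2 κ hκ (Mid.comm_eq e).symm)
    have hg1π : g1 * π * g1⁻¹ = π := by
      have h3 : g1 * π = π * g1 := (mem_centralizer_iff.1 (h.UU_le_cent_pt hs1.l.left hg1) π hπ).symm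
      rw [h3, mul_inv_cancel_right]
    have hy : g2 * π * g2⁻¹ ∈ bk Blk z a := by
      have e : g2 * π * g2⁻¹ = κ * π := by rw [hκ']; group
      rw [e]
      exact mul_mem (hp2 hκ) (hp1.le_bk h hπ)
    refine ⟨g2 * π * g2⁻¹, hy, fun e => ?_⟩
    have e1 : g1 * g2 * g1⁻¹ * g2⁻¹ * (g2 * π * g2⁻¹) * (g1 * g2 * g1⁻¹ * g2⁻¹)⁻¹ * (g2 * π * g2⁻¹)⁻¹ =
      g1 * κ * g1⁻¹ * κ⁻¹ := by
      have e2 : g1 * g2 * g1⁻¹ * g2⁻¹ * (g2 * π * g2⁻¹) * (g1 * g2 * g1⁻¹ * g2⁻¹)⁻¹ =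
        g1 * (g2 * (g1⁻¹ * π * g1) * g2⁻¹) * g1⁻¹ := by group
      have e3 : g1⁻¹ * π * g1 = π := by
        nth_rewrite 1 [← hg1π]
        group
      rw [e2, e3]
      have e4 : g2 * π * g2⁻¹ = κ * π := by rw [hκ']; group
      rw [e4]
      calc g1 * (κ * π) * g1⁻¹ * (κ * π)⁻¹ = g1 * κ * g1⁻¹ * (g1 * π * g1⁻¹) * π⁻¹ * κ⁻¹ := by group
        _ = g1 * κ * g1⁻¹ * κ⁻¹ := by rw [hg1π]; group
    rw [e1] at e
    exact hlam1 (h.line_inf hs1.l.left hL hp1L hlam e)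

/-- **(6.4)** -/
theorem not_AOne : False := by
  obtain ⟨L, hL, hZL⟩ := h.exists_line h.pl.isCj_self
  have hz := h.pl.isCj_self
  obtain ⟨y, hy, hyL, hyz⟩ := h.exists_second hz hL hZL
  obtain ⟨x, hx, hxL, hxz, hxy⟩ := h.exists_third hz hy hL hZL hyL hyz.symm
  have hyz' : Adj V Z y Z := ⟨hy, hz, hyz, L, hL, hyL, hZL⟩
  have hxy' : Adj V Z x y := ⟨hx, hy, hxy, L, hL, hxL, hyL⟩
  obtain ⟨δ, hδL, hδ, v0, hv0, hv0L⟩ := h.exists_del h1 hyz' hL hZL hyL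
  obtain ⟨b, hb⟩ := h.exists_sb hyz'.symm
  have hbL : ¬ b ≤ L := hb.ne L hL hyL hZL
  have hxz' : Adj V Z x Z := ⟨hx, hz, hxz, L, hL, hxL, hZL⟩
  -- `b`, `x` at `y`
  have hbx : Sb V Z Blk y b x := by
    refine (h.sb_mk' hxy' hb.r ?_ hL hyL hxL hbL).symm h
    rw [h.bk_line hyz'.symm hxy' hL hyL hZL hxL]
    exact hb.le_bk h
  have hby := hb.r
  obtain ⟨M, hM, hbM, hyM⟩ := hby.line
  have hδby : ∀ u ∈ bk Blk y Z, δ * u = u * δ := hδ y hy hyL hyz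
  have hδb : ∀ u ∈ b, δ * u = u * δ := fun u hu => hδby u (hb.le_bk h hu)
  have hδy : ∀ u ∈ y, δ * u = u * δ := fun u hu => hδL u (hyL hu)
  have hδx : ∀ u ∈ bk Blk x y, δ * u = u * δ := by
    intro u hu
    refine hδ x hx hxL hxz u ?_
    rwa [h.bk_line hxy'.symm hxz'.symm hL hxL hyL hZL]
  have hblkb : cj δ (bk Blk b y) = bk Blk b y := by
    rw [← h.bk_cj hby.symm, cj_of_cent hδb, cj_of_cent hδy]
  -- step 1
  have step1 : ∀ u ∈ bk Blk b y, u⁻¹ * (δ * u * δ⁻¹) ∈ M := by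
    intro u hu
    have hu' : δ * u * δ⁻¹ ∈ bk Blk b y := by
      rw [← hblkb]; exact conj_mem_cj hu
    have huu := mul_mem (inv_mem hu) hu'
    refine h.cent_ln h1 hbx hM hyM hbM huu fun w hw => ?_
    obtain ⟨β, hβ, d, hd, rfl, hd'⟩ := h.dec hxy'.symm hw
    have e1 : u⁻¹ * (δ * u * δ⁻¹) * d = d * (u⁻¹ * (δ * u * δ⁻¹)) :=
      hd' y hxy'.symm (h.le_bk hxy'.symm) _ (le_UU hby (h.bk_le hby.symm huu))
    have e2 : u⁻¹ * (δ * u * δ⁻¹) * β = β * (u⁻¹ * (δ * u * δ⁻¹)) := by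
      -- `[β, δuδ⁻¹] = [β, u]`
      have h2 : β * u * β⁻¹ * u⁻¹ ∈ y := h.mid_mem h.typ hxy' hby.symm (h.bk_le hxy'.symm hβ) (h.bk_le hby.symm hu)
      have hδβ : δ * β * δ⁻¹ = β := by rw [hδx β hβ, mul_inv_cancel_right]
      have h3 : β * (δ * u * δ⁻¹) * β⁻¹ * (δ * u * δ⁻¹)⁻¹ = β * u * β⁻¹ * u⁻¹ := by
        have e3 : δ * (β * u * β⁻¹ * u⁻¹) * δ⁻¹ = β * u * β⁻¹ * u⁻¹ := by
          rw [hδy _ h2, mul_inv_cancel_right]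
        calc β * (δ * u * δ⁻¹) * β⁻¹ * (δ * u * δ⁻¹)⁻¹
            = (δ * β * δ⁻¹) * (δ * u * δ⁻¹) * (δ * β * δ⁻¹)⁻¹ * (δ * u * δ⁻¹)⁻¹ := by rw [hδβ]
          _ = δ * (β * u * β⁻¹ * u⁻¹) * δ⁻¹ := by group
          _ = β * u * β⁻¹ * u⁻¹ := e3
      have h4 : (β * u * β⁻¹ * u⁻¹)⁻¹ = (β * (δ * u * δ⁻¹) * β⁻¹ * (δ * u * δ⁻¹)⁻¹)⁻¹ := by rw [h3]
      have e5 : (β * u * β⁻¹ * u⁻¹)⁻¹ = u * β * u⁻¹ * β⁻¹ := by group
      have e6 : (β * (δ * u * δ⁻¹) * β⁻¹ * (δ * u * δ⁻¹)⁻¹)⁻¹ =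
        δ * u * δ⁻¹ * β * (δ * u * δ⁻¹)⁻¹ * β⁻¹ := by group
      rw [e5, e6] at h4
      exact comm_inj h4
    calc u⁻¹ * (δ * u * δ⁻¹) * (β * d) = (u⁻¹ * (δ * u * δ⁻¹) * β) * d := by group
      _ = β * (u⁻¹ * (δ * u * δ⁻¹) * d) := by rw [e2]; group
      _ = β * d * (u⁻¹ * (δ * u * δ⁻¹)) := by rw [e1]; group
  -- step 2
  have hzy := hyz'.symm
  have hδz : ∀ u ∈ Z, δ * u = u * δ := fun u hu => hδL u (hZL hu)
  have hblkz : cj δ (bk Blk Z y) = bk Blk Z y := by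
    rw [← h.bk_cj hyz', cj_of_cent hδz, cj_of_cent hδy]
  have hv' : δ * v0 * δ⁻¹ ∈ bk Blk Z y := by
    rw [← hblkz]; exact conj_mem_cj hv0
  have hvz := h.bk_le hyz' hv0
  have hvz' := h.bk_le hyz' hv'
  have hvv := mul_mem (inv_mem hv0) hv'
  have h2 : v0⁻¹ * (δ * v0 * δ⁻¹) ∈ L := by
    refine h.cent_ln h1 hb hL hyL hZL hvv fun w hw => ?_
    obtain ⟨u, hu, d, hd, rfl, hd'⟩ := h.dec hby.symm hw
    have e1 : v0⁻¹ * (δ * v0 * δ⁻¹) * d = d * (v0⁻¹ * (δ * v0 * δ⁻¹)) :=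
      hd' y hby.symm (h.le_bk hby.symm) _ (le_UU hzy (h.bk_le hyz' hvv))
    have e2 : v0⁻¹ * (δ * v0 * δ⁻¹) * u = u * (v0⁻¹ * (δ * v0 * δ⁻¹)) := by
      apply comm_inj
      have hk := step1 u hu
      -- `v'` commutes with `k = u⁻¹ δ u δ⁻¹`
      have hk2 : δ * v0 * δ⁻¹ * (u⁻¹ * (δ * u * δ⁻¹)) = u⁻¹ * (δ * u * δ⁻¹) * (δ * v0 * δ⁻¹) := by
        obtain ⟨s, hs, t, ht, e⟩ := h.line_eq hby.left hby.right hby.ne hM hbM hyM hk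
        have h3 := mem_centralizer_iff.1 (h.ws_le_cent hzy hby.symm hvz') s hs
        have h4 := mem_centralizer_iff.1 (h.ws_le_cent' hzy hvz') t ht
        rw [e]
        calc δ * v0 * δ⁻¹ * (s * t) = (δ * v0 * δ⁻¹ * s) * t := by group
          _ = s * (δ * v0 * δ⁻¹ * t) := by rw [← h3]; group
          _ = s * t * (δ * v0 * δ⁻¹) := by rw [← h4]; group
      have h5 : v0 * u * v0⁻¹ * u⁻¹ ∈ y := h.mid_mem h.typ hzy hby.symm hvz (h.bk_le hby.symm hu)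
      have h6 : δ * v0 * δ⁻¹ * (δ * u * δ⁻¹) * (δ * v0 * δ⁻¹)⁻¹ * (δ * u * δ⁻¹)⁻¹ = v0 * u * v0⁻¹ * u⁻¹ := by
        calc _ = δ * (v0 * u * v0⁻¹ * u⁻¹) * δ⁻¹ := by group
          _ = _ := by rw [hδy _ h5, mul_inv_cancel_right]
      rw [← h6]
      -- `[v', u k] = [v', u]`
      set v' := δ * v0 * δ⁻¹ with hv''
      set u' := δ * u * δ⁻¹ with hu''
      have h7 : v' * (u⁻¹ * u') * v'⁻¹ = u⁻¹ * u' := by rw [hk2, mul_inv_cancel_right]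
      calc v' * u' * v'⁻¹ * u'⁻¹ = v' * u * v'⁻¹ * (v' * (u⁻¹ * u') * v'⁻¹) * u'⁻¹ := by group
        _ = v' * u * v'⁻¹ * u⁻¹ := by rw [h7]; group
    calc v0⁻¹ * (δ * v0 * δ⁻¹) * (u * d) = (v0⁻¹ * (δ * v0 * δ⁻¹) * u) * d := by group
      _ = u * (v0⁻¹ * (δ * v0 * δ⁻¹) * d) := by rw [e2]; group
      _ = u * d * (v0⁻¹ * (δ * v0 * δ⁻¹)) := by rw [e1]; group
  apply hv0L
  rwa [h.ws_comm hz hvz' (inv_mem hvz)]

end NT

end Cfsg.Agent.Omega.NO3S.MidQ
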