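import Cfsg.Agent.Omega.NO3S.MidQ.NTwoPath

/-!
# NO-3S, natural lines, TYPE N, blocks `SL_m`, `m ≥ 3`: section (A1), (5.2)–(6.2) (TEXT 426-2, THEOREM N2)

* `NT.m_le` : (5.2) `m = 3`;  `NT.big` : (5.3);  `NT.cent_ln` : `C_{B_a(r)}(W_b)` is the line `ar`;
* `NT.exists_w0` : (6.1);  `NT.w0_line` : (6.2).
-/

set_option autoImplicit false
set_option linter.unusedSectionVars false

namespace Cfsg.Agent.Omega.NO3S.MidQ

open Subgroup Cfsg.Agent.Omega.NO3S.PT Cfsg.Agent.Omega.NoFF.Basic Cfsg.Agent.ZN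
open scoped Pointwise

variable {G : Type*} [Group G] {V Z X Y L : Subgroup G} {Blk : Subgroup G → Set (Subgroup G)} {m : ℕ}

/-- `C_A(B)` -/
def cnz (A B : Subgroup G) : Subgroup G := A ⊓ centralizer (B : Set G)

theorem mem_cnz {A B : Subgroup G} {x : G} : x ∈ cnz A B ↔ x ∈ A ∧ ∀ y ∈ B, x * y = y * x := by
  rw [cnz, mem_inf, mem_centralizer_iff]
  exact ⟨fun e => ⟨e.1, fun y hy => (e.2 y hy).symm⟩, fun e => ⟨e.1, fun y hy => (e.2 y hy).symm⟩⟩

theorem cnz_cj (A B : Subgroup G) (g : G) : cnz (cj g A) (cj g B) = cj g (cnz A B) := by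
  rw [cnz, cnz, cj_inf, cj_centralizer]

theorem mem_cs {x y : G} : x ∈ centralizer ({y} : Set G) ↔ x * y = y * x := by
  rw [mem_centralizer_iff]
  constructor
  · intro e
    exact (e y rfl).symm
  · rintro e _ rfl
    exact e.symm

namespace NT

variable [Finite G] {S : Sylow 2 G} {P : Subgroup G} (h : NT S P V Z Blk m) (h1 : AOne V Z Blk)
include h h1

/-- `a`, `a^w` are in one block at `r` on different lines -/
theorem path_sb {c p r a : Subgroup G} {w : G} (hp : Path V Z Blk c p r a w) : Sb V Z Blk r a (cj w a) := by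
  have hcp := hp.cr.l
  have hpr := hp.cr.r.symm
  have har := hp.pa.r
  have hwc := h.bk_le hcp.symm hp.hw
  have hwr : ∀ x ∈ r, w * x = x * w := fun x hx =>
    (mem_centralizer_iff.1 (h.ws_le_cent hcp hpr hwc) x hx).symm
  have hwp : ∀ x ∈ p, w * x = x * w := fun x hx => (mem_centralizer_iff.1 (h.ws_le_cent' hcp hwc) x hx).symm
  obtain ⟨L, hL, haL, hrL⟩ := har.line
  have hadj : Adj V Z (cj w a) r := by
    have := har.cj w
    rwa [cj_of_cent hwr] at this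
  have hblk : cj w (bk Blk r a) = bk Blk r a := by
    rw [hp.pa.bk_eq h, ← h.bk_cj hpr, cj_of_cent hwp, cj_of_cent hwr]
  refine h.sb_mk' har hadj ?_ hL hrL haL fun e => ?_
  · rw [← hblk]
    exact cj_le_cj.2 (h.le_bk har)
  · obtain ⟨α, hα, hα1⟩ := h.pt_ne_bot har.left
    have h2 : w * α * w⁻¹ * α⁻¹ ∈ p := h.UU_ws h.typ hpr (le_UU hcp hwc) (h.adj_le_ws' har hα)
    have h3 : w * α * w⁻¹ * α⁻¹ ∈ L := mul_mem (e (conj_mem_cj hα)) (inv_mem (haL hα))
    have h4 := h.line_inf hpr.left hL (fun e' => (hp.pa.symm h).ne L hL hrL haL e') h2 h3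
    exact hα1 (hp.mv α hα (Mid.comm_eq h4))

theorem pow_le_of_path {c p r a : Subgroup G} {w : G} (hp : Path V Z Blk c p r a w) :
    Nat.card Z ^ (m + 1) ≤ Nat.card Z ^ 4 := by
  have hcp := hp.cr.l
  have hpr := hp.cr.r.symm
  have har := hp.pa.r
  have hs := h.path_sb h1 hp
  have hwc := h.bk_le hcp.symm hp.hw
  obtain ⟨M, hM, hcM, hpM⟩ := hcp.line
  obtain ⟨γ, hγ, hγ1⟩ := h.pt_ne_bot hcp.left
  have hγp := h.adj_le_ws' hcp hγ
  have hwr : ∀ x ∈ r, w * x = x * w := fun x hx =>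
    (mem_centralizer_iff.1 (h.ws_le_cent hcp hpr hwc) x hx).symm
  -- first
  have h2 : Nat.card (bk Blk a r) ≤ Nat.card r * Nat.card (bk Blk a r ⊓ centralizer ({γ} : Set G) : Subgroup G) := by
    refine card_le_mul (fun y => y * γ * y⁻¹ * γ⁻¹) (fun y hy => ?_) fun y hy y' hy' e => ?_
    · exact h.mid_mem h.typ har hpr.symm (h.bk_le har.symm hy) hγp
    · exact mem_cs.2 (comm_inj e)
  -- second
  set Y := bk Blk a r ⊓ centralizer ({γ} : Set G) with hY
  have h3 : Nat.card Y ≤ Nat.card M * Nat.card (Y ⊓ centralizer ({w} : Set G) : Subgroup G) := by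
    refine card_le_mul (fun y => y * w * y⁻¹ * w⁻¹) (fun y hy => ?_) fun y hy y' hy' e => ?_
    · have hya := h.bk_le har.symm hy.1
      have hyc : cj y c = c := cj_of_cent (h.comm_pt hcp.left (h.two_ws har.left hya) hγ hγ1 (mem_cs.1 hy.2))
      have hyp : cj y p = p := cj_of_cent fun x hx =>
        (mem_centralizer_iff.1 (h.ws_le_cent har hpr.symm hya) x hx).symm
      have hblk : cj y (bk Blk c p) = bk Blk c p := by
        rw [← h.bk_cj hcp.symm, hyc, hyp]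
      refine h.bk_UU h1 hp.cr hM hcM hpM ?_ ?_
      · refine mul_mem ?_ (inv_mem hp.hw)
        rw [← hblk]
        exact conj_mem_cj hp.hw
      · have h4 := (mem_normalizer_iff.1 (h.ws_norm_UU hcp hpr hwc) y⁻¹).1 (inv_mem (le_UU har hya))
        have e : y * w * y⁻¹ * w⁻¹ = y * (w * y⁻¹ * w⁻¹) := by group
        rw [e]
        exact mul_mem (le_UU har hya) h4
    · exact mem_cs.2 (comm_inj e)
  have h4 : Nat.card (Y ⊓ centralizer ({w} : Set G) : Subgroup G) ≤ Nat.card r := by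
    refine Subgroup.card_le_of_le ?_
    rintro y ⟨⟨hy, -⟩, hyw⟩
    refine h.inf_bk (h.cr_of_sb h1 hs) hy ?_
    have e : bk Blk (cj w a) r = cj w (bk Blk a r) := by
      rw [← h.bk_cj har.symm, cj_of_cent hwr]
    rw [e, mem_cj, mul_assoc, mem_cs.1 hyw, inv_mul_cancel_left]
    exact hy
  rw [h.card_pt hpr.right] at h2 h4
  rw [h.card_ln hM] at h3
  rw [← h.card_bk har.symm]
  calc Nat.card (bk Blk a r) ≤ Nat.card Z * Nat.card Y := h2
    _ ≤ Nat.card Z * (Nat.card Z * Nat.card Z * Nat.card Z) :=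
      Nat.mul_le_mul_left _ (h3.trans (Nat.mul_le_mul_left _ h4))
    _ = Nat.card Z ^ 4 := by ring

/-- there are pairs in one block on different lines -/
theorem exists_sb0 : ∃ R A B, Sb V Z Blk R A B := by
  obtain ⟨L, hL, hZL⟩ := h.exists_line h.pl.isCj_self
  obtain ⟨Y, hY, hYL, hYZ⟩ := h.exists_second h.pl.isCj_self hL hZL
  have hA : Adj V Z Y Z := ⟨hY, h.pl.isCj_self, hYZ, L, hL, hYL, hZL⟩
  obtain ⟨B, hB⟩ := h.exists_sb hA
  exact ⟨_, _, _, hB⟩

/-- **(5.2)** -/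
theorem m_eq : m = 3 := by
  obtain ⟨r, p, a, hs⟩ := h.exists_sb0 h1
  obtain ⟨c, w, hp⟩ := h.exists_path h1 hs
  have h2 := (Nat.pow_le_pow_iff_right (h.two_le)).1 (h.pow_le_of_path h1 hp)
  have h3 := h.slb.three
  omega

/-- (5.3) on a path -/
theorem big' {c p r a : Subgroup G} {w : G} (hp : Path V Z Blk c p r a w) :
    ¬ Nat.card (ws V a) ≤ Nat.card Z * Nat.card (cnz (ws V a) (ws V (cj w a))) := by
  intro hle
  have hcp := hp.cr.l
  have hpr := hp.cr.r.symm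
  have har := hp.pa.r
  have hs := h.path_sb h1 hp
  have hcr := h.cr_of_sb h1 hs
  have hwc := h.bk_le hcp.symm hp.hw
  have hwU := le_UU hcp hwc
  have hw2 : w⁻¹ = w := h.ws_inv hcp.left hwc
  have hws : ws V (cj w a) = cj w (ws V a) := ws_cj V a w
  -- dihedral
  have key : ∀ y ∈ ws V a, y * (w * y * w⁻¹) = w * y * w⁻¹ * y := by
    intro y hy
    have hy2 : y⁻¹ = y := h.ws_inv har.left hy
    have hy' : w * y * w⁻¹ ∈ ws V (cj w a) := by rw [hws]; exact conj_mem_cj hy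
    have hy3 : (w * y * w⁻¹)⁻¹ = w * y * w⁻¹ := h.ws_inv hs.r.left hy'
    have h2 : y * (w * y * w⁻¹) ∈ UU V Z p := by
      have h3 := (mem_normalizer_iff.1 (h.ws_norm_UU har hpr.symm hy) w).1 hwU
      have e : y * (w * y * w⁻¹) = y * w * y⁻¹ * w⁻¹ := by rw [hy2]; group
      rw [e]
      exact mul_mem h3 (inv_mem hwU)
    have h3 := h.UU_sq h.typ hpr.left h2
    have h4 := h.mid_mem h.typ har hs.r.symm hy hy'
    have e : y * (w * y * w⁻¹) * y⁻¹ * (w * y * w⁻¹)⁻¹ = y * (w * y * w⁻¹) * (y * (w * y * w⁻¹)) := by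
      rw [hy3, hy2]; group
    have h5 := h.pt_inf hpr.left hpr.right hpr.ne h3 (e ▸ h4)
    rw [← e] at h5
    exact Mid.comm_eq h5
  -- a point `E ~ a` not centralised by `W_b`
  obtain ⟨β, hβ, v, hv, hβv⟩ := h.exists_bk hcr
  have hvb := h.bk_le hs.r.symm hv
  have hβa : β ∉ a := by
    intro e
    exact hβv (mem_centralizer_iff.1 (h.ws_le_cent hs.r har.symm hvb) β e)
  obtain ⟨E, hE, hEa, hβE⟩ := h.exists_pt har.symm hβ hβa
  have hE1 : ∀ x ∈ E, (∀ y ∈ ws V (cj w a), x * y = y * x) → x = 1 := by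
    intro x hx hxW
    by_contra hx1
    exact hβv (h.comm_pt hE.left (h.two_ws hs.r.left hvb) hx hx1 (hxW v hvb).symm β hβE).symm
  have hsplit := mul_of_card (A := E) (B := cnz (ws V a) (ws V (cj w a))) (K := ws V a)
    (h.adj_le_ws' hE) inf_le_left (fun x hx hx' => hE1 x hx (mem_cnz.1 hx').2) (by rwa [h.card_pt hE.left])
  -- the contradiction
  have hβa' : β ∈ ws V a := h.bk_le har.symm hβ
  set v' := w * β * w⁻¹ with hv'
  have hv'b : v' ∈ ws V (cj w a) := by rw [hws]; exact conj_mem_cj hβa'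
  have hcomm := key β hβa'
  have h2 : ∀ y ∈ ws V a, v' * y = y * v' := by
    obtain ⟨ε, hε, d, hd, e⟩ := hsplit β hβa'
    have hdv := (mem_cnz.1 hd).2 v' hv'b
    have hε1 : ε ≠ 1 := by
      rintro rfl
      rw [one_mul] at e
      exact hβv (by rw [e]; exact (mem_cnz.1 hd).2 v hvb)
    have h3 : v' * ε = ε * v' := by
      have h4 : ε * d * v' = v' * (ε * d) := by rw [← e]; exact hcomm
      have h5 : ε * v' * d = v' * ε * d := by
        calc ε * v' * d = ε * (v' * d) := by group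
          _ = ε * d * v' := by rw [← hdv]; group
          _ = v' * (ε * d) := h4
          _ = v' * ε * d := by group
      exact (mul_right_cancel h5).symm
    have h4 := h.comm_pt hE.left (h.two_ws hs.r.left hv'b) hε hε1 h3
    intro y hy
    obtain ⟨x, hx, d', hd', rfl⟩ := hsplit y hy
    calc v' * (x * d') = (v' * x) * d' := by group
      _ = x * (v' * d') := by rw [h4 x hx]; group
      _ = x * d' * v' := by rw [← (mem_cnz.1 hd').2 v' hv'b]; group
  apply hβv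
  have h3 : w⁻¹ * v * w ∈ ws V a := by rwa [hws, mem_cj] at hvb
  have h4 := h2 _ (by
    have : w⁻¹ * v * w = w⁻¹ * v * w := rfl
    exact h3)
  -- `v' = w β w⁻¹`, `w⁻¹ = w`
  have h5 : cj w (ws V (cj w a)) = ws V a := by
    rw [hws, cj_cj]
    have : w * w = 1 := by rw [← hw2, hw2]; exact h.ws_sq hcp.left hwc
    rw [this, cj_one]
  have h6 : w * v * w⁻¹ ∈ ws V a := by rw [← h5]; exact conj_mem_cj hvb
  have h7 := h2 _ h6
  have h8 : w⁻¹ * (v' * (w * v * w⁻¹)) * w = w⁻¹ * (w * v * w⁻¹ * v') * w := by rw [h7]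
  have e1 : w⁻¹ * (v' * (w * v * w⁻¹)) * w = β * v := by rw [hv']; group
  have e2 : w⁻¹ * (w * v * w⁻¹ * v') * w = v * β := by rw [hv']; group
  rw [← e1, ← e2, h8]

/-- **(5.3)** -/
theorem big {r a b : Subgroup G} (hs : Sb V Z Blk r a b) :
    ¬ Nat.card (ws V a) ≤ Nat.card Z * Nat.card (cnz (ws V a) (ws V b)) := by
  obtain ⟨c, w, hp⟩ := h.exists_path h1 (hs.symm h)
  obtain ⟨g, -, hg1, hg2⟩ := h.sb_move (h.path_sb h1 hp) hs
  have h2 := h.big' h1 hp
  rwa [← card_cj g (cnz _ _), ← cnz_cj, ← ws_cj, ← ws_cj, hg1, hg2, ← card_cj g (ws V a), ← ws_cj, hg1] at h2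

/-- **(5.3)**: `C_{B_a(r)}(W_b)` is the line `ar` -/
theorem cent_ln {r a b : Subgroup G} (hs : Sb V Z Blk r a b) (hL : IsCj V L) (hrL : r ≤ L) (haL : a ≤ L) {x : G}
    (hx : x ∈ bk Blk a r) (hxb : ∀ y ∈ ws V b, x * y = y * x) : x ∈ L := by
  by_contra hxL
  have har := hs.l
  obtain ⟨E, hE, hEa, hxE⟩ := h.exists_pt har.symm hx (fun e => hxL (haL e))
  have hx1 : x ≠ 1 := fun e => hxL (e ▸ one_mem _)
  have hEC : ∀ y ∈ E, y ∈ cnz (ws V a) (ws V b) := by
    intro y hy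
    refine mem_cnz.2 ⟨h.adj_le_ws' hE hy, fun v hv => ?_⟩
    exact (h.comm_pt hE.left (h.two_ws hs.r.left hv) hxE hx1 (hxb v hv).symm y hy).symm
  have hLC : ∀ y ∈ L, y ∈ cnz (ws V a) (ws V b) := by
    intro y hy
    obtain ⟨u, hu, v, hv, rfl⟩ := h.line_eq har.right har.left har.ne.symm hL hrL haL hy
    refine mul_mem (mem_cnz.2 ⟨h.adj_le_ws har hu, fun z hz => ?_⟩) (mem_cnz.2 ⟨h.pt_le_ws har.left hv, fun z hz => ?_⟩)
    · exact mem_centralizer_iff.1 (h.ws_le_cent' hs.r hz) u hu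
    · exact mem_centralizer_iff.1 (h.ws_le_cent hs.r har.symm hz) v hv
  have h2 : Nat.card E * Nat.card L ≤ Nat.card (bk Blk a r ⊓ cnz (ws V a) (ws V b) : Subgroup G) := by
    refine card_mul_le (fun y hy => ⟨hEa hy, hEC y hy⟩)
      (fun y hy => ⟨h.line_le_bk har.symm hL haL hrL hy, hLC y hy⟩) fun y hy hyL => ?_
    exact h.line_inf hE.left hL (fun e => hxL (e hxE)) hy hyL
  have h3 := card_dec (H := ws V a) (B := bk Blk a r) (C := cnz (ws V a) (ws V b)) fun y hy => by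
    obtain ⟨β, hβ, d, hd, rfl, h4⟩ := h.dec har.symm hy
    exact ⟨β, hβ, d, mem_cnz.2 ⟨hd, fun z hz => (h4 r har.symm (h.le_bk har.symm) z (le_UU hs.r hz)).symm⟩, rfl⟩
  apply h.big h1 hs
  rw [h.card_bk har.symm, h.m_eq h1] at h3
  rw [h.card_pt hE.left, h.card_ln hL] at h2
  set s := Nat.card Z with hs'
  set k := Nat.card (bk Blk a r ⊓ cnz (ws V a) (ws V b) : Subgroup G) with hk
  have hs0 : 0 < s := Nat.card_pos
  have hk0 : 0 < k := Nat.card_pos
  have h4 : s ^ (3 + 1) ≤ s * k := by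
    calc s ^ (3 + 1) = s * (s * (s * s)) := by ring
      _ ≤ s * k := Nat.mul_le_mul_left _ h2
  refine Nat.le_of_mul_le_mul_right (c := k) ?_ hk0
  calc Nat.card (ws V a) * k ≤ s ^ (3 + 1) * Nat.card (cnz (ws V a) (ws V b)) := h3
    _ ≤ s * k * Nat.card (cnz (ws V a) (ws V b)) := Nat.mul_le_mul_right _ h4
    _ = s * Nat.card (cnz (ws V a) (ws V b)) * k := by ring

/-- **(6.1)** -/
theorem exists_w0 {c p r a : Subgroup G} {w : G} (hp : Path V Z Blk c p r a w) :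
    ∃ g ∈ UU V Z p, (∀ x ∈ a, g * x = x * g) ∧ ∃ v ∈ ws V r, g * v ≠ v * g := by
  by_contra hcon
  push Not at hcon
  have hcp := hp.cr.l
  have hpr := hp.cr.r.symm
  have har := hp.pa.r
  obtain ⟨α, hα, hα1⟩ := h.pt_ne_bot har.left
  have h2 : Nat.card (ws V c) ≤ Nat.card p * Nat.card (ws V c ⊓ centralizer ({α} : Set G) : Subgroup G) := by
    refine card_le_mul (fun y => y * α * y⁻¹ * α⁻¹) (fun y hy => ?_) fun y hy y' hy' e => ?_
    · exact h.mid_mem h.typ hcp hpr hy (h.adj_le_ws' har hα)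
    · exact mem_cs.2 (comm_inj e)
  apply h.big h1 hp.cr
  refine h2.trans ?_
  rw [h.card_pt hpr.left]
  refine Nat.mul_le_mul_left _ (Subgroup.card_le_of_le ?_)
  rintro y ⟨hy, hyα⟩
  refine mem_cnz.2 ⟨hy, hcon y (le_UU hcp hy) (h.comm_pt har.left (h.two_ws hcp.left hy) hα hα1 (mem_cs.1 hyα))⟩

/-- **(6.2)** -/
theorem w0_line {r p a : Subgroup G} (hs : Sb V Z Blk r p a) (hL : IsCj V L) (hrL : r ≤ L) (haL : a ≤ L) {g : G}
    (hg : g ∈ UU V Z p) (hga : ∀ x ∈ a, g * x = x * g) {y : G} (hy : y ∈ bk Blk a r) :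
    y * g * y⁻¹ * g⁻¹ ∈ L := by
  obtain ⟨c, w, hp⟩ := h.exists_path h1 hs
  have hcp := hp.cr.l
  have hpr := hp.cr.r.symm
  have har := hp.pa.r
  have hwU := le_UU hcp (h.bk_le hcp.symm hp.hw)
  have hgr : ∀ x ∈ r, g * x = x * g := fun x hx =>
    (mem_centralizer_iff.1 (h.UU_le_cent_adj hpr.symm hg) x hx).symm
  have hblk : cj g (bk Blk a r) = bk Blk a r := by
    rw [← h.bk_cj har.symm, cj_of_cent hga, cj_of_cent hgr]
  have hya := h.bk_le har.symm hy
  set f := y * g * y⁻¹ * g⁻¹ with hf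
  have hf1 : f ∈ bk Blk a r := by
    have e : f = y * (g * y⁻¹ * g⁻¹) := by rw [hf]; group
    rw [e]
    refine mul_mem hy ?_
    rw [← hblk]
    exact conj_mem_cj (inv_mem hy)
  have hf2 : f ∈ UU V Z p :=
    mul_mem ((mem_normalizer_iff.1 (h.ws_norm_UU har hpr.symm hya) g).1 hg) (inv_mem hg)
  have hf3 := h.UU_comm h.typ hpr.left hf2 hwU
  have hs2 := h.path_sb h1 hp
  refine h.cent_ln h1 hs2 hL hrL haL hf1 fun v hv => ?_
  have e : f = f * w * f⁻¹ * w⁻¹ * (w * f * w⁻¹) := by group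
  have h3 : f * w * f⁻¹ * w⁻¹ * v = v * (f * w * f⁻¹ * w⁻¹) :=
    mem_centralizer_iff.1 (h.ws_le_cent hs2.r hpr.symm hv) _ hf3
  have h4 : w * f * w⁻¹ * v = v * (w * f * w⁻¹) := by
    refine h.ws_comm hs2.r.left ?_ hv
    rw [ws_cj]
    exact conj_mem_cj (h.bk_le har.symm hf1)
  rw [e]
  calc f * w * f⁻¹ * w⁻¹ * (w * f * w⁻¹) * v = f * w * f⁻¹ * w⁻¹ * (w * f * w⁻¹ * v) := by group
    _ = f * w * f⁻¹ * w⁻¹ * v * (w * f * w⁻¹) := by rw [h4]; group
    _ = v * (f * w * f⁻¹ * w⁻¹ * (w * f * w⁻¹)) := by rw [h3]; group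

end NT

end Cfsg.Agent.Omega.NO3S.MidQ
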