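import Cfsg.Agent.Omega.NO3S.MidQ.LemF
import Mathlib.LinearAlgebra.Determinant
import Mathlib.LinearAlgebra.SesquilinearForm.Basic

/-!
# NO-3S, natural lines, critical distance 2: THE JOINT `Root` (TYPE ALPHA, root type)

TEXT 426-1 (bb OMEGA #15163), end of section 4; TEXT 263-Q, section 7; supplement of helper129.

For every point `X` the group `W_X / X` is the direct sum of the blocks `B / X`, `B ∈ Blk X`; every block is a natural
module for `J_B ≤ C_G(X) / K_X`, `J_B = SL_m(E)` or `Sp_m(E)` (`m` even), `J_B` is trivial on the other blocks; every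
line on `X` is in one block and every element of a block is in a line on `X`; if `(X, Y)` is critical with middle `R`
then `W_Y` acts on `W_X / X` only on the block `B ≥ R`, as the group of all `b ↦ b + φ(b) v`, `v` over `R`, `φ ∈ Φ`,
`Φ` an `E`-subspace of the dual space (`SL`), or `Φ = E f(·, v)` (`Sp`).

* `Typ E m`, `Typ.Mem`, `Typ.Ok`, `Typ.Fun` : the two types;
* `Co V X B C τ c` : coordinates `c : W_X → E^m` with kernel `C` on the block `B`;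
* `Act` : the action of a critical partner;
* `Root S P V Z τ Blk` : the joint.
-/

set_option autoImplicit false
set_option linter.unusedSectionVars false

namespace Cfsg.Agent.Omega.NO3S.MidQ

open Subgroup Cfsg.Agent.Omega.NO3S.PT Cfsg.Agent.Omega.NoFF.Basic Cfsg.Agent.ZN
open scoped Pointwise

/-- the type of the blocks: `SL_m(E)` or `Sp_m(E)` with the form `f` -/
inductive Typ (E : Type*) [Field E] (m : ℕ) where
  | sl : Typ E m
  | sp (f : (Fin m → E) →ₗ[E] (Fin m → E) →ₗ[E] E) : Typ E m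

namespace Typ

variable {E : Type*} [Field E] {m : ℕ}

/-- `A` is in `SL_m(E)`, resp. `Sp_m(E)` -/
def Mem : Typ E m → ((Fin m → E) ≃ₗ[E] (Fin m → E)) → Prop
  | .sl, A => LinearMap.det (A : (Fin m → E) →ₗ[E] (Fin m → E)) = 1
  | .sp f, A => ∀ x y, f (A x) (A y) = f x y

/-- the form is alternating and nondegenerate -/
def Ok : Typ E m → Prop
  | .sl => True
  | .sp f => (∀ x, f x x = 0) ∧ ∀ x, (∀ y, f x y = 0) → x = 0

/-- `Φ` can be the space of functionals for the centre `v`: nonzero, zero on `v`, and `E f(·, v)` for `Sp` -/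
def Fun : Typ E m → (Fin m → E) → Submodule E ((Fin m → E) →ₗ[E] E) → Prop
  | .sl, v, Φ => Φ ≠ ⊥ ∧ ∀ φ ∈ Φ, φ v = 0
  | .sp f, v, Φ => ∀ φ, φ ∈ Φ ↔ ∃ a : E, ∀ x, φ x = a * f x v

/-- semilinear maps normalising the group -/
def Semi : Typ E m → (E ≃+* E) → ((Fin m → E) ≃+ (Fin m → E)) → Prop
  | .sl, σ, T => ∀ (a : E) x, T (a • x) = σ a • T x
  | .sp f, σ, T => (∀ (a : E) x, T (a • x) = σ a • T x) ∧ ∃ d : E, ∀ x y, f (T x) (T y) = d * σ (f x y)

theorem Semi.smul {τ : Typ E m} {σ : E ≃+* E} {T : (Fin m → E) ≃+ (Fin m → E)} (h : τ.Semi σ T) (a : E)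
    (x : Fin m → E) : T (a • x) = σ a • T x := by
  cases τ with
  | sl => exact h a x
  | sp f => exact h.1 a x

end Typ

variable {G : Type*} [Group G] {E : Type*} [Field E] {m : ℕ}

/-- **A block with coordinates**: `W_X / X = B / X ⊕ C / X`, `c : W_X → E^m` additive with kernel `C`; the group of
type `τ` acts on `B / X`, centralising `X` and `C / X`, and every element of `N_G(X)` normalising `B` is semilinear. -/
structure Co (V X B C : Subgroup G) (τ : Typ E m) (c : G → (Fin m → E)) : Prop where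
  XB : X ≤ B
  BW : B ≤ ws V X
  XC : X ≤ C
  CW : C ≤ ws V X
  inf : ∀ x ∈ B, x ∈ C → x ∈ X
  sup : ∀ w ∈ ws V X, ∃ b ∈ B, ∃ d ∈ C, w = b * d
  add : ∀ a ∈ ws V X, ∀ b ∈ ws V X, c (a * b) = c a + c b
  ker : ∀ b ∈ ws V X, c b = 0 ↔ b ∈ C
  surj : ∀ v, ∃ b ∈ B, c b = v
  lift : ∀ A, τ.Mem A → ∃ g ∈ centralizer (X : Set G), (∀ b ∈ B, g * b * g⁻¹ ∈ B) ∧
    (∀ b ∈ ws V X, c (g * b * g⁻¹) = A (c b)) ∧ ∀ d ∈ C, g * d * g⁻¹ * d⁻¹ ∈ X
  semi : ∀ g ∈ normalizer (X : Set G), cj g B = B → ∃ (σ : E ≃+* E) (T : (Fin m → E) ≃+ (Fin m → E)),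
    τ.Semi σ T ∧ ∀ b ∈ B, c (g * b * g⁻¹) = T (c b)

/-- **The action of `W_Y` on `W_X`**, `(X, Y)` critical with middle `R ≤ B`. -/
def Act (V X R Y C : Subgroup G) (τ : Typ E m) (c : G → (Fin m → E)) : Prop :=
  (∀ d ∈ C, ∀ w ∈ ws V Y, w * d = d * w) ∧
    ∃ Φ : Submodule E ((Fin m → E) →ₗ[E] E), ∀ r ∈ R, r ≠ 1 → τ.Fun (c r) Φ ∧
      (∀ w ∈ ws V Y, ∃ φ ∈ Φ, ∀ b ∈ ws V X, c (w * b * w⁻¹ * b⁻¹) = φ (c b) • c r) ∧
      ∀ φ ∈ Φ, ∃ w ∈ ws V Y, ∀ b ∈ ws V X, c (w * b * w⁻¹ * b⁻¹) = φ (c b) • c r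

/-- **THE JOINT**: TYPE ALPHA with blocks of root type. -/
structure Root [Finite G] (S : Sylow 2 G) (P V Z : Subgroup G) (τ : Typ E m) (Blk : Subgroup G → Set (Subgroup G)) :
    Prop extends Mid S P V Z where
  fin : Finite E
  char : CharP E 2
  four : 4 ≤ Nat.card Z
  two : 2 ≤ m
  ok : τ.Ok
  can : ∀ (g : G) (X : Subgroup G), IsCj Z X → ∀ B ∈ Blk X, cj g B ∈ Blk (cj g X)
  co : ∀ X, IsCj Z X → ∀ B ∈ Blk X, ∃ (C : Subgroup G) (c : G → (Fin m → E)), Co V X B C τ c ∧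
    (∀ B' ∈ Blk X, B' ≠ B → B' ≤ C) ∧ ∀ R Y, Cr V Z X R Y → R ≤ B → Act V X R Y C τ c
  line : ∀ X, IsCj Z X → ∀ L, IsCj V L → X ≤ L → ∃ B ∈ Blk X, L ≤ B
  all : ∀ X, IsCj Z X → ∀ B ∈ Blk X, ∀ b ∈ B, b ∉ X → ∃ L, IsCj V L ∧ X ≤ L ∧ b ∈ L

end Cfsg.Agent.Omega.NO3S.MidQ
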