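import Cfsg.Agent.Omega.NO3S.MidQ.Root
import Mathlib.LinearAlgebra.Transvection.Basic

/-!
# NO-3S, `q ≥ 4`, `n = 2`: `SL_m(E)` and `Sp_m(E)` on `E^m`

* `exists_dual` : `u ∉ E v`: `φ v = 0`, `φ u = 1` for some functional;
* `Typ.tv` : transvections; `Typ.trans` : transitive on nonzero vectors; `Typ.fix` : some `A` fixes `v` and moves `u`;
* `Typ.Mem.mul`, `Typ.Mem.one`, `Typ.Mem.symm`.
-/

set_option autoImplicit false
set_option linter.unusedSectionVars false

namespace Cfsg.Agent.Omega.NO3S.MidQ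

variable {E : Type*} [Field E] {m : ℕ}

theorem exists_dual {u v : Fin m → E} (h : ∀ a : E, u ≠ a • v) :
    ∃ φ : (Fin m → E) →ₗ[E] E, φ v = 0 ∧ φ u = 1 := by
  have h1 : u ∉ Submodule.span E {v} := fun e => by
    obtain ⟨a, ha⟩ := Submodule.mem_span_singleton.1 e
    exact h a ha.symm
  obtain ⟨φ, h2, h3⟩ := Submodule.exists_le_ker_of_notMem h1
  refine ⟨(φ u)⁻¹ • φ, ?_, ?_⟩
  · rw [LinearMap.smul_apply, smul_eq_mul]
    have h4 : φ v = 0 := h3 (Submodule.mem_span_singleton_self v)
    rw [h4, mul_zero]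
  · rw [LinearMap.smul_apply, smul_eq_mul, inv_mul_cancel₀ h2]

theorem exists_indep (hm : 2 ≤ m) (v : Fin m → E) : ∃ w : Fin m → E, ∀ a : E, w ≠ a • v := by
  by_contra hcon
  push Not at hcon
  have h1 : Submodule.span E {v} = ⊤ := by
    rw [eq_top_iff]
    intro w _
    obtain ⟨a, ha⟩ := hcon w
    exact Submodule.mem_span_singleton.2 ⟨a, ha.symm⟩
  have h2 : Module.finrank E (Submodule.span E {v}) ≤ 1 := by
    have h3 := finrank_span_le_card (R := E) ({v} : Set (Fin m → E))
    simpa using h3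
  rw [h1, finrank_top, Module.finrank_fin_fun] at h2
  omega

namespace Typ

variable {τ : Typ E m}

theorem sp_neg {f : (Fin m → E) →ₗ[E] (Fin m → E) →ₗ[E] E} (hok : (Typ.sp f).Ok) (x y : Fin m → E) :
    f x y = - f y x := by
  have h2 := hok.1 (x + y)
  simp only [map_add, LinearMap.add_apply, hok.1, zero_add, add_zero] at h2
  first
    | exact eq_neg_of_add_eq_zero_left h2
    | exact eq_neg_of_add_eq_zero_right h2

/-- the transvections of the type `τ` -/
theorem tv (hok : τ.Ok) {φ : (Fin m → E) →ₗ[E] E} {v : Fin m → E} (hφ : φ v = 0)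
    (hf : ∀ f, τ = .sp f → ∃ a : E, ∀ x, φ x = a * f x v) : τ.Mem (LinearEquiv.transvection hφ) := by
  cases τ with
  | sl =>
    show LinearMap.det (LinearEquiv.transvection hφ : (Fin m → E) →ₗ[E] (Fin m → E)) = 1
    rw [LinearEquiv.transvection.coe_toLinearMap, LinearMap.transvection.det, hφ, add_zero]
  | sp f =>
    obtain ⟨a, ha⟩ := hf f rfl
    intro x y
    rw [LinearEquiv.transvection.apply, LinearEquiv.transvection.apply]
    have h1 := sp_neg hok
    simp only [map_add, LinearMap.add_apply, map_smul, LinearMap.smul_apply, smul_eq_mul, hok.1, ha, mul_zero,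
      add_zero]
    rw [h1 v y]
    ring

theorem Mem.mul {A B : (Fin m → E) ≃ₗ[E] (Fin m → E)} (hA : τ.Mem A) (hB : τ.Mem B) : τ.Mem (B.trans A) := by
  cases τ with
  | sl =>
    show LinearMap.det ((B.trans A : (Fin m → E) ≃ₗ[E] (Fin m → E)) : (Fin m → E) →ₗ[E] (Fin m → E)) = 1
    rw [LinearEquiv.coe_trans, LinearMap.det_comp]
    have h1 : LinearMap.det (A : (Fin m → E) →ₗ[E] (Fin m → E)) = 1 := hA
    have h2 : LinearMap.det (B : (Fin m → E) →ₗ[E] (Fin m → E)) = 1 := hB
    rw [h1, h2, mul_one]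
  | sp f =>
    intro x y
    rw [LinearEquiv.trans_apply, LinearEquiv.trans_apply, hA, hB]

theorem Mem.one : τ.Mem (LinearEquiv.refl E (Fin m → E)) := by
  cases τ with
  | sl =>
    show LinearMap.det ((LinearEquiv.refl E (Fin m → E) : (Fin m → E) ≃ₗ[E] (Fin m → E)) :
      (Fin m → E) →ₗ[E] (Fin m → E)) = 1
    rw [LinearEquiv.refl_toLinearMap, LinearMap.det_id]
  | sp f => exact fun x y => rfl

theorem Mem.symm {A : (Fin m → E) ≃ₗ[E] (Fin m → E)} (hA : τ.Mem A) : τ.Mem A.symm := by
  cases τ with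
  | sl =>
    show LinearMap.det ((A.symm : (Fin m → E) ≃ₗ[E] (Fin m → E)) : (Fin m → E) →ₗ[E] (Fin m → E)) = 1
    have h1 : LinearMap.det (A : (Fin m → E) →ₗ[E] (Fin m → E)) = 1 := hA
    have h2 := LinearEquiv.det_symm_mul_det A
    rw [h1, mul_one] at h2
    exact h2
  | sp f =>
    intro x y
    have h1 := hA (A.symm x) (A.symm y)
    rw [LinearEquiv.apply_symm_apply, LinearEquiv.apply_symm_apply] at h1
    exact h1.symm

private theorem transvection_map {φ : (Fin m → E) →ₗ[E] E} {u v : Fin m → E} (hφ : φ (v - u) = 0) (hu : φ u = 1) :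
    LinearEquiv.transvection hφ u = v := by
  rw [LinearEquiv.transvection.apply, hu, one_smul, add_sub_cancel]

/-- transitive on nonzero vectors -/
theorem trans (hok : τ.Ok) (hm : 2 ≤ m) {u v : Fin m → E} (hu : u ≠ 0) (hv : v ≠ 0) : ∃ A, τ.Mem A ∧ A u = v := by
  cases τ with
  | sl =>
    have key : ∀ u v : Fin m → E, u ≠ 0 → (∀ a : E, v ≠ a • u) → ∃ A, (Typ.sl : Typ E m).Mem A ∧ A u = v := by
      intro u v hu huv
      obtain ⟨φ, h1, h2⟩ := exists_dual (u := u) (v := v - u) (by
        intro a ha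
        by_cases ha0 : a = 0
        · rw [ha0, zero_smul] at ha; exact hu ha
        · apply huv (1 + a⁻¹)
          have h3 : a⁻¹ • u = v - u := by rw [ha, smul_smul, inv_mul_cancel₀ ha0, one_smul]; rw [← ha]
          rw [add_smul, one_smul, h3, add_sub_cancel])
      exact ⟨_, Typ.tv (τ := .sl) trivial h1 (fun f e => by cases e), transvection_map h1 h2⟩
    by_cases huv : ∀ a : E, v ≠ a • u
    · exact key u v hu huv
    · push Not at huv
      obtain ⟨a, rfl⟩ := huv
      have ha : a ≠ 0 := fun e => hv (by rw [e, zero_smul])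
      obtain ⟨w, hw⟩ := exists_indep hm u
      obtain ⟨A, hA, hAu⟩ := key u w hu hw
      have hw0 : w ≠ 0 := fun e => hw 0 (by rw [zero_smul]; exact e)
      obtain ⟨B, hB, hBw⟩ := key w (a • u) hw0 (by
        intro b hb
        by_cases hb0 : b = 0
        · rw [hb0, zero_smul] at hb; exact hv hb
        · apply hw (b⁻¹ * a)
          rw [mul_smul, hb, smul_smul, inv_mul_cancel₀ hb0, one_smul])
      exact ⟨_, Mem.mul hB hA, by rw [LinearEquiv.trans_apply, hAu, hBw]⟩
  | sp f =>
    have h0 := sp_neg hok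
    have key : ∀ u v : Fin m → E, f u v ≠ 0 → ∃ A, (Typ.sp f : Typ E m).Mem A ∧ A u = v := by
      intro u v huv
      have h1 : ((f u v)⁻¹ • f.flip (v - u)) (v - u) = 0 := by
        rw [LinearMap.smul_apply, LinearMap.flip_apply, hok.1, smul_zero]
      have h2 : ((f u v)⁻¹ • f.flip (v - u)) u = 1 := by
        rw [LinearMap.smul_apply, LinearMap.flip_apply, map_sub, hok.1, sub_zero, smul_eq_mul,
          inv_mul_cancel₀ huv]
      refine ⟨_, Typ.tv hok h1 (fun f' e => ?_), transvection_map h1 h2⟩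
      cases e
      exact ⟨(f u v)⁻¹, fun x => by rw [LinearMap.smul_apply, LinearMap.flip_apply, smul_eq_mul]⟩
    by_cases huv : f u v ≠ 0
    · exact key u v huv
    · push Not at huv
      obtain ⟨w, h1, h2⟩ : ∃ w, f u w ≠ 0 ∧ f w v ≠ 0 := by
        obtain ⟨y1, hy1⟩ : ∃ y, f u y ≠ 0 := by
          by_contra hcon; push Not at hcon; exact hu (hok.2 u hcon)
        obtain ⟨y2, hy2⟩ : ∃ y, f y v ≠ 0 := by
          by_contra hcon; push Not at hcon
          exact hv (hok.2 v fun y => by rw [h0, hcon, neg_zero])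
        by_cases h3 : f y1 v = 0
        · by_cases h4 : f u y2 = 0
          · refine ⟨y1 + y2, ?_, ?_⟩
            · rw [map_add, h4, add_zero]; exact hy1
            · rw [map_add, LinearMap.add_apply, h3, zero_add]; exact hy2
          · exact ⟨y2, h4, hy2⟩
        · exact ⟨y1, hy1, h3⟩
      obtain ⟨A, hA, hAu⟩ := key u w h1
      obtain ⟨B, hB, hBw⟩ := key w v h2
      exact ⟨_, Mem.mul hB hA, by rw [LinearEquiv.trans_apply, hAu, hBw]⟩

/-- some `A` fixes `v` and moves `u` -/
theorem fix (hok : τ.Ok) (hm : 2 ≤ m) {u v : Fin m → E} (huv : ∀ a : E, u ≠ a • v) :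
    ∃ A, τ.Mem A ∧ A v = v ∧ A u ≠ u := by
  have hu : u ≠ 0 := fun e => huv 0 (by rw [zero_smul]; exact e)
  by_cases hv : v = 0
  · obtain ⟨w, hw⟩ := exists_indep hm u
    have hw0 : w ≠ 0 := fun e => hw 0 (by rw [zero_smul]; exact e)
    obtain ⟨A, hA, hAu⟩ := trans hok hm hu hw0
    refine ⟨A, hA, by rw [hv, map_zero], fun e => hw 1 ?_⟩
    rw [one_smul, ← hAu, e]
  cases τ with
  | sl =>
    obtain ⟨φ, h1, h2⟩ := exists_dual huv
    refine ⟨_, Typ.tv (τ := .sl) trivial h1 (fun f e => by cases e), ?_, ?_⟩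
    · rw [LinearEquiv.transvection.apply, h1, zero_smul, add_zero]
    · rw [LinearEquiv.transvection.apply, h2, one_smul]
      exact fun e => hv (by simpa using e)
  | sp f =>
    have h0 := sp_neg hok
    have key : ∀ w : Fin m → E, f v w = 0 → f u w ≠ 0 → ∃ A, (Typ.sp f : Typ E m).Mem A ∧ A v = v ∧ A u ≠ u := by
      intro w h1 h2
      have h3 : f.flip w w = 0 := by rw [LinearMap.flip_apply, hok.1]
      refine ⟨_, Typ.tv hok h3 (fun f' e => ?_), ?_, ?_⟩
      · cases e
        exact ⟨1, fun x => by rw [LinearMap.flip_apply, one_mul]⟩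
      · rw [LinearEquiv.transvection.apply, LinearMap.flip_apply, h1, zero_smul, add_zero]
      · rw [LinearEquiv.transvection.apply, LinearMap.flip_apply]
        intro e
        have h4 : f u w • w = 0 := by simpa using e
        rcases smul_eq_zero.1 h4 with h5 | h5
        · exact h2 h5
        · rw [h5, map_zero] at h2; exact h2 rfl
    by_cases h1 : f u v ≠ 0
    · exact key v (hok.1 v) h1
    · push Not at h1
      by_contra hcon
      have h2 : ∀ w, f v w = 0 → f u w = 0 := by
        intro w hw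
        by_contra hw'
        exact hcon (key w hw hw')
      obtain ⟨y, hy⟩ : ∃ y, f v y ≠ 0 := by
        by_contra hcon'; push Not at hcon'; exact hv (hok.2 v hcon')
      apply huv (f u y / f v y)
      rw [← sub_eq_zero]
      refine hok.2 _ fun w => ?_
      have h3 := h2 (w - (f v w / f v y) • y) (by
        rw [map_sub, map_smul, smul_eq_mul, div_mul_cancel₀ _ hy, sub_self])
      rw [map_sub, map_smul, smul_eq_mul] at h3
      rw [map_sub, LinearMap.sub_apply, map_smul, LinearMap.smul_apply, smul_eq_mul]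
      rw [sub_eq_zero.1 h3]
      field_simp
      ring

end Typ

end Cfsg.Agent.Omega.NO3S.MidQ
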