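import Cfsg.Agent.Omega.NO3S.MidQ.KMod
import Cfsg.Agent.Omega.NO3S.MidQ.TypLin

/-!
# NO-3S, `q ≥ 4`, `n = 2`: blocks (TEXT 426-1, section 2, over `Root`)

* `Co.*` : calculus of the coordinates;
* `Root.blk_inf`, `Root.blk_eq`, `Root.line_le` : different blocks meet in `X`;
* `Root.norm_blk` : an element of `N_G(X)` centralising (or moving inside `B`) one `b ∈ B - X` normalises `B`;
* `kp k b = [k, b]`;  `Root.ks` : the functionals `b ↦ [k, b]`, `k ∈ K_X` centralising `D ≤ C`, satisfy `KS`;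
* `Root.lam` : the subfield of order `|Z|`; `Root.line_iff` : the lines are its 1-spaces;
* `Root.two` : **K2**, `K_X` is transitive on `(L - X) × (M - X)` for different lines `L`, `M` on `X`; for lines of one
  block by elements centralising `C`;
* `Root.scal` : `[k, b]` is linear.
-/

set_option autoImplicit false
set_option linter.unusedSectionVars false

namespace Cfsg.Agent.Omega.NO3S.MidQ

open Subgroup Cfsg.Agent.Omega.NO3S.PT Cfsg.Agent.Omega.NoFF.Basic Cfsg.Agent.ZN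
open scoped Pointwise

variable {G : Type*} [Group G] {E : Type*} [Field E] {m : ℕ} {V Z X Y B C L M : Subgroup G} {τ : Typ E m}
  {c : G → (Fin m → E)}

namespace Co

variable (h : Co V X B C τ c)
include h

theorem XW : X ≤ ws V X := h.XB.trans h.BW

theorem c_one : c 1 = 0 := (h.ker 1 (one_mem _)).2 (one_mem _)

theorem c_inv {a : G} (ha : a ∈ ws V X) : c a⁻¹ = - c a := by
  have h1 := h.add a ha a⁻¹ (inv_mem ha)
  rw [mul_inv_cancel, h.c_one] at h1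
  exact (neg_eq_of_add_eq_zero_right h1.symm).symm

theorem c_C {a : G} (ha : a ∈ C) : c a = 0 := (h.ker a (h.CW ha)).2 ha

theorem c_X {a : G} (ha : a ∈ X) : c a = 0 := h.c_C (h.XC ha)

theorem mem_X {b : G} (hb : b ∈ B) (h0 : c b = 0) : b ∈ X := h.inf b hb ((h.ker b (h.BW hb)).1 h0)

theorem c_ne {b : G} (hb : b ∈ B) (hbX : b ∉ X) : c b ≠ 0 := fun e => hbX (h.mem_X hb e)

theorem not_mem {b : G} (h0 : c b ≠ 0) : b ∉ X := fun e => h0 (h.c_X e)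

theorem mem_of_eq {a b : G} (ha : a ∈ ws V X) (hb : b ∈ ws V X) (hab : c a = c b) : a * b⁻¹ ∈ C := by
  rw [← h.ker _ (mul_mem ha (inv_mem hb)), h.add a ha _ (inv_mem hb), h.c_inv hb, hab, add_neg_cancel]

theorem mem_X_of_eq {a b : G} (ha : a ∈ B) (hb : b ∈ B) (hab : c a = c b) : a * b⁻¹ ∈ X :=
  h.inf _ (mul_mem ha (inv_mem hb)) (h.mem_of_eq (h.BW ha) (h.BW hb) hab)

theorem c_mul_X {a b : G} (ha : a ∈ X) (hb : b ∈ ws V X) : c (a * b) = c b := by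
  rw [h.add a (h.XW ha) b hb, h.c_X ha, zero_add]

end Co

/-- `[k, b]` -/
abbrev kp (k b : G) : G := k * b * k⁻¹ * b⁻¹

theorem kp_mul_right {k a b : G} (hx : a * kp k b = kp k b * a) : kp k (a * b) = kp k a * kp k b := by
  have e : kp k (a * b) = kp k a * (a * kp k b * a⁻¹) := by
    simp only [kp]; group
  rw [e, hx, mul_inv_cancel_right]

theorem kp_mul_left {k l b : G} (hx : k * kp l b = kp l b * k) : kp (k * l) b = kp l b * kp k b := by
  have e : kp (k * l) b = (k * kp l b * k⁻¹) * kp k b := by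
    simp only [kp]; group
  rw [e, hx, mul_inv_cancel_right]

theorem kp_conj {g k b : G} (hx : g * kp k (g * b * g⁻¹) = kp k (g * b * g⁻¹) * g) :
    kp (g⁻¹ * k * g) b = kp k (g * b * g⁻¹) := by
  have e : kp (g⁻¹ * k * g) b = g⁻¹ * kp k (g * b * g⁻¹) * g := by
    simp only [kp]; group
  rw [e, mul_assoc, ← hx, inv_mul_cancel_left]

theorem kp_eq_one {k b : G} : kp k b = 1 ↔ k * b = b * k := by
  rw [kp, mul_inv_eq_one, mul_inv_eq_iff_eq_mul]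

namespace Root

variable [Finite G] {S : Sylow 2 G} {P : Subgroup G} {Blk : Subgroup G → Set (Subgroup G)}
  (h : Root S P V Z τ Blk)
include h

/-! ### The homomorphisms `[k, ·]` -/

theorem kp_mem (hX : IsCj Z X) {k b : G} (hk : k ∈ kx V X) (hb : b ∈ ws V X) : kp k b ∈ X := (mem_kx.1 hk).2 b hb

theorem comm_X (hX : IsCj Z X) {a x : G} (ha : a ∈ ws V X) (hx : x ∈ X) : a * x = x * a :=
  h.ws_comm hX ha (h.pt_le_ws hX hx)

theorem kp_add (hX : IsCj Z X) {k a b : G} (hk : k ∈ kx V X) (ha : a ∈ ws V X) (hb : b ∈ ws V X) :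
    kp k (a * b) = kp k a * kp k b := kp_mul_right (h.comm_X hX ha (h.kp_mem hX hk hb))

theorem kp_mul (hX : IsCj Z X) {k l b : G} (hk : k ∈ kx V X) (hl : l ∈ kx V X) (hb : b ∈ ws V X) :
    kp (k * l) b = kp k b * kp l b := by
  rw [kp_mul_left ((mem_kx.1 hk).1 _ (h.kp_mem hX hl hb))]
  exact h.ws_comm hX (h.pt_le_ws hX (h.kp_mem hX hl hb)) (h.pt_le_ws hX (h.kp_mem hX hk hb))

theorem kp_inv (hX : IsCj Z X) {k b : G} (hk : k ∈ kx V X) (hb : b ∈ ws V X) : kp k⁻¹ b = (kp k b)⁻¹ := by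
  have h1 := h.kp_mul hX hk (inv_mem hk) hb
  rw [mul_inv_cancel, kp, one_mul, inv_one, mul_one, mul_inv_cancel] at h1
  exact (inv_eq_of_mul_eq_one_right h1.symm).symm

theorem kp_X (hX : IsCj Z X) {k x : G} (hk : k ∈ kx V X) (hx : x ∈ X) : kp k x = 1 :=
  kp_eq_one.2 ((mem_kx.1 hk).1 x hx)

/-- the value depends on `b` modulo `X` only -/
theorem kp_congr (hX : IsCj Z X) {k a b : G} (hk : k ∈ kx V X) (ha : a ∈ ws V X) (hb : b ∈ ws V X)
    (hab : a * b⁻¹ ∈ X) : kp k a = kp k b := by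
  have e : a = a * b⁻¹ * b := by group
  rw [e, h.kp_add hX hk (mul_mem ha (inv_mem hb)) hb, h.kp_X hX hk hab, one_mul]

/-- conjugation by an element of `C_G(X)` -/
theorem kx_conj (hX : IsCj Z X) {g k : G} (hg : g ∈ normalizer (X : Set G)) (hk : k ∈ kx V X) :
    g⁻¹ * k * g ∈ kx V X := by
  have h1 := (mem_normalizer_iff.1 (normalizer_le_kx V X (inv_mem hg)) k).1 hk
  rwa [inv_inv] at h1

theorem ws_conj (hX : IsCj Z X) {g b : G} (hg : g ∈ normalizer (X : Set G)) (hb : b ∈ ws V X) :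
    g * b * g⁻¹ ∈ ws V X := (mem_normalizer_iff.1 (normalizer_le_ws V X hg) b).1 hb

theorem kp_cj (hX : IsCj Z X) {g k b : G} (hg : g ∈ centralizer (X : Set G)) (hk : k ∈ kx V X)
    (hb : b ∈ ws V X) : kp (g⁻¹ * k * g) b = kp k (g * b * g⁻¹) := by
  apply kp_conj
  have h1 := h.kp_mem hX hk (h.ws_conj hX (centralizer_le_normalizer _ hg) hb)
  exact (mem_centralizer_iff.1 hg _ h1).symm

/-! ### Blocks -/

theorem blk_inf (hX : IsCj Z X) {B' : Subgroup G} (hB : B ∈ Blk X) (hB' : B' ∈ Blk X) (hne : B' ≠ B) :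
    B ⊓ B' = X := by
  obtain ⟨C, c, hc, h1, -⟩ := h.co X hX B hB
  obtain ⟨C', c', hc', -, -⟩ := h.co X hX B' hB'
  refine le_antisymm ?_ (le_inf hc.XB hc'.XB)
  rintro x ⟨hx, hx'⟩
  exact hc.inf x hx (h1 B' hB' hne hx')

theorem blk_eq (hX : IsCj Z X) {B' : Subgroup G} (hB : B ∈ Blk X) (hB' : B' ∈ Blk X) {b : G} (hb : b ∈ B)
    (hb' : b ∈ B') (hbX : b ∉ X) : B' = B := by
  by_contra hne
  apply hbX
  rw [← h.blk_inf hX hB hB' hne]
  exact ⟨hb, hb'⟩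

/-- a line on `X` containing an element of `B - X` is in `B` -/
theorem line_le (hX : IsCj Z X) (hB : B ∈ Blk X) (hL : IsCj V L) (hXL : X ≤ L) {b : G} (hb : b ∈ B) (hbL : b ∈ L)
    (hbX : b ∉ X) : L ≤ B := by
  obtain ⟨B', hB', hL'⟩ := h.line X hX L hL hXL
  rwa [h.blk_eq hX hB hB' hb (hL' hbL) hbX] at hL'

theorem exists_line_le (hX : IsCj Z X) (hB : B ∈ Blk X) {b : G} (hb : b ∈ B) (hbX : b ∉ X) :
    ∃ L, IsCj V L ∧ X ≤ L ∧ L ≤ B ∧ b ∈ L := by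
  obtain ⟨L, hL, hXL, hbL⟩ := h.all X hX B hB b hb hbX
  exact ⟨L, hL, hXL, h.line_le hX hB hL hXL hb hbL hbX, hbL⟩

/-- two lines on `X` with a common element outside `X` are equal -/
theorem line_eq (hX : IsCj Z X) (hL : IsCj V L) (hXL : X ≤ L) (hM : IsCj V M) (hXM : X ≤ M) {b : G} (hb : b ∈ L)
    (hb' : b ∈ M) (hbX : b ∉ X) : L = M := by
  have hb1 : b ≠ 1 := fun e => hbX (e ▸ one_mem _)
  obtain ⟨A, hA, hAL, hbA⟩ := h.exists_point hL hb hb1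
  obtain ⟨A', hA', hAM, hbA'⟩ := h.exists_point hM hb' hb1
  have h1 := h.pts_eq hA hA' hbA hbA' hb1
  have hne : X ≠ A := fun e => hbX (e ▸ hbA)
  exact h.line_unique hX hA hne hL hM hXL hAL hXM (h1 ▸ hAM)

/-- `g ∈ N_G(X)` moving one `b ∈ B - X` inside `B` normalises `B` -/
theorem norm_blk (hX : IsCj Z X) (hB : B ∈ Blk X) {g b : G} (hg : g ∈ normalizer (X : Set G)) (hb : b ∈ B)
    (hbX : b ∉ X) (hgb : g * b * g⁻¹ ∈ B) : cj g B = B := by
  have h1 : cj g X = X := cj_eq_iff.2 hg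
  have h2 := h.can g X hX B hB
  rw [h1] at h2
  refine h.blk_eq hX hB h2 hgb (conj_mem_cj hb) fun e => hbX ?_
  exact (mem_normalizer_iff.1 hg b).2 e

theorem blk_conj_mem {g b : G} (hg : cj g B = B) (hb : b ∈ B) : g * b * g⁻¹ ∈ B := by
  rw [← hg]; exact conj_mem_cj hb

/-! ### The functionals -/

/-- the functionals of the elements of `K_X` which centralise `D` -/
def _root_.Cfsg.Agent.Omega.NO3S.MidQ.KK (V X B D : Subgroup G) (c : G → (Fin m → E)) : Set ((Fin m → E) → G) :=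
  {κ | ∃ k ∈ kx V X, (∀ d ∈ D, k * d = d * k) ∧ ∀ b ∈ B, κ (c b) = kp k b}

omit h in
theorem KK_anti {D D' : Subgroup G} (hD : D ≤ D') : KK V X B D' c ⊆ KK V X B D c := by
  rintro κ ⟨k, hk, hd, h1⟩
  exact ⟨k, hk, fun d hd' => hd d (hD hd'), h1⟩

variable (hX : IsCj Z X) (hB : B ∈ Blk X) (hc : Co V X B C τ c)
include hX hB hc

/-- every element of `K_X` gives a functional -/
theorem exists_kk {D : Subgroup G} {k : G} (hk : k ∈ kx V X) (hd : ∀ d ∈ D, k * d = d * k) :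
    ∃ κ ∈ KK V X B D c, ∀ b ∈ B, κ (c b) = kp k b := by
  choose pre hpre hcpre using hc.surj
  have key : ∀ b ∈ B, kp k (pre (c b)) = kp k b := fun b hb =>
    h.kp_congr hX hk (hc.BW (hpre _)) (hc.BW hb) (hc.mem_X_of_eq (hpre _) hb (hcpre _))
  exact ⟨fun u => kp k (pre u), ⟨k, hk, hd, key⟩, key⟩

theorem exists_onto {v : Fin m → E} (hv : v ≠ 0) {x : G} (hx : x ∈ X) : ∃ κ ∈ KK V X B C c, κ v = x := by
  obtain ⟨u, hu⟩ := exists_indep h.two v
  have hu0 : u ≠ 0 := fun e => hu 0 (by rw [zero_smul]; exact e)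
  -- an element of the group moving `v`
  obtain ⟨A, hA, hAv⟩ := Typ.trans h.ok h.two hv hu0
  have hAv' : A v - v ≠ 0 := by
    intro e
    apply hu 1
    rw [one_smul, ← hAv]
    exact sub_eq_zero.1 e
  obtain ⟨g, hg, hgB, hgc, hgC⟩ := hc.lift A hA
  have hgN := centralizer_le_normalizer _ hg
  obtain ⟨b, hb, hbv⟩ := hc.surj v
  obtain ⟨w, hw, hwc⟩ := hc.surj (A v - v)
  have hwX : w ∉ X := hc.not_mem (by rw [hwc]; exact hAv')
  obtain ⟨L, hL, hXL, hwL⟩ := h.all X hX B hB w hw hwX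
  obtain ⟨k, hk, hkw⟩ := h.K_act hX hL hXL hwL hwX hx
  have hk' : g⁻¹ * k * g ∈ kx V X := h.kx_conj hX hgN hk
  have hkk : g⁻¹ * k * g * k⁻¹ ∈ kx V X := mul_mem hk' (inv_mem hk)
  have hval : ∀ a ∈ ws V X, kp (g⁻¹ * k * g * k⁻¹) a = kp k (g * a * g⁻¹ * a⁻¹) := by
    intro a ha
    have h1 := h.ws_conj hX hgN ha
    rw [h.kp_mul hX hk' (inv_mem hk) ha, h.kp_cj hX hg hk ha, h.kp_inv hX hk ha, h.kp_add hX hk h1 (inv_mem ha)]
    congr 1
    have h2 := h.kp_add hX hk ha (inv_mem ha)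
    rw [mul_inv_cancel, h.kp_X hX hk (one_mem _)] at h2
    exact inv_eq_of_mul_eq_one_right h2.symm
  obtain ⟨κ, hκ, hκk⟩ := h.exists_kk hX hB hc (D := C) hkk (by
    intro d hd
    rw [← kp_eq_one, hval d (hc.CW hd)]
    exact h.kp_X hX hk (hgC d hd))
  refine ⟨κ, hκ, ?_⟩
  rw [← hbv, hκk b hb, hval b (hc.BW hb)]
  refine (h.kp_congr hX hk ?_ (hc.BW hw) ?_).trans hkw
  · exact mul_mem (h.ws_conj hX hgN (hc.BW hb)) (inv_mem (hc.BW hb))
  · refine hc.mem_X_of_eq (mul_mem (hgB b hb) (inv_mem hb)) hw ?_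
    rw [hc.add _ (h.ws_conj hX hgN (hc.BW hb)) _ (inv_mem (hc.BW hb)), hc.c_inv (hc.BW hb), hgc b (hc.BW hb),
      hwc, hbv, sub_eq_add_neg]

/-- the functionals of the elements of `K_X` which centralise `D ≤ C` -/
theorem ks {D : Subgroup G} (hD : D ≤ C) : KS {A | τ.Mem A} X (KK V X B D c) where
  map := by
    rintro κ ⟨k, hk, -, h1⟩ u
    obtain ⟨b, hb, rfl⟩ := hc.surj u
    rw [h1 b hb]
    exact h.kp_mem hX hk (hc.BW hb)
  add := by
    rintro κ ⟨k, hk, -, h1⟩ u v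
    obtain ⟨a, ha, rfl⟩ := hc.surj u
    obtain ⟨b, hb, rfl⟩ := hc.surj v
    rw [← hc.add a (hc.BW ha) b (hc.BW hb), h1 _ (mul_mem ha hb), h1 a ha, h1 b hb]
    exact h.kp_add hX hk (hc.BW ha) (hc.BW hb)
  mul := by
    rintro κ ⟨k, hk, hkd, h1⟩ κ' ⟨k', hk', hkd', h1'⟩
    refine ⟨fun u => κ u * κ' u, ⟨k * k', mul_mem hk hk', fun d hd => ?_, fun b hb => ?_⟩, fun u => rfl⟩
    · rw [mul_assoc, hkd' d hd, ← mul_assoc, hkd d hd, mul_assoc]
    · show κ (c b) * κ' (c b) = _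
      rw [h1 b hb, h1' b hb]
      exact (h.kp_mul hX hk hk' (hc.BW hb)).symm
  inv := by
    rintro κ ⟨k, hk, hkd, h1⟩
    refine ⟨fun u => (κ u)⁻¹, ⟨k⁻¹, inv_mem hk, fun d hd => ?_, fun b hb => ?_⟩, fun u => rfl⟩
    · rw [inv_mul_eq_iff_eq_mul, ← mul_assoc, hkd d hd, mul_inv_cancel_right]
    · show (κ (c b))⁻¹ = _
      rw [h1 b hb]
      exact (h.kp_inv hX hk (hc.BW hb)).symm
  comp := by
    rintro κ ⟨k, hk, hkd, h1⟩ A hA
    obtain ⟨g, hg, hgB, hgc, hgC⟩ := hc.lift A hA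
    refine ⟨fun u => κ (A u), ⟨g⁻¹ * k * g, h.kx_conj hX (centralizer_le_normalizer _ hg) hk, fun d hd => ?_,
      fun b hb => ?_⟩, fun u => rfl⟩
    · have hdW := hc.CW (hD hd)
      rw [← kp_eq_one, h.kp_cj hX hg hk hdW,
        h.kp_congr hX hk (h.ws_conj hX (centralizer_le_normalizer _ hg) hdW) hdW (hgC d (hD hd)), kp_eq_one]
      exact hkd d hd
    · show κ (A (c b)) = _
      rw [← hgc b (hc.BW hb), h1 _ (hgB b hb)]
      exact (h.kp_cj hX hg hk (hc.BW hb)).symm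
  onto := by
    intro v hv x hx
    obtain ⟨κ, hκ, hκv⟩ := h.exists_onto hX hB hc hv hx
    exact ⟨κ, KK_anti hD hκ, hκv⟩
  trans := fun u v hu hv => Typ.trans h.ok h.two hu hv
  fix := fun u v huv => Typ.fix h.ok h.two huv

/-- a functional which is `1` at `a ∈ L - X` is `1` on the line `L` -/
theorem one_of_line (hL : IsCj V L) (hXL : X ≤ L) (hLB : L ≤ B) {a b : G} (ha : a ∈ L) (haX : a ∉ X) (hb : b ∈ L)
    {D : Subgroup G} {κ : (Fin m → E) → G} (hκ : κ ∈ KK V X B D c) (h1 : κ (c a) = 1) : κ (c b) = 1 := by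
  obtain ⟨k, hk, -, hκk⟩ := hκ
  rw [hκk a (hLB ha), kp_eq_one] at h1
  rw [hκk b (hLB hb), kp_eq_one]
  obtain ⟨T, Q, h'⟩ := h.flag hX hL hXL
  exact (mem_centralizer_iff.1 (h'.pl.mem_centralizer_of_fix (mem_kx.1 hk).1 ha haX h1) b hb).symm

theorem line_smul (hL : IsCj V L) (hXL : X ≤ L) (hLB : L ≤ B) {a b : G} (ha : a ∈ L) (haX : a ∉ X) (hb : b ∈ L)
    {D : Subgroup G} (hD : D ≤ C) : have := h.fin
    ∃ l ∈ (h.ks hX hB hc hD).lam (c a) (hc.c_ne (hLB ha) haX), c b = l • c a := by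
  have := h.fin
  have hks := h.ks hX hB hc hD
  have ha0 := hc.c_ne (hLB ha) haX
  obtain ⟨x, hx, hx1⟩ := h.pt_ne_bot hX
  by_cases hcon : ∃ l : E, c b = l • c a
  · obtain ⟨l, hl⟩ := hcon
    refine ⟨l, ?_, hl⟩
    rw [KS.mem_lam]
    intro κ hκ h1
    rw [← hl]
    exact h.one_of_line hX hB hc hL hXL hLB ha haX hb hκ h1
  · push Not at hcon
    exfalso
    obtain ⟨A, hA, hAa, hAb⟩ := hks.fix _ _ hcon
    obtain ⟨κ, hκ, hk⟩ := hks.onto _ (sub_ne_zero.2 hAb) x hx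
    obtain ⟨κ₁, hκ₁, hk₁⟩ := hks.comp κ hκ A hA
    obtain ⟨κ₂, hκ₂, hk₂⟩ := hks.inv κ hκ
    obtain ⟨κ₃, hκ₃, hk₃⟩ := hks.mul κ₁ hκ₁ κ₂ hκ₂
    have h1 := h.one_of_line hX hB hc hL hXL hLB ha haX hb hκ₃ (by
      rw [hk₃, hk₁, hk₂, hAa, mul_inv_cancel])
    rw [hk₃, hk₁, hk₂, ← hks.sub hκ, hk] at h1
    exact hx1 h1

theorem card_lam {D : Subgroup G} (hD : D ≤ C) {v : Fin m → E} (hv : v ≠ 0) : have := h.fin
    Nat.card ((h.ks hX hB hc hD).lam v hv) = Nat.card X := by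
  have := h.fin
  have hks := h.ks hX hB hc hD
  refine le_antisymm (hks.card_le hv (h.pt_ne_bot hX)) ?_
  obtain ⟨a, ha, hav⟩ := hc.surj v
  have haX : a ∉ X := hc.not_mem (by rw [hav]; exact hv)
  obtain ⟨L, hL, hXL, hLB, haL⟩ := h.exists_line_le hX hB ha haX
  obtain ⟨Y, hY, hYL, hYX⟩ := h.exists_second hX hL hXL
  have hcard : Nat.card X = Nat.card Y := by rw [h.pl.card_pt hX, h.pl.card_pt hY]
  rw [hcard]
  have h1 : ∀ y : Y, ∃ l : hks.lam v hv, c y = (l : E) • v := by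
    intro y
    obtain ⟨l, hl, hly⟩ := h.line_smul hX hB hc hL hXL hLB haL haX (hYL y.2) hD
    refine ⟨⟨l, (hks.mem_lam_iff _ hv).1 hl⟩, ?_⟩
    show c (y : G) = l • v
    rw [hly, hav]
  choose f hf using h1
  refine Nat.card_le_card_of_injective f ?_
  intro y y' hyy
  have h2 : c y = c y' := by rw [hf, hf, hyy]
  have h3 := hc.mem_X_of_eq (hLB (hYL y.2)) (hLB (hYL y'.2)) h2
  have h4 : (y : G) * (y' : G)⁻¹ ∈ Y := mul_mem y.2 (inv_mem y'.2)
  by_contra hne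
  have h5 : (y : G) * (y' : G)⁻¹ ≠ 1 := fun e => hne (Subtype.ext (mul_inv_eq_one.1 e))
  exact hYX (h.pts_eq hY hX h4 h3 h5)

/-- **the lines of a block are the 1-spaces over `lam`** -/
theorem line_iff (hL : IsCj V L) (hXL : X ≤ L) (hLB : L ≤ B) {D : Subgroup G} (hD : D ≤ C) {a b : G} (ha : a ∈ L)
    (haX : a ∉ X) (hb : b ∈ B) : have := h.fin
    (b ∈ L ↔ ∃ l ∈ (h.ks hX hB hc hD).lam (c a) (hc.c_ne (hLB ha) haX), c b = l • c a) := by
  have := h.fin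
  have hks := h.ks hX hB hc hD
  have ha0 := hc.c_ne (hLB ha) haX
  refine ⟨fun hbL => h.line_smul hX hB hc hL hXL hLB ha haX hbL hD, ?_⟩
  rintro ⟨l, hl, hbl⟩
  by_cases hbX : b ∈ X
  · exact hXL hbX
  -- the line through `b`
  obtain ⟨M, hM, hXM, hMB, hbM⟩ := h.exists_line_le hX hB hb hbX
  -- the map from a point `Y ≠ X` of `L` to `lam` is bijective
  obtain ⟨Y, hY, hYL, hYX⟩ := h.exists_second hX hL hXL
  have hcard : Nat.card Y = Nat.card X := by rw [h.pl.card_pt hX, h.pl.card_pt hY]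
  have h1 : ∀ y : Y, ∃ l : hks.lam (c a) ha0, c y = (l : E) • c a := by
    intro y
    obtain ⟨l, hl, hly⟩ := h.line_smul hX hB hc hL hXL hLB ha haX (hYL y.2) hD
    exact ⟨⟨l, hl⟩, hly⟩
  choose f hf using h1
  have hinj : Function.Injective f := by
    intro y y' hyy
    have h2 : c y = c y' := by rw [hf, hf, hyy]
    have h3 := hc.mem_X_of_eq (hLB (hYL y.2)) (hLB (hYL y'.2)) h2
    have h4 : (y : G) * (y' : G)⁻¹ ∈ Y := mul_mem y.2 (inv_mem y'.2)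
    by_contra hne
    have h5 : (y : G) * (y' : G)⁻¹ ≠ 1 := fun e => hne (Subtype.ext (mul_inv_eq_one.1 e))
    exact hYX (h.pts_eq hY hX h4 h3 h5)
  have hbij := hinj.bijective_of_nat_card_le (by
    rw [h.card_lam hX hB hc hD ha0, hcard])
  obtain ⟨y, hy⟩ := hbij.2 ⟨l, hl⟩
  have h2 : c b = c y := by rw [hf, hy, hbl]
  have h3 := hc.mem_X_of_eq hb (hLB (hYL y.2)) h2
  have e : b = b * (y : G)⁻¹ * y := by group
  rw [e]
  exact mul_mem (hXL h3) (hYL y.2)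

/-- **K2 for two lines of one block**: by an element of `K_X` centralising `C` -/
theorem two_of_blk (hL : IsCj V L) (hXL : X ≤ L) (hLB : L ≤ B) (hM : IsCj V M) (hXM : X ≤ M) (hMB : M ≤ B)
    (hLM : L ≠ M) {a b x y : G} (ha : a ∈ L) (haX : a ∉ X) (hb : b ∈ M) (hbX : b ∉ X) (hx : x ∈ X) (hy : y ∈ X) :
    ∃ k ∈ kx V X, (∀ d ∈ C, k * d = d * k) ∧ kp k a = x ∧ kp k b = y := by
  have := h.fin
  have hks := h.ks hX hB hc le_rfl
  have ha0 := hc.c_ne (hLB ha) haX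
  obtain ⟨κ, ⟨k, hk, hkC, hκ⟩, h1, h2⟩ := hks.two (w := c b) ha0 (h.card_lam hX hB hc le_rfl ha0).ge (by
    intro l hl hbl
    have hbL : b ∈ L := (h.line_iff hX hB hc hL hXL hLB le_rfl ha haX (hMB hb)).2 ⟨l, hl, hbl⟩
    exact hLM (h.line_eq hX hL hXL hM hXM hbL hb hbX)) hx hy
  exact ⟨k, hk, hkC, by rw [← hκ a (hLB ha), h1], by rw [← hκ b (hMB hb), h2]⟩

/-- one line: by an element of `K_X` centralising `C` -/
theorem one_of_blk (hb : M ≤ B) {b y : G} (hbM : b ∈ M) (hbX : b ∉ X) (hy : y ∈ X) :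
    ∃ k ∈ kx V X, (∀ d ∈ C, k * d = d * k) ∧ kp k b = y := by
  obtain ⟨κ, ⟨k, hk, hkC, hκ⟩, h1⟩ := h.exists_onto hX hB hc (hc.c_ne (hb hbM) hbX) hy
  exact ⟨k, hk, hkC, by rw [← hκ b (hb hbM), h1]⟩

/-- **`[k, b]` is linear over `lam`**, for all `k ∈ K_X` -/
theorem scal {k k' a a' b b' : G} (hk : k ∈ kx V X) (hk' : k' ∈ kx V X) (ha : a ∈ B) (ha' : a' ∈ B) (haX : a ∉ X)
    (haX' : a' ∉ X) (hb : b ∈ B) (hb' : b' ∈ B) {v : Fin m → E} (hv : v ≠ 0) {l : E}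
    (hl : have := h.fin; l ∈ (h.ks hX hB hc hc.XC).lam v hv) (hbl : c b = l • c a) (hbl' : c b' = l • c a')
    (haa : kp k a = kp k' a') : kp k b = kp k' b' := by
  have := h.fin
  have hks := h.ks hX hB hc hc.XC
  obtain ⟨κ, hκ, hκk⟩ := h.exists_kk hX hB hc (D := X) hk (fun d hd => (mem_kx.1 hk).1 d hd)
  obtain ⟨κ', hκ', hκk'⟩ := h.exists_kk hX hB hc (D := X) hk' (fun d hd => (mem_kx.1 hk').1 d hd)
  have h1 := hks.scal hv hl hκ hκ' (hc.c_ne ha haX) (hc.c_ne ha' haX') (by rw [hκk a ha, hκk' a' ha', haa])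
  rwa [← hbl, ← hbl', hκk b hb, hκk' b' hb'] at h1

omit hB hc in
/-- **K2** : `K_X` is transitive on `(L - X) × (M - X)` for different lines `L`, `M` on `X` -/
theorem two_lines (hL : IsCj V L) (hXL : X ≤ L) (hM : IsCj V M) (hXM : X ≤ M) (hLM : L ≠ M) {a b x y : G}
    (ha : a ∈ L) (haX : a ∉ X) (hb : b ∈ M) (hbX : b ∉ X) (hx : x ∈ X) (hy : y ∈ X) :
    ∃ k ∈ kx V X, kp k a = x ∧ kp k b = y := by
  obtain ⟨B, hB, hLB⟩ := h.line X hX L hL hXL
  obtain ⟨B', hB', hMB⟩ := h.line X hX M hM hXM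
  obtain ⟨C, c, hc, hcC, -⟩ := h.co X hX B hB
  by_cases hBB : B' = B
  · subst hBB
    obtain ⟨k, hk, -, h1, h2⟩ := h.two_of_blk hX hB hc hL hXL hLB hM hXM hMB hLM ha haX hb hbX hx hy
    exact ⟨k, hk, h1, h2⟩
  · obtain ⟨C', c', hc', hcC', -⟩ := h.co X hX B' hB'
    obtain ⟨k, hk, hkC, h1⟩ := h.one_of_blk hX hB hc hLB ha haX hx
    obtain ⟨k', hk', hkC', h2⟩ := h.one_of_blk hX hB' hc' hMB hb hbX hy
    refine ⟨k * k', mul_mem hk hk', ?_, ?_⟩
    · rw [h.kp_mul hX hk hk' (hc.BW (hLB ha)), h1, kp_eq_one.2 (hkC' a (hcC' B hB (Ne.symm hBB) (hLB ha))),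
        mul_one]
    · rw [h.kp_mul hX hk hk' (hc'.BW (hMB hb)), h2, kp_eq_one.2 (hkC b (hcC B' hB' hBB (hMB hb))), one_mul]

end Root

end Cfsg.Agent.Omega.NO3S.MidQ
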