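import Cfsg.Agent.Omega.NO3S.MidQ.UAct
import Cfsg.Agent.Omega.NO3S.MidQ.NTwoDef

/-!
# The plug `Root → SLB` (TEXT 426-2, end): blocks `SL_m(E)`, `m ≥ 3`, `|E| = |Z|`

* `sl_two` : `SL_m(E)`, `m ≥ 3`, is transitive on the pairs of independent vectors;
* `Root.lam_top` : the field of the lines is `E`;  `Root.card_blk`;
* `Root.slb` : `Root → SLB`.
-/

set_option autoImplicit false
set_option linter.unusedSectionVars false

namespace Cfsg.Agent.Omega.NO3S.MidQ

open Subgroup Cfsg.Agent.Omega.NO3S.PT Cfsg.Agent.Omega.NoFF.Basic Cfsg.Agent.ZN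
open scoped Pointwise

variable {G : Type*} [Group G] {E : Type*} [Field E] {m : ℕ} {V Z X R A Y B C L : Subgroup G}
  {c : G → (Fin m → E)}

/-! ### Linear algebra -/

theorem exists_dual₂ {u w v : Fin m → E} (h : v ∉ Submodule.span E {u, w}) :
    ∃ φ : (Fin m → E) →ₗ[E] E, φ u = 0 ∧ φ w = 0 ∧ φ v = 1 := by
  obtain ⟨φ, h2, h3⟩ := Submodule.exists_le_ker_of_notMem h
  refine ⟨(φ v)⁻¹ • φ, ?_, ?_, ?_⟩
  · rw [LinearMap.smul_apply, show φ u = 0 from h3 (Submodule.subset_span (Set.mem_insert _ _)), smul_zero]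
  · rw [LinearMap.smul_apply, show φ w = 0 from h3 (Submodule.subset_span (Set.mem_insert_of_mem _ rfl)), smul_zero]
  · rw [LinearMap.smul_apply, smul_eq_mul, inv_mul_cancel₀ h2]

theorem exists_indep₂ (hm : 3 ≤ m) (u v : Fin m → E) : ∃ w : Fin m → E, w ∉ Submodule.span E {u, v} := by
  by_contra hcon
  push Not at hcon
  have h1 : Submodule.span E ({u, v} : Set (Fin m → E)) = ⊤ := eq_top_iff.2 fun w _ => hcon w
  have h2 : Module.finrank E (Submodule.span E ({u, v} : Set (Fin m → E))) ≤ 2 := by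
    classical
    have h3 := finrank_span_le_card (R := E) ({u, v} : Set (Fin m → E))
    refine h3.trans ?_
    rw [Set.toFinset_card]
    have : Fintype.card ({u, v} : Set (Fin m → E)) = Nat.card ({u, v} : Set (Fin m → E)) := by
      rw [Nat.card_eq_fintype_card]
    rw [this, Nat.card_coe_set_eq]
    exact (Set.ncard_insert_le _ _).trans (by rw [Set.ncard_singleton])
  rw [h1, finrank_top, Module.finrank_fin_fun] at h2
  omega

/-- one step: `v ↦ w`, `u` fixed -/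
theorem sl_step {u v w : Fin m → E} (hv : ∀ a : E, v ≠ a • u) (hw : w ∉ Submodule.span E {u, v}) :
    ∃ A, (Typ.sl : Typ E m).Mem A ∧ A u = u ∧ A v = w := by
  have h1 : v ∉ Submodule.span E {u, w - v} := by
    intro h2
    obtain ⟨a, b, hab⟩ := Submodule.mem_span_pair.1 h2
    by_cases hb : b = 0
    · rw [hb, zero_smul, add_zero] at hab
      exact hv a hab.symm
    · apply hw
      rw [Submodule.mem_span_pair]
      refine ⟨-(b⁻¹ * a), b⁻¹ + 1, ?_⟩
      have h3 : b • (w - v) = v - a • u := eq_sub_of_add_eq' hab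
      have h4 : w - v = b⁻¹ • (v - a • u) := by rw [← h3, smul_smul, inv_mul_cancel₀ hb, one_smul]
      have h5 : w = v + b⁻¹ • (v - a • u) := by rw [← h4]; abel
      rw [h5, smul_sub, add_smul, one_smul, neg_smul, mul_smul]
      abel
  obtain ⟨φ, h2, h3, h4⟩ := exists_dual₂ h1
  refine ⟨LinearEquiv.transvection h3, Typ.tv (τ := .sl) trivial h3 (fun f e => by cases e), ?_, ?_⟩
  · rw [LinearEquiv.transvection.apply, h2, zero_smul, add_zero]
  · rw [LinearEquiv.transvection.apply, h4, one_smul, add_sub_cancel]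

/-- `SL_m(E)`, `m ≥ 3`: the stabiliser of a vector is transitive on the vectors outside its line -/
theorem sl_two (hm : 3 ≤ m) {u v v' : Fin m → E} (hv : ∀ a : E, v ≠ a • u) (hv' : ∀ a : E, v' ≠ a • u) :
    ∃ A, (Typ.sl : Typ E m).Mem A ∧ A u = u ∧ A v = v' := by
  by_cases h1 : v' ∈ Submodule.span E {u, v}
  · obtain ⟨w, hw⟩ := exists_indep₂ hm u v
    obtain ⟨A, hA, hAu, hAv⟩ := sl_step hv hw
    have hwu : ∀ a : E, w ≠ a • u := by
      intro a ha
      apply hw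
      rw [Submodule.mem_span_pair]
      exact ⟨a, 0, by rw [zero_smul, add_zero, ha]⟩
    have h2 : v' ∉ Submodule.span E {u, w} := by
      intro h2
      obtain ⟨a, b, hab⟩ := Submodule.mem_span_pair.1 h2
      obtain ⟨c, d, hcd⟩ := Submodule.mem_span_pair.1 h1
      by_cases hb : b = 0
      · rw [hb, zero_smul, add_zero] at hab
        exact hv' a hab.symm
      · apply hw
        rw [Submodule.mem_span_pair]
        refine ⟨b⁻¹ * (c - a), b⁻¹ * d, ?_⟩
        have h3 : b • w = (c - a) • u + d • v := by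
          have h4 : b • w = v' - a • u := by rw [← hab]; abel
          rw [h4, ← hcd, sub_smul]; abel
        have h5 : w = b⁻¹ • (b • w) := by rw [smul_smul, inv_mul_cancel₀ hb, one_smul]
        rw [h5, h3, smul_add, smul_smul, smul_smul]
    obtain ⟨B, hB, hBu, hBw⟩ := sl_step hwu h2
    refine ⟨_, Typ.Mem.mul hB hA, ?_, ?_⟩
    · rw [LinearEquiv.trans_apply, hAu, hBu]
    · rw [LinearEquiv.trans_apply, hAv, hBw]
  · exact sl_step hv h1

namespace Root

variable [Finite G] {S : Sylow 2 G} {P : Subgroup G} {Blk : Subgroup G → Set (Subgroup G)}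

section gen

variable {τ : Typ E m} (h : Root S P V Z τ Blk)
include h

theorem lam_top (hE : Nat.card E = Nat.card Z) (hX : IsCj Z X) (hB : B ∈ Blk X) (hc : Co V X B C τ c)
    {D : Subgroup G} (hD : D ≤ C) {v : Fin m → E} (hv : v ≠ 0) (l : E) : have := h.fin
    l ∈ (h.ks hX hB hc hD).lam v hv := by
  have := h.fin
  have h1 : Nat.card E ≤ Nat.card ((h.ks hX hB hc hD).lam v hv) := by
    rw [h.card_lam hX hB hc hD hv, hE, h.pl.card_pt hX]
  have h2 : Function.Injective (fun x : (h.ks hX hB hc hD).lam v hv => (x : E)) := Subtype.val_injective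
  obtain ⟨x, hx⟩ := (h2.bijective_of_nat_card_le h1).2 l
  rw [← hx]
  exact x.2

/-- the lines are the `1`-spaces -/
theorem line_iff' (hE : Nat.card E = Nat.card Z) (hX : IsCj Z X) (hB : B ∈ Blk X) (hc : Co V X B C τ c)
    (hL : IsCj V L) (hXL : X ≤ L) (hLB : L ≤ B) {a b : G} (ha : a ∈ L) (haX : a ∉ X) (hb : b ∈ B) :
    b ∈ L ↔ ∃ l : E, c b = l • c a := by
  have := h.fin
  refine Iff.trans (h.line_iff hX hB hc hL hXL hLB le_rfl ha haX hb) ?_
  exact ⟨fun ⟨l, _, hl⟩ => ⟨l, hl⟩, fun ⟨l, hl⟩ => ⟨l, h.lam_top hE hX hB hc le_rfl _ l, hl⟩⟩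

theorem card_blk (hX : IsCj Z X) (hc : Co V X B C τ c) : Nat.card B = Nat.card Z * Nat.card E ^ m := by
  have := h.fin
  let θ : B →* Multiplicative (Fin m → E) :=
    { toFun := fun w => Multiplicative.ofAdd (c w)
      map_one' := by
        show Multiplicative.ofAdd (c 1) = 1
        rw [hc.c_one]; rfl
      map_mul' := by
        rintro ⟨x, hx⟩ ⟨y, hy⟩
        show Multiplicative.ofAdd (c (x * y)) = _
        rw [hc.add x (hc.BW hx) y (hc.BW hy)]; rfl }
  have hker : θ.ker = X.subgroupOf B := by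
    ext ⟨x, hx⟩
    rw [MonoidHom.mem_ker, mem_subgroupOf]
    show Multiplicative.ofAdd (c x) = 1 ↔ x ∈ X
    exact ⟨fun e => hc.mem_X hx e, fun e => hc.c_X e⟩
  have hsurj : Function.Surjective θ := by
    intro e
    obtain ⟨b, hb, hbc⟩ := hc.surj (Multiplicative.toAdd e)
    refine ⟨⟨b, hb⟩, ?_⟩
    show Multiplicative.ofAdd (c b) = e
    rw [hbc]; rfl
  have h1 := θ.ker.card_mul_index
  rw [Subgroup.index_ker, MonoidHom.range_eq_top.2 hsurj, Nat.card_congr topEquiv.toEquiv, hker,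
    Nat.card_congr (subgroupOfEquivOfLe hc.XB).toEquiv, h.pl.card_pt hX,
    Nat.card_congr (Multiplicative.toAdd (α := Fin m → E)), Nat.card_fun, Nat.card_eq_fintype_card (α := Fin m),
    Fintype.card_fin] at h1
  exact h1.symm

end gen

section sl

variable (h : Root S P V Z (.sl : Typ E m) Blk)
include h

omit h [Finite G] in
theorem sb_cj (hcan : ∀ (g : G) (X : Subgroup G), IsCj Z X → ∀ B ∈ Blk X, cj g B ∈ Blk (cj g X)) {A B : Subgroup G}
    (hs : Sb V Z Blk R A B) (g : G) : Sb V Z Blk (cj g R) (cj g A) (cj g B) := by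
  obtain ⟨h1, h2, ⟨D, hD, hAD, hBD⟩, h3⟩ := hs
  refine ⟨h1.cj g, h2.cj g, ⟨cj g D, hcan g R h1.right D hD, cj_le_cj.2 hAD, cj_le_cj.2 hBD⟩, ?_⟩
  intro L hL hRL hAL hBL
  exact h3 (cj g⁻¹ L) (hL.cj _) (by rwa [le_cj_iff, inv_inv]) (by rwa [le_cj_iff, inv_inv])
    (by rwa [le_cj_iff, inv_inv])

/-- the main step: `A` fixed -/
theorem two_fix (hm : 3 ≤ m) (hE : Nat.card E = Nat.card Z) {A B B' : Subgroup G} (h1 : Sb V Z Blk R A B)
    (h2 : Sb V Z Blk R A B') : ∃ g : G, cj g R = R ∧ cj g A = A ∧ cj g B = B' := by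
  have hR := h1.l.right
  have hA := h1.l.left
  obtain ⟨D, hD, hAD, hBD⟩ := h1.blk
  obtain ⟨D', hD', hAD', hBD'⟩ := h2.blk
  obtain ⟨a, ha, ha1⟩ := h.pt_ne_bot hA
  obtain ⟨b, hb, hb1⟩ := h.pt_ne_bot h1.r.left
  obtain ⟨b', hb', hb1'⟩ := h.pt_ne_bot h2.r.left
  have haR : a ∉ R := fun e => h1.l.ne (h.pts_eq hA hR ha e ha1)
  have hbR : b ∉ R := fun e => h1.r.ne (h.pts_eq h1.r.left hR hb e hb1)
  have hbR' : b' ∉ R := fun e => h2.r.ne (h.pts_eq h2.r.left hR hb' e hb1')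
  have hDD : D' = D := h.blk_eq hR hD hD' (hAD ha) (hAD' ha) haR
  rw [hDD] at hBD'
  obtain ⟨C, c, hc, -, -⟩ := h.co R hR D hD
  obtain ⟨L, hL, hAL, hRL⟩ := h1.l.line
  obtain ⟨M', hM', hBM', hRM'⟩ := h2.r.line
  have hLD : L ≤ D := h.line_le hR hD hL hRL (hAD ha) (hAL ha) haR
  have hne : L ≠ M' := fun e => h2.ne L hL hRL hAL (by rw [e]; exact hBM')
  -- `c b`, `c b'` are not multiples of `c a`
  have hi : ∀ T : Subgroup G, Sb V Z Blk R A T → T ≤ D → ∀ t ∈ T, t ≠ 1 → ∀ e : E, c t ≠ e • c a := by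
    intro T hT hTD t ht ht1 e he
    have htL : t ∈ L := (h.line_iff' hE hR hD hc hL hRL hLD (hAL ha) haR (hTD ht)).2 ⟨e, he⟩
    obtain ⟨T', hT', hTL', htT'⟩ := h.exists_point hL htL ht1
    have := h.pts_eq hT.r.left hT' ht htT' ht1
    exact hT.ne L hL hRL hAL (by rw [this]; exact hTL')
  obtain ⟨T, hT, hTa, hTb⟩ := sl_two hm (hi B h1 hBD b hb hb1) (hi B' h2 hBD' b' hb' hb1')
  obtain ⟨g, hg, hgD, hgc, -⟩ := hc.lift T hT
  have hgN := centralizer_le_normalizer _ hg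
  have hx : g * a * g⁻¹ * a⁻¹ ∈ R := hc.mem_X_of_eq (hgD a (hAD ha)) (hAD ha) (by
    rw [hgc a (hc.BW (hAD ha)), hTa])
  have hy : g * b * g⁻¹ * b'⁻¹ ∈ R := hc.mem_X_of_eq (hgD b (hBD hb)) (hBD' hb') (by
    rw [hgc b (hc.BW (hBD hb)), hTb])
  have haL : g * a * g⁻¹ ∈ L := by
    have e : g * a * g⁻¹ = g * a * g⁻¹ * a⁻¹ * a := by group
    rw [e]
    exact mul_mem (hRL hx) (hAL ha)
  have hbM : g * b * g⁻¹ ∈ M' := by
    have e : g * b * g⁻¹ = g * b * g⁻¹ * b'⁻¹ * b' := by group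
    rw [e]
    exact mul_mem (hRM' hy) (hBM' hb')
  have haR2 : g * a * g⁻¹ ∉ R := fun e => haR ((mem_normalizer_iff.1 hgN a).2 e)
  have hbR2 : g * b * g⁻¹ ∉ R := fun e => hbR ((mem_normalizer_iff.1 hgN b).2 e)
  obtain ⟨k, hk, hka, hkb⟩ := h.two_lines hR hL hRL hM' hRM' hne haL haR2 hbM hbR2 (inv_mem hx) (inv_mem hy)
  have h5 : k * g * a * (k * g)⁻¹ = a := by
    have e : k * g * a * (k * g)⁻¹ = kp k (g * a * g⁻¹) * (g * a * g⁻¹) := by simp only [kp]; group
    rw [e, hka]; group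
  have h6 : k * g * b * (k * g)⁻¹ = b' := by
    have e : k * g * b * (k * g)⁻¹ = kp k (g * b * g⁻¹) * (g * b * g⁻¹) := by simp only [kp]; group
    rw [e, hkb]; group
  refine ⟨k * g, cj_eq_iff.2 (mul_mem (centralizer_le_normalizer _ (kx_le_cent hk)) hgN), ?_, ?_⟩
  · have h7 := conj_mem_cj (g := k * g) ha
    rw [h5] at h7
    exact h.pts_eq (hA.cj _) hA h7 ha ha1
  · have h7 := conj_mem_cj (g := k * g) hb
    rw [h6] at h7
    exact h.pts_eq (h1.r.left.cj _) h2.r.left h7 hb' hb1'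

/-- **the plug for THEOREM N2** -/
theorem slb (hm : 3 ≤ m) (hE : Nat.card E = Nat.card Z) (hex : ∃ A R B, Cr V Z A R B) : SLB V Z Blk m where
  three := hm
  can := h.can
  le X hX B hB := by
    obtain ⟨C, c, hc, -, -⟩ := h.co X hX B hB
    exact ⟨hc.XB, hc.BW⟩
  line := h.line
  inf X hX B hB B' hB' hne b hb hb' := by
    rw [← h.blk_inf hX hB hB' hne]
    exact ⟨hb, hb'⟩
  all := h.all
  card X hX B hB := by
    obtain ⟨C, c, hc, -, -⟩ := h.co X hX B hB
    rw [h.card_blk hX hc, hE, pow_succ']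
  other R A hAR B hB hAB b hb u hu := by
    have hR := hAR.right
    obtain ⟨L, hL, hAL, hRL⟩ := hAR.line
    obtain ⟨D, hD, hLD⟩ := h.line R hR L hL hRL
    obtain ⟨C, c, hc, hcC, hcr⟩ := h.co R hR D hD
    obtain ⟨a, ha, ha1⟩ := h.pt_ne_bot hAR.left
    have hne : B ≠ D := fun e => hAB (by rw [e]; exact hAL.trans hLD)
    obtain ⟨ψ, -, h1⟩ := h.uact hR hc hD hcr hAR.symm (hAL.trans hLD) ha ha1 hu
    exact h1.1 b (hcC B hB hne hb)
  cent R A hAR B hB hAB L hL hRL hAL b hb hcb := by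
    have hR := hAR.right
    obtain ⟨C, c, hc, hcC, hcr⟩ := h.co R hR B hB
    obtain ⟨a, ha, ha1⟩ := h.pt_ne_bot hAR.left
    have haR : a ∉ R := fun e => hAR.ne (h.pts_eq hAR.left hR ha e ha1)
    have hLB : L ≤ B := h.line_le hR hB hL hRL (hAB ha) (hAL ha) haR
    rw [h.line_iff' hE hR hB hc hL hRL hLB (hAL ha) haR hb]
    by_contra hcon
    push Not at hcon
    obtain ⟨φ, h1, h2⟩ := exists_dual hcon
    have h3 := (h.mem_cent_iff hR hc hB hcr hex hAR.symm hAB ha ha1 (hc.BW hb)).1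
      (mem_centralizer_iff.2 hcb) φ ⟨h1, fun f e => by cases e⟩
    rw [h2] at h3
    exact one_ne_zero h3
  two R A B A' B' h1 h2 := by
    -- first move `A` to `A'`
    have hR := h1.l.right
    obtain ⟨L, hL, hAL, hRL⟩ := h1.l.line
    obtain ⟨L', hL', hAL', hRL'⟩ := h2.l.line
    obtain ⟨g, hgR, hgL⟩ := h.exists_conj₂ hR hL hRL hR hL' hRL'
    have h3 : cj g A ≤ L' := by rw [hgL]; exact cj_le_cj.2 hAL
    obtain ⟨k, hk, hkA⟩ := h.K_trans hR hL' hRL' (h1.l.left.cj g) h3 h2.l.left hAL' (by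
      intro e
      rw [hgR] at e
      exact h1.l.ne (cj_inj.1 e)) h2.l.ne
    have h4 : cj (k * g) R = R := by
      rw [← cj_cj, ← hgR, cj_eq_iff]
      exact centralizer_le_normalizer _ (kx_le_cent hk)
    have h5 : cj (k * g) A = A' := by rw [← cj_cj, hkA]
    have h6 := sb_cj h.can h1 (k * g)
    rw [h4, h5] at h6
    obtain ⟨g', h7, h8, h9⟩ := h.two_fix hm hE h6 h2
    exact ⟨g' * (k * g), by rw [← cj_cj, h4, h7], by rw [← cj_cj, h5, h8], by rw [← cj_cj, h9]⟩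

end sl

end Root

end Cfsg.Agent.Omega.NO3S.MidQ
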