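import Cfsg.Agent.Omega.NO3S.MidQ.TypLin

/-!
# NO-3S, `q ≥ 4`, `n = 2`: the normaliser of `SL_m(E)`, `Sp_m(E)` is semilinear

* `Typ.scalar` : an additive map commuting with all `A` of type `τ` is a scalar;
* `Typ.semi` : an additive automorphism `T` of `E^m` with `T A T⁻¹`, `T⁻¹ A T` of type `τ` for all `A` of type `τ` is
  semilinear (`Typ.Semi`).
-/

set_option autoImplicit false
set_option linter.unusedSectionVars false

namespace Cfsg.Agent.Omega.NO3S.MidQ

variable {E : Type*} [Field E] {m : ℕ}

namespace Typ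

variable {τ : Typ E m}

/-- the vectors are connected by a relation which holds for the pairs of a nonzero transvection coefficient -/
theorem conn (hok : τ.Ok) (hm : 2 ≤ m) (r : (Fin m → E) → (Fin m → E) → Prop)
    (htrans : ∀ x y z, r x y → r y z → r x z)
    (h : ∀ x v : Fin m → E, v ≠ 0 → (∃ (φ : (Fin m → E) →ₗ[E] E) (hφ : φ v = 0), φ x = 1 ∧
      τ.Mem (LinearEquiv.transvection hφ)) → r x v) {x y : Fin m → E} (hx : x ≠ 0) (hy : y ≠ 0) : r x y := by
  cases τ with
  | sl =>
    have key : ∀ x y : Fin m → E, y ≠ 0 → (∀ a : E, x ≠ a • y) → r x y := by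
      intro x y hy hxy
      obtain ⟨φ, h1, h2⟩ := exists_dual hxy
      exact h x y hy ⟨φ, h1, h2, Typ.tv (τ := .sl) trivial h1 (fun f e => by cases e)⟩
    by_cases hxy : ∀ a : E, x ≠ a • y
    · exact key x y hy hxy
    · push Not at hxy
      obtain ⟨a, rfl⟩ := hxy
      have ha : a ≠ 0 := fun e => hx (by rw [e, zero_smul])
      obtain ⟨w, hw⟩ := exists_indep hm y
      have hw0 : w ≠ 0 := fun e => hw 0 (by rw [zero_smul]; exact e)
      refine htrans _ w _ (key _ w hw0 ?_) (key w y hy hw)
      intro b hb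
      by_cases hb0 : b = 0
      · rw [hb0, zero_smul] at hb; exact hx hb
      · apply hw (b⁻¹ * a)
        rw [mul_smul, hb, smul_smul, inv_mul_cancel₀ hb0, one_smul]
  | sp f =>
    have h0 := sp_neg hok
    have key : ∀ x y : Fin m → E, f x y ≠ 0 → r x y := by
      intro x y hxy
      have hy : y ≠ 0 := fun e => hxy (by rw [e, map_zero])
      have h1 : ((f x y)⁻¹ • f.flip y) y = 0 := by
        rw [LinearMap.smul_apply, LinearMap.flip_apply, hok.1, smul_zero]
      refine h x y hy ⟨(f x y)⁻¹ • f.flip y, h1, ?_, Typ.tv hok h1 (fun f' e => ?_)⟩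
      · rw [LinearMap.smul_apply, LinearMap.flip_apply, smul_eq_mul, inv_mul_cancel₀ hxy]
      · cases e
        exact ⟨(f x y)⁻¹, fun x => by rw [LinearMap.smul_apply, LinearMap.flip_apply, smul_eq_mul]⟩
    by_cases hxy : f x y ≠ 0
    · exact key x y hxy
    · push Not at hxy
      obtain ⟨w, h1, h2⟩ : ∃ w, f x w ≠ 0 ∧ f w y ≠ 0 := by
        obtain ⟨y1, hy1⟩ : ∃ w, f x w ≠ 0 := by
          by_contra hcon; push Not at hcon; exact hx (hok.2 x hcon)
        obtain ⟨y2, hy2⟩ : ∃ w, f w y ≠ 0 := by
          by_contra hcon; push Not at hcon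
          exact hy (hok.2 y fun w => by rw [h0, hcon, neg_zero])
        by_cases h3 : f y1 y = 0
        · by_cases h4 : f x y2 = 0
          · refine ⟨y1 + y2, ?_, ?_⟩
            · rw [map_add, h4, add_zero]; exact hy1
            · rw [map_add, LinearMap.add_apply, h3, zero_add]; exact hy2
          · exact ⟨y2, h4, hy2⟩
        · exact ⟨y1, hy1, h3⟩
      exact htrans _ w _ (key x w h1) (key w y h2)

/-- **Schur**: an additive map commuting with all transvections of type `τ` is a scalar -/
theorem scalar (hok : τ.Ok) (hm : 2 ≤ m) {p : (Fin m → E) → (Fin m → E)} (hadd : ∀ x y, p (x + y) = p x + p y)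
    (hcomm : ∀ A, τ.Mem A → ∀ x, p (A x) = A (p x)) : ∃ l : E, ∀ x, p x = l • x := by
  have hp0 : p 0 = 0 := by
    have := hadd 0 0
    rw [add_zero] at this
    exact (add_eq_left.1 this.symm)
  -- the formula for transvections
  have key : ∀ (v : Fin m → E) (φ : (Fin m → E) →ₗ[E] E) (hφ : φ v = 0),
      τ.Mem (LinearEquiv.transvection hφ) → ∀ x, p (φ x • v) = φ (p x) • v := by
    intro v φ hφ hA x
    have h1 := hcomm _ hA x
    rw [LinearEquiv.transvection.apply, LinearEquiv.transvection.apply, hadd] at h1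
    exact add_left_cancel h1
  -- `p v ∈ E v`
  have hex : ∀ v : Fin m → E, v ≠ 0 → ∃ l : E, p v = l • v := by
    intro v hv
    obtain ⟨w, hw⟩ := exists_indep hm v
    have hw0 : w ≠ 0 := fun e => hw 0 (by rw [zero_smul]; exact e)
    refine conn hok hm (fun x v => v ≠ 0 → ∃ l : E, p v = l • v) (fun x y z _ h2 => h2) ?_ hw0 hv hv
    rintro x v hv ⟨φ, hφ, h1, h2⟩ -
    exact ⟨φ (p x), by rw [← key v φ hφ h2 x, h1, one_smul]⟩
  -- the scalars agree
  obtain ⟨w, hw⟩ := exists_indep hm (0 : Fin m → E)
  have hw0 : w ≠ 0 := fun e => hw 0 (by rw [smul_zero]; exact e)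
  obtain ⟨l, hl⟩ := hex w hw0
  refine ⟨l, fun x => ?_⟩
  by_cases hx : x = 0
  · rw [hx, hp0, smul_zero]
  have h2 := conn hok hm (fun x v => ∀ l : E, p x = l • x → p v = l • v)
    (fun x y z h1 h2 l hl => h2 l (h1 l hl)) (by
      rintro x v hv ⟨φ, hφ, h1, h2⟩ l hl
      have h3 := key v φ hφ h2 x
      rw [h1, one_smul, hl, map_smul, h1, smul_eq_mul, mul_one] at h3
      exact h3) hw0 hx
  exact h2 l hl

/-- **the normaliser is semilinear** -/
theorem semi (hok : τ.Ok) (hm : 2 ≤ m) {T : (Fin m → E) ≃+ (Fin m → E)}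
    (hT : ∀ A, τ.Mem A → ∃ A', τ.Mem A' ∧ ∀ x, T (A x) = A' (T x))
    (hT' : ∀ A, τ.Mem A → ∃ A', τ.Mem A' ∧ ∀ x, T (A' x) = A (T x)) : ∃ σ : E ≃+* E, τ.Semi σ T := by
  obtain ⟨w, hw⟩ := exists_indep hm (0 : Fin m → E)
  have hw0 : w ≠ 0 := fun e => hw 0 (by rw [smul_zero]; exact e)
  have hTw : T w ≠ 0 := fun e => hw0 (T.map_eq_zero_iff.1 e)
  -- scalars are mapped to scalars
  have h1 : ∀ a : E, ∃ b : E, ∀ x, T (a • x) = b • T x := by
    intro a
    obtain ⟨b, hb⟩ := scalar hok hm (p := fun x => T (a • T.symm x))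
      (fun x y => by rw [map_add, smul_add, map_add]) (by
        intro A hA x
        obtain ⟨A', hA', h2⟩ := hT' A hA
        have h3 : T.symm (A x) = A' (T.symm x) := by
          rw [AddEquiv.symm_apply_eq, h2, AddEquiv.apply_symm_apply]
        show T (a • T.symm (A x)) = A (T (a • T.symm x))
        rw [h3, ← map_smul, h2])
    refine ⟨b, fun x => ?_⟩
    have h4 := hb (T x)
    rwa [AddEquiv.symm_apply_apply] at h4
  have h1' : ∀ b : E, ∃ a : E, ∀ x, T (a • x) = b • T x := by
    intro b
    obtain ⟨a, ha⟩ := scalar hok hm (p := fun x => T.symm (b • T x))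
      (fun x y => by rw [map_add, smul_add, map_add]) (by
        intro A hA x
        obtain ⟨A', hA', h2⟩ := hT A hA
        show T.symm (b • T (A x)) = A (T.symm (b • T x))
        rw [AddEquiv.symm_apply_eq, h2, h2, AddEquiv.apply_symm_apply, map_smul])
    refine ⟨a, fun x => ?_⟩
    rw [← ha, AddEquiv.apply_symm_apply]
  choose s hs using h1
  have hinj : Function.Injective s := by
    intro a b hab
    have h2 : T (a • w) = T (b • w) := by rw [hs, hs, hab]
    exact smul_left_injective E hw0 (T.injective h2)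
  have hsurj : Function.Surjective s := by
    intro b
    obtain ⟨a, ha⟩ := h1' b
    refine ⟨a, smul_left_injective E hTw ?_⟩
    show s a • T w = b • T w
    rw [← hs, ha]
  let σ : E ≃+* E :=
    { toEquiv := Equiv.ofBijective s ⟨hinj, hsurj⟩
      map_mul' := by
        intro a b
        apply smul_left_injective E hTw
        show s (a * b) • T w = (s a * s b) • T w
        rw [← hs, mul_smul, hs, hs, mul_smul]
      map_add' := by
        intro a b
        apply smul_left_injective E hTw
        show s (a + b) • T w = (s a + s b) • T w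
        rw [← hs, add_smul, map_add, hs, hs, add_smul] }
  have hσ : ∀ (a : E) x, T (a • x) = σ a • T x := hs
  refine ⟨σ, ?_⟩
  cases τ with
  | sl => exact hσ
  | sp f =>
    refine ⟨hσ, ?_⟩
    have h0 := sp_neg hok
    -- for every `v` a constant `d`
    have h2 : ∀ v : Fin m → E, v ≠ 0 → ∃ d : E, d ≠ 0 ∧ ∀ x, f (T x) (T v) = d * σ (f x v) := by
      intro v hv
      have hTv : T v ≠ 0 := fun e => hv (T.map_eq_zero_iff.1 e)
      have h3 : f.flip v v = 0 := by rw [LinearMap.flip_apply, hok.1]
      obtain ⟨A, hA, hTA⟩ := hT _ (Typ.tv hok h3 (fun f' e => by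
        cases e
        exact ⟨1, fun x => by rw [LinearMap.flip_apply, one_mul]⟩))
      have h4 : ∀ x, A (T x) = T x + σ (f x v) • T v := by
        intro x
        rw [← hTA, LinearEquiv.transvection.apply, map_add, hσ, LinearMap.flip_apply]
      have h5 : ∀ x y, σ (f y v) * f (T x) (T v) = σ (f x v) * f (T y) (T v) := by
        intro x y
        have h6 := hA (T x) (T y)
        rw [h4, h4] at h6
        simp only [map_add, LinearMap.add_apply, map_smul, LinearMap.smul_apply, smul_eq_mul, hok.1, mul_zero,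
          add_zero] at h6
        rw [h0 (T v) (T y)] at h6
        linear_combination h6
      obtain ⟨y, hy⟩ : ∃ y, f y v ≠ 0 := by
        by_contra hcon; push Not at hcon
        exact hv (hok.2 v fun y => by rw [h0, hcon, neg_zero])
      have hσy : σ (f y v) ≠ 0 := fun e => hy (σ.map_eq_zero_iff.1 e)
      refine ⟨f (T y) (T v) / σ (f y v), ?_, ?_⟩
      · refine div_ne_zero (fun e => ?_) hσy
        apply hTv
        refine hok.2 _ fun z => ?_
        obtain ⟨x, rfl⟩ := T.surjective z
        have h6 := h5 x y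
        rw [e, mul_zero] at h6
        rw [h0, (mul_eq_zero.1 h6).resolve_left hσy, neg_zero]
      · intro x
        have h6 := h5 x y
        rw [div_mul_eq_mul_div, eq_div_iff hσy]
        linear_combination h6
    obtain ⟨d, hd, hdw⟩ := h2 w hw0
    refine ⟨d, ?_⟩
    have h3 : ∀ y : Fin m → E, y ≠ 0 → (∀ z, f (T z) (T w) = d * σ (f z w)) →
        ∀ z, f (T z) (T y) = d * σ (f z y) := fun y hy =>
      conn hok hm (τ := .sp f) (fun x v => (∀ y, f (T y) (T x) = d * σ (f y x)) →
      ∀ y, f (T y) (T v) = d * σ (f y v)) (fun x y z h4 h5 h6 => h5 (h4 h6)) (by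
        rintro x v hv ⟨φ, hφ, h4, h5⟩ h6
        obtain ⟨e, he, hev⟩ := h2 v hv
        -- `f x v ≠ 0`
        have h7 : f x v ≠ 0 := by
          intro h8
          -- the transvection is an isometry
          obtain ⟨y, hy⟩ : ∃ y, f v y ≠ 0 := by
            by_contra hcon; push Not at hcon; exact hv (hok.2 v hcon)
          have h9 := h5 x y
          rw [LinearEquiv.transvection.apply, LinearEquiv.transvection.apply, h4, one_smul] at h9
          simp only [map_add, LinearMap.add_apply, map_smul, smul_eq_mul, hok.1, mul_zero,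
            add_zero, h8] at h9
          apply hy
          linear_combination h9
        have h8 := h6 v
        have h9 := hev x
        rw [h0 (T x) (T v), h8, h0 v x, map_neg, mul_neg, neg_neg] at h9
        have h10 : σ (f x v) ≠ 0 := fun e => h7 (σ.map_eq_zero_iff.1 e)
        have h11 : d = e := mul_right_cancel₀ h10 h9
        rw [h11]
        exact hev) hw0 hy
    intro x y
    by_cases hy : y = 0
    · rw [hy, map_zero, map_zero, map_zero, map_zero, mul_zero]
    · exact h3 y hy hdw x

end Typ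

end Cfsg.Agent.Omega.NO3S.MidQ
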