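import Cfsg.Agent.Omega.NO3S.MidQ.UAct
import Cfsg.Agent.Omega.NO3S.MidQ.TNBasic

/-!
# The plug `Root → TN, H2` (TEXT 426-2, end)

* `Root.mem_pt` : an element of `W_R` with all coordinates `0` is in `R`;
* `Root.h3` : (H3);  `Root.tn` : `TN` from (N);
* `Root.h2` : (H2) for `SL₂(E)` and `Sp_m(E)`, `|E| = |Z|`.
-/

set_option autoImplicit false
set_option linter.unusedSectionVars false

namespace Cfsg.Agent.Omega.NO3S.MidQ

open Subgroup Cfsg.Agent.Omega.NO3S.PT Cfsg.Agent.Omega.NoFF.Basic Cfsg.Agent.ZN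
open scoped Pointwise

variable {G : Type*} [Group G] {E : Type*} [Field E] {m : ℕ} {V Z R A Y B C : Subgroup G} {τ : Typ E m}
  {c : G → (Fin m → E)}

namespace Root

variable [Finite G] {S : Sylow 2 G} {P : Subgroup G} {Blk : Subgroup G → Set (Subgroup G)}
  (h : Root S P V Z τ Blk)
include h

/-- an element of `W_R` all of whose coordinates are `0` is in `R` -/
theorem mem_pt (hR : IsCj Z R) {w : G} (hw : w ∈ ws V R)
    (h0 : ∀ B ∈ Blk R, ∃ (C : Subgroup G) (c : G → (Fin m → E)), Co V R B C τ c ∧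
      (∀ B' ∈ Blk R, B' ≠ B → B' ≤ C) ∧ c w = 0) : w ∈ R := by
  classical
  have key : ∀ s : Finset (Subgroup G), (∀ B ∈ s, B ∈ Blk R) → ∀ w ∈ s.sup id ⊔ R,
      (∀ B ∈ s, ∃ (C : Subgroup G) (c : G → (Fin m → E)), Co V R B C τ c ∧
        (∀ B' ∈ Blk R, B' ≠ B → B' ≤ C) ∧ c w = 0) → w ∈ R := by
    intro s
    induction s using Finset.induction_on with
    | empty =>
      intro _ w hw _
      rwa [Finset.sup_empty, bot_sup_eq] at hw
    | insert B s hBs ih =>
      intro hs w hw h0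
      have hs' : ∀ B' ∈ s, B' ∈ Blk R := fun B' hB' => hs B' (Finset.mem_insert_of_mem hB')
      obtain ⟨C, c, hc, hcC, h1⟩ := h0 B (Finset.mem_insert_self B s)
      have hle : s.sup id ⊔ R ≤ C := by
        refine sup_le (Finset.sup_le fun B' hB' => hcC B' (hs' B' hB') ?_) hc.XC
        rintro rfl
        exact hBs hB'
      have hn : B ≤ normalizer ((s.sup id ⊔ R : Subgroup G) : Set G) := by
        refine le_trans ?_ (centralizer_le_normalizer _)
        intro b hb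
        rw [mem_centralizer_iff]
        exact fun t ht => h.ws_comm hR (hc.CW (hle ht)) (hc.BW hb)
      rw [Finset.sup_insert, id, sup_assoc] at hw
      have hw' : w ∈ ((B ⊔ (s.sup id ⊔ R) : Subgroup G) : Set G) := hw
      rw [coe_mul_of_left_le_normalizer_right _ _ hn] at hw'
      obtain ⟨b, hb, t, ht, rfl⟩ := hw'
      have hb' : b ∈ B := hb
      have ht' : t ∈ s.sup id ⊔ R := ht
      change c (b * t) = 0 at h1
      rw [hc.add b (hc.BW hb') t (hc.CW (hle ht')), hc.c_C (hle ht'), add_zero] at h1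
      have h2 : b ∈ R := hc.mem_X hb' h1
      refine mul_mem h2 (ih hs' t ht' fun B' hB' => ?_)
      obtain ⟨C', c', hc', hcC', h3⟩ := h0 B' (Finset.mem_insert_of_mem hB')
      change c' (b * t) = 0 at h3
      rw [hc'.c_mul_X h2 (hc.CW (hle ht'))] at h3
      exact ⟨C', c', hc', hcC', h3⟩
  have hfin : (Blk R).Finite := Set.toFinite _
  refine key hfin.toFinset (fun B hB => (Set.Finite.mem_toFinset _).1 hB) w ?_ fun B hB =>
    h0 B ((Set.Finite.mem_toFinset _).1 hB)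
  have h1 : ws V R ≤ hfin.toFinset.sup id := by
    refine ws_le fun L hL hRL => ?_
    obtain ⟨B, hB, hLB⟩ := h.line R hR L hL hRL
    exact hLB.trans (Finset.le_sup (f := id) ((Set.Finite.mem_toFinset _).2 hB))
  exact (le_sup_left : _ ≤ hfin.toFinset.sup id ⊔ R) (h1 hw)

/-- a good functional which does not vanish at a given nonzero vector -/
theorem exists_good {w : Fin m → E} (hw : w ≠ 0) : ∃ v : Fin m → E, v ≠ 0 ∧ ∃ ψ, τ.Gd v ψ ∧ ψ w ≠ 0 := by
  cases τ with
  | sl =>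
    obtain ⟨v, hv⟩ := exists_indep h.two w
    have hv0 : v ≠ 0 := fun e => hv 0 (by rw [zero_smul]; exact e)
    obtain ⟨φ, h1, h2⟩ := exists_dual (u := w) (v := v) (by
      intro a ha
      by_cases ha0 : a = 0
      · rw [ha0, zero_smul] at ha; exact hw ha
      · apply hv a⁻¹
        rw [ha, smul_smul, inv_mul_cancel₀ ha0, one_smul])
    exact ⟨v, hv0, φ, ⟨h1, fun f e => by cases e⟩, by rw [h2]; exact one_ne_zero⟩
  | sp f =>
    have hok := h.ok
    obtain ⟨v, hv⟩ : ∃ y, f w y ≠ 0 := by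
      by_contra hcon; push Not at hcon; exact hw (hok.2 w hcon)
    refine ⟨v, fun e => hv (by rw [e, map_zero]), f.flip v, ⟨?_, fun f' e => ?_⟩, ?_⟩
    · rw [LinearMap.flip_apply, hok.1]
    · cases e
      exact ⟨1, fun x => by rw [LinearMap.flip_apply, one_mul]⟩
    · rw [LinearMap.flip_apply]; exact hv

/-- **(H3)** -/
theorem h3 (hex : ∃ A R B, Cr V Z A R B) (hR : IsCj Z R) {w : G} (hw : w ∈ ws V R)
    (hcw : ∀ A, Adj V Z A R → ∀ u ∈ UU V Z A, u * w = w * u) : w ∈ R := by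
  refine h.mem_pt hR hw fun B hB => ?_
  obtain ⟨C, c, hc, hcC, hcr⟩ := h.co R hR B hB
  refine ⟨C, c, hc, hcC, ?_⟩
  by_contra hne
  obtain ⟨v, hv, ψ, hψ, hψw⟩ := h.exists_good hne
  obtain ⟨a, ha, hav⟩ := hc.surj v
  have haR : a ∉ R := hc.not_mem (by rw [hav]; exact hv)
  have ha1 : a ≠ 1 := fun e => haR (e ▸ one_mem _)
  obtain ⟨L, hL, hRL, hLB, haL⟩ := h.exists_line_le hR hB ha haR
  obtain ⟨A, hA, hAL, haA⟩ := h.exists_point hL haL ha1
  have hAR : A ≠ R := fun e => haR (e ▸ haA)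
  have hadj : Adj V Z A R := ⟨hA, hR, hAR, L, hL, hAL, hRL⟩
  refine hψw ((h.mem_cent_iff hR hc hB hcr hex hadj.symm (hAL.trans hLB) haA ha1 hw).1 ?_ ψ (by rw [hav]; exact hψ))
  rw [mem_centralizer_iff]
  exact hcw A hadj

/-- **TYPE N** -/
theorem tn (hex : ∃ A R B, Cr V Z A R B)
    (hN : ∀ A R B, Cr V Z A R B → ∀ a ∈ ws V A, ∀ b ∈ ws V B, a * b * a⁻¹ * b⁻¹ ∈ R) : TN S P V Z :=
  { h.toMid with
    comm := hN
    cen := fun R hR w hw hcw => h.h3 hex hR hw hcw
    ex := hex }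

/-- a generator of the good functionals, `SL₂` and `Sp` -/
theorem exists_gen (ht : (∃ f, τ = .sp f) ∨ m = 2) {v : Fin m → E} (hv : v ≠ 0) :
    ∃ ψ₀ : (Fin m → E) →ₗ[E] E, ψ₀ ≠ 0 ∧ ∀ x, ψ₀ x = 0 ↔ ∀ ψ, τ.Gd v ψ → ψ x = 0 := by
  cases τ with
  | sp f =>
    have hok := h.ok
    refine ⟨f.flip v, fun e => hv (hok.2 v fun y => ?_), fun x => ⟨fun hx ψ hψ => ?_, fun hx => hx _ ⟨?_, ?_⟩⟩⟩
    · rw [Typ.sp_neg hok, ← LinearMap.flip_apply, e, LinearMap.zero_apply, neg_zero]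
    · obtain ⟨a, ha⟩ := hψ.2 f rfl
      rw [LinearMap.flip_apply] at hx
      rw [ha, hx, mul_zero]
    · rw [LinearMap.flip_apply, hok.1]
    · intro f' e
      cases e
      exact ⟨1, fun x => by rw [LinearMap.flip_apply, one_mul]⟩
  | sl =>
    have hm : m = 2 := by
      rcases ht with ⟨f, hf⟩ | hm
      · cases hf
      · exact hm
    obtain ⟨u, hu⟩ := exists_indep h.two v
    obtain ⟨ψ₀, h1, h2⟩ := exists_dual hu
    refine ⟨ψ₀, fun e => ?_, fun x => ⟨fun hx ψ hψ => ?_, fun hx => hx _ ⟨h1, fun f e => by cases e⟩⟩⟩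
    · rw [e, LinearMap.zero_apply] at h2; exact zero_ne_one h2
    · -- `x ∈ E v` because `ker ψ₀` has dimension 1
      have hker : Module.finrank E (LinearMap.ker ψ₀) = 1 := by
        have h3 := LinearMap.finrank_range_add_finrank_ker ψ₀
        have h4 : LinearMap.range ψ₀ = ⊤ := LinearMap.range_eq_top.2 fun e =>
          ⟨e • u, by rw [map_smul, h2, smul_eq_mul, mul_one]⟩
        rw [h4, finrank_top, Module.finrank_self, Module.finrank_fin_fun] at h3
        omega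
      have hv' : (⟨v, h1⟩ : LinearMap.ker ψ₀) ≠ 0 := fun e => hv (congrArg Subtype.val e)
      obtain ⟨a, ha⟩ := (finrank_eq_one_iff_of_nonzero' _ hv').1 hker ⟨x, hx⟩
      have h5 : a • v = x := congrArg Subtype.val ha
      rw [← h5, map_smul, hψ.1, smul_zero]

/-- **(H2)** -/
theorem h2 (hex : ∃ A R B, Cr V Z A R B) (hE : Nat.card E = Nat.card Z) (ht : (∃ f, τ = .sp f) ∨ m = 2) :
    H2 V Z := by
  intro R A hAR
  have hRA := hAR.symm
  have hR := hRA.left
  obtain ⟨L, hL, hRL, hAL⟩ := hRA.line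
  obtain ⟨B, hB, hLB⟩ := h.line R hR L hL hRL
  obtain ⟨C, c, hc, -, hcr⟩ := h.co R hR B hB
  have hAB := hAL.trans hLB
  obtain ⟨a, ha, ha1⟩ := h.pt_ne_bot hRA.right
  have haR : a ∉ R := fun e => hRA.ne (h.pts_eq hRA.left hRA.right e ha ha1)
  obtain ⟨ψ₀, hψ0, hψ⟩ := h.exists_gen ht (hc.c_ne (hAB ha) haR)
  -- the homomorphism
  let θ : (ws V R) →* Multiplicative E :=
    { toFun := fun w => Multiplicative.ofAdd (ψ₀ (c w))
      map_one' := by
        show Multiplicative.ofAdd (ψ₀ (c 1)) = 1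
        rw [hc.c_one, map_zero]; rfl
      map_mul' := by
        rintro ⟨x, hx⟩ ⟨y, hy⟩
        show Multiplicative.ofAdd (ψ₀ (c (x * y))) = _
        rw [hc.add x hx y hy, map_add]; rfl }
  have hker : θ.ker = (centralizer ((UU V Z A : Subgroup G) : Set G)).subgroupOf (ws V R) := by
    ext ⟨x, hx⟩
    rw [MonoidHom.mem_ker, mem_subgroupOf]
    show Multiplicative.ofAdd (ψ₀ (c x)) = 1 ↔ x ∈ _
    rw [h.mem_cent_iff hR hc hB hcr hex hRA hAB ha ha1 hx, ← hψ]
    exact Iff.rfl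
  have hsurj : Function.Surjective θ := by
    intro e
    obtain ⟨u, hu⟩ : ∃ u, ψ₀ u ≠ 0 := by
      by_contra hcon
      push Not at hcon
      exact hψ0 (LinearMap.ext hcon)
    obtain ⟨b, hb, hbc⟩ := hc.surj ((Multiplicative.toAdd e / ψ₀ u) • u)
    refine ⟨⟨b, hc.BW hb⟩, ?_⟩
    show Multiplicative.ofAdd (ψ₀ (c b)) = e
    rw [hbc, map_smul, smul_eq_mul, div_mul_cancel₀ _ hu]
    rfl
  rw [relIndex, ← hker, Subgroup.index_ker, MonoidHom.range_eq_top.2 hsurj, Nat.card_congr topEquiv.toEquiv, ← hE]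
  exact Nat.card_congr Multiplicative.toAdd

end Root

end Cfsg.Agent.Omega.NO3S.MidQ
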