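import Cfsg.Agent.Omega.NO3S.MidQ.RootA

/-!
# NO-3S, `q ≥ 4`, `n = 2`: the action of `U_A` on `W_R`, `A ~ R` (TEXT 426-1, section 4, over `Root`)

* `Typ.Gd τ v ψ` : `1 + ψ(·) v` is a transvection of type `τ`;
* `Mid.exists_cr` : every flag is the beginning of a critical pair;
* `Root.wact` : the action of `W_Y`, `Y ~ A`, on `W_R`;  `Root.uact` : of `U_A`: trivial on `C`, `1 + ψ(·) c(a)` with
  `ψ` good on the block of `A`;
* `Root.full` : every good `ψ` occurs, for an element of some `W_Y`, `(R, Y)` critical with middle `A`;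
* `Root.mem_cent_iff` : `C_{W_R}(U_A) = {w : ψ (c w) = 0 for all good ψ}`.
-/

set_option autoImplicit false
set_option linter.unusedSectionVars false

namespace Cfsg.Agent.Omega.NO3S.MidQ

open Subgroup Cfsg.Agent.Omega.NO3S.PT Cfsg.Agent.Omega.NoFF.Basic Cfsg.Agent.ZN
open scoped Pointwise

variable {G : Type*} [Group G] {E : Type*} [Field E] {m : ℕ} {V Z R A Y B C : Subgroup G} {τ : Typ E m}
  {c : G → (Fin m → E)}

namespace Typ

/-- `1 + ψ(·) v` is a transvection of type `τ` -/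
def Gd (τ : Typ E m) (v : Fin m → E) (ψ : (Fin m → E) →ₗ[E] E) : Prop :=
  ψ v = 0 ∧ ∀ f, τ = .sp f → ∃ a : E, ∀ x, ψ x = a * f x v

theorem Gd.add {v : Fin m → E} {φ ψ : (Fin m → E) →ₗ[E] E} (h1 : τ.Gd v φ) (h2 : τ.Gd v ψ) : τ.Gd v (φ + ψ) := by
  refine ⟨by rw [LinearMap.add_apply, h1.1, h2.1, add_zero], fun f e => ?_⟩
  obtain ⟨a, ha⟩ := h1.2 f e
  obtain ⟨b, hb⟩ := h2.2 f e
  exact ⟨a + b, fun x => by rw [LinearMap.add_apply, ha, hb, add_mul]⟩

theorem Gd.smul {v : Fin m → E} {φ : (Fin m → E) →ₗ[E] E} (h1 : τ.Gd v φ) (e : E) : τ.Gd v (e • φ) := by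
  refine ⟨by rw [LinearMap.smul_apply, h1.1, smul_zero], fun f h => ?_⟩
  obtain ⟨a, ha⟩ := h1.2 f h
  exact ⟨e * a, fun x => by rw [LinearMap.smul_apply, ha, smul_eq_mul, mul_assoc]⟩

theorem Gd.zero {v : Fin m → E} : τ.Gd v 0 :=
  ⟨rfl, fun f _ => ⟨0, fun x => by rw [LinearMap.zero_apply, zero_mul]⟩⟩

theorem Gd.neg {v : Fin m → E} {φ : (Fin m → E) →ₗ[E] E} (h1 : τ.Gd v φ) : τ.Gd v (-φ) := by
  refine ⟨by rw [LinearMap.neg_apply, h1.1, neg_zero], fun f h => ?_⟩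
  obtain ⟨a, ha⟩ := h1.2 f h
  exact ⟨-a, fun x => by rw [LinearMap.neg_apply, ha, neg_mul]⟩

theorem Fun.gd {v : Fin m → E} {Φ : Submodule E ((Fin m → E) →ₗ[E] E)} (hok : τ.Ok) (h : τ.Fun v Φ)
    {φ : (Fin m → E) →ₗ[E] E} (hφ : φ ∈ Φ) : τ.Gd v φ := by
  cases τ with
  | sl => exact ⟨h.2 φ hφ, fun f e => by cases e⟩
  | sp f =>
    obtain ⟨a, ha⟩ := (h φ).1 hφ
    refine ⟨by rw [ha, hok.1, mul_zero], fun f' e => ?_⟩
    cases e
    exact ⟨a, ha⟩

theorem Gd.of_smul {v : Fin m → E} {φ : (Fin m → E) →ₗ[E] E} {e : E} (he : e ≠ 0) (h1 : τ.Gd (e • v) φ) :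
    τ.Gd v φ := by
  refine ⟨?_, fun f h => ?_⟩
  · have h2 := h1.1
    rw [map_smul, smul_eq_mul] at h2
    exact (mul_eq_zero.1 h2).resolve_left he
  · obtain ⟨a, ha⟩ := h1.2 f h
    exact ⟨a * e, fun x => by rw [ha, map_smul, smul_eq_mul, mul_assoc]⟩

end Typ

/-- every flag is the beginning of a critical pair -/
theorem Mid.exists_cr [Finite G] {S : Sylow 2 G} {P : Subgroup G} (h : Mid S P V Z)
    (hex : ∃ A R B, Cr V Z A R B) (hRA : Adj V Z R A) : ∃ Y, Cr V Z R A Y := by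
  obtain ⟨A₀, R₀, B₀, h0⟩ := hex
  obtain ⟨hR, hA, hne, L, hL, hRL, hAL⟩ := hRA
  obtain ⟨hA₀, hR₀, hne₀, M, hM, hAM, hRM⟩ := h0.l
  obtain ⟨g, h1, h2⟩ := h.exists_conj₂ hA₀ hM hAM hR hL hRL
  have h3 : cj g R₀ ≤ L := by rw [h2]; exact cj_le_cj.2 hRM
  obtain ⟨k, hk, hkA⟩ := h.K_trans hR hL hRL (hR₀.cj g) h3 hA hAL (by
    intro e
    rw [h1] at e
    exact hne₀ (cj_inj.1 e).symm) hne.symm
  have h4 := h0.cj (k * g)
  have h5 : cj (k * g) A₀ = R := by
    rw [← cj_cj, ← h1, cj_eq_iff]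
    exact centralizer_le_normalizer _ (kx_le_cent hk)
  rw [h5, ← cj_cj k g R₀, hkA] at h4
  exact ⟨_, h4⟩

/-- `kp` of a conjugate -/
theorem kp_cj_left (g w x : G) : kp (g * w * g⁻¹) x = g * kp w (g⁻¹ * x * g) * g⁻¹ := by
  simp only [kp]; group

namespace Root

variable [Finite G] {S : Sylow 2 G} {P : Subgroup G} {Blk : Subgroup G → Set (Subgroup G)}
  (h : Root S P V Z τ Blk)
include h

theorem kp_mem_ws {u w : G} (hu : u ∈ normalizer ((ws V R : Subgroup G) : Set G)) (hw : w ∈ ws V R) :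
    kp u w ∈ ws V R := mul_mem ((mem_normalizer_iff.1 hu w).1 hw) (inv_mem hw)

/-- the elements `u ∈ N_G(W_R)` centralising `C` and acting as `1 + ψ(·) v` on the block -/
def _root_.Cfsg.Agent.Omega.NO3S.MidQ.ActBy (V R C : Subgroup G) (c : G → (Fin m → E)) (v : Fin m → E)
    (ψ : (Fin m → E) →ₗ[E] E) (u : G) : Prop :=
  (∀ d ∈ C, u * d = d * u) ∧ ∀ w ∈ ws V R, c (kp u w) = ψ (c w) • v

variable (hR : IsCj Z R) (hc : Co V R B C τ c)
include hR hc

theorem actBy_one (v : Fin m → E) : ActBy V R C c v 0 1 := by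
  refine ⟨fun d _ => by rw [one_mul, mul_one], fun w hw => ?_⟩
  rw [kp_eq_one.2 (by rw [one_mul, mul_one]), hc.c_one, LinearMap.zero_apply, zero_smul]

theorem actBy_mul {v : Fin m → E} {φ ψ : (Fin m → E) →ₗ[E] E} (hφ : φ v = 0) {u t : G}
    (hu : u ∈ normalizer ((ws V R : Subgroup G) : Set G)) (ht : t ∈ normalizer ((ws V R : Subgroup G) : Set G))
    (h1 : ActBy V R C c v φ u) (h2 : ActBy V R C c v ψ t) : ActBy V R C c v (φ + ψ) (u * t) := by
  refine ⟨fun d hd => by rw [mul_assoc, h2.1 d hd, ← mul_assoc, h1.1 d hd, mul_assoc], fun w hw => ?_⟩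
  have h3 := h.kp_mem_ws ht hw
  have h4 := h.kp_mem_ws hu hw
  have e : kp (u * t) w = kp u (kp t w) * kp t w * kp u w := by
    simp only [kp]; group
  rw [e, hc.add _ (mul_mem (h.kp_mem_ws hu h3) h3) _ h4, hc.add _ (h.kp_mem_ws hu h3) _ h3, h1.2 _ h3, h2.2 w hw,
    h1.2 w hw, map_smul, hφ, smul_zero, zero_smul, zero_add, LinearMap.add_apply, add_smul, add_comm]

theorem actBy_inv {v : Fin m → E} {φ : (Fin m → E) →ₗ[E] E} (hφ : φ v = 0) {u : G}
    (hu : u ∈ normalizer ((ws V R : Subgroup G) : Set G)) (h1 : ActBy V R C c v φ u) :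
    ActBy V R C c v (-φ) u⁻¹ := by
  refine ⟨fun d hd => by rw [inv_mul_eq_iff_eq_mul, ← mul_assoc, h1.1 d hd, mul_inv_cancel_right], fun w hw => ?_⟩
  have h3 := h.kp_mem_ws (inv_mem hu) hw
  have e : kp u (kp u⁻¹ w) * kp u⁻¹ w * kp u w = 1 := by
    simp only [kp]; group
  have h4 := h.kp_mem_ws hu h3
  have h5 := congrArg c e
  rw [hc.c_one, hc.add _ (mul_mem h4 h3) _ (h.kp_mem_ws hu hw), hc.add _ h4 _ h3, h1.2 _ h3, h1.2 w hw] at h5
  -- `x + φ(x) v = - φ(w) v`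
  have h6 : c (kp u⁻¹ w) = -(φ (c w) • v) - φ (c (kp u⁻¹ w)) • v := by
    have h7 := eq_neg_of_add_eq_zero_left h5
    rw [← h7]; abel
  have h8 : φ (c (kp u⁻¹ w)) = 0 := by
    rw [h6, map_sub, map_neg, map_smul, map_smul, hφ, smul_zero, smul_zero, neg_zero, sub_zero]
  rw [h6, h8, zero_smul, sub_zero, LinearMap.neg_apply, neg_smul]

variable (hB : B ∈ Blk R) (hcr : ∀ A Y, Cr V Z R A Y → A ≤ B → Act V R A Y C τ c)
include hB hcr

/-- the action of `W_Y`, `Y ~ A` -/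
theorem wact (hRA : Adj V Z R A) (hAB : A ≤ B) (hAY : Adj V Z A Y) {a w : G} (ha : a ∈ A) (ha1 : a ≠ 1)
    (hw : w ∈ ws V Y) : ∃ ψ, τ.Gd (c a) ψ ∧ ActBy V R C c (c a) ψ w := by
  by_cases hcom : Com V R Y
  · refine ⟨0, Typ.Gd.zero, fun d hd => ?_, fun x hx => ?_⟩
    · exact (mem_centralizer_iff.1 (hcom (hc.CW hd)) w hw)
    · rw [kp_eq_one.2 (mem_centralizer_iff.1 (hcom hx) w hw), hc.c_one, LinearMap.zero_apply, zero_smul]
  · obtain ⟨h1, Φ, h2⟩ := hcr A Y ⟨hRA, hAY, hcom⟩ hAB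
    obtain ⟨h3, h4, -⟩ := h2 a ha ha1
    obtain ⟨φ, hφ, h5⟩ := h4 w hw
    exact ⟨φ, h3.gd h.ok hφ, fun d hd => h1 d hd w hw, h5⟩

/-- **the action of `U_A` on `W_R`** -/
theorem uact (hRA : Adj V Z R A) (hAB : A ≤ B) {a u : G} (ha : a ∈ A) (ha1 : a ≠ 1) (hu : u ∈ UU V Z A) :
    ∃ ψ, τ.Gd (c a) ψ ∧ ActBy V R C c (c a) ψ u := by
  let H : Subgroup G :=
    { carrier := {u | u ∈ normalizer ((ws V R : Subgroup G) : Set G) ∧ ∃ ψ, τ.Gd (c a) ψ ∧ ActBy V R C c (c a) ψ u}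
      one_mem' := ⟨one_mem _, 0, Typ.Gd.zero, h.actBy_one hR hc _⟩
      mul_mem' := by
        rintro u t ⟨hu, φ, h1, h2⟩ ⟨ht, ψ, h3, h4⟩
        exact ⟨mul_mem hu ht, φ + ψ, h1.add h3, h.actBy_mul hR hc h1.1 hu ht h2 h4⟩
      inv_mem' := by
        rintro u ⟨hu, φ, h1, h2⟩
        exact ⟨inv_mem hu, -φ, h1.neg, h.actBy_inv hR hc h1.1 hu h2⟩ }
  have hle : UU V Z A ≤ H := by
    refine sSup_le ?_
    rintro _ ⟨Y, hY, rfl⟩
    intro w hw
    exact ⟨h.ws_norm hY hRA.symm hw, h.wact hR hc hB hcr hRA hAB hY.symm ha ha1 hw⟩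
  exact (hle hu).2

/-- **every good `ψ` occurs** -/
theorem full (hex : ∃ A R B, Cr V Z A R B) (hRA : Adj V Z R A) (hAB : A ≤ B) {a : G} (ha : a ∈ A) (ha1 : a ≠ 1)
    {ψ : (Fin m → E) →ₗ[E] E} (hψ : τ.Gd (c a) ψ) :
    ∃ Y, Cr V Z R A Y ∧ ∃ w ∈ ws V Y, ActBy V R C c (c a) ψ w := by
  obtain ⟨Y, hY⟩ := h.exists_cr hex hRA
  obtain ⟨h1, Φ, h2⟩ := hcr A Y hY hAB
  obtain ⟨h3, h4, h5⟩ := h2 a ha ha1
  have haR : a ∉ R := fun e => hRA.ne (h.pts_eq hRA.left hRA.right e ha ha1)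
  have hv0 : c a ≠ 0 := hc.c_ne (hAB ha) haR
  -- it is enough to have `ψ ∈ Φ`
  have key : ψ ∈ Φ → ∃ Y, Cr V Z R A Y ∧ ∃ w ∈ ws V Y, ActBy V R C c (c a) ψ w := by
    intro hψΦ
    obtain ⟨w, hw, h6⟩ := h5 ψ hψΦ
    exact ⟨Y, hY, w, hw, fun d hd => h1 d hd w hw, h6⟩
  cases τ with
  | sp f => exact key ((h3 ψ).2 (hψ.2 f rfl))
  | sl =>
    by_cases hψ0 : ψ = 0
    · exact key (hψ0 ▸ Φ.zero_mem)
    obtain ⟨φ, hφ, hφ0⟩ := (Submodule.ne_bot_iff Φ).1 h3.1
    have hφv : φ (c a) = 0 := h3.2 φ hφ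
    by_cases hdep : ∃ e : E, ψ = e • φ
    · obtain ⟨e, he⟩ := hdep
      exact key (he ▸ Φ.smul_mem e hφ)
    push Not at hdep
    -- `x₁` with `φ = 1`, `ψ = 0`, and `x₂` with `φ = 0`, `ψ = 1`
    obtain ⟨x2, hx2, hx2'⟩ : ∃ x, φ x = 0 ∧ ψ x ≠ 0 := by
      by_contra hcon
      push Not at hcon
      obtain ⟨y, hy⟩ : ∃ y, φ y ≠ 0 := by
        by_contra hc'
        push Not at hc'
        exact hφ0 (LinearMap.ext hc')
      apply hdep (ψ y / φ y)
      refine LinearMap.ext fun x => ?_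
      have h6 := hcon (x - (φ x / φ y) • y) (by
        rw [map_sub, map_smul, smul_eq_mul, div_mul_cancel₀ _ hy, sub_self])
      rw [map_sub, map_smul, smul_eq_mul, sub_eq_zero] at h6
      rw [LinearMap.smul_apply, smul_eq_mul, h6]
      field_simp
    obtain ⟨x1, hx1, hx1'⟩ : ∃ x, ψ x = 0 ∧ φ x ≠ 0 := by
      by_contra hcon
      push Not at hcon
      have h6 := hcon (x2 - x2) (by rw [sub_self, map_zero])
      obtain ⟨y, hy⟩ : ∃ y, φ y ≠ 0 := by
        by_contra hc'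
        push Not at hc'
        exact hφ0 (LinearMap.ext hc')
      have h7 := hcon (y - (ψ y / ψ x2) • x2) (by
        rw [map_sub, map_smul, smul_eq_mul, div_mul_cancel₀ _ hx2', sub_self])
      rw [map_sub, map_smul, hx2, smul_zero, sub_zero] at h7
      exact hy h7
    set z := (φ x1)⁻¹ • x1 + (ψ x2)⁻¹ • x2 with hz
    have hφz : φ z = 1 := by
      rw [hz, map_add, map_smul, map_smul, hx2, smul_zero, add_zero, smul_eq_mul, inv_mul_cancel₀ hx1']
    have hψz : ψ z = 1 := by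
      rw [hz, map_add, map_smul, map_smul, hx1, smul_zero, zero_add, smul_eq_mul, inv_mul_cancel₀ hx2']
    have hρ : (φ - ψ) z = 0 := by rw [LinearMap.sub_apply, hφz, hψz, sub_self]
    have hTm : (Typ.sl : Typ E m).Mem (LinearEquiv.transvection hρ) :=
      Typ.tv (τ := .sl) trivial hρ (fun f e => by cases e)
    obtain ⟨g, hg, hgB, hgc, hgC⟩ := hc.lift _ hTm
    have hgN := centralizer_le_normalizer _ hg
    have hT : ∀ x, ψ (LinearEquiv.transvection hρ x) = φ x := by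
      intro x
      rw [LinearEquiv.transvection.apply, map_add, map_smul, hψz, smul_eq_mul, mul_one, LinearMap.sub_apply]
      ring
    have hTv : ∀ x, φ x = 0 → ψ x = 0 → LinearEquiv.transvection hρ x = x := by
      intro x h6 h7
      rw [LinearEquiv.transvection.apply, LinearMap.sub_apply, h6, h7, sub_zero, zero_smul, add_zero]
    have hTa : LinearEquiv.transvection hρ (c a) = c a := hTv _ hφv hψ.1
    obtain ⟨hR', hA', hne, L, hL, hRL, hAL⟩ := hRA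
    have hLB : L ≤ B := h.line_le hR hB hL hRL (hAB ha) (hAL ha) haR
    have h6 : cj g A ≤ L := by
      intro y hy
      have hy' := mem_cj.1 hy
      obtain ⟨l, -, hl⟩ := h.line_smul hR hB hc hL hRL hLB (hAL ha) haR (hAL hy') (D := C) le_rfl
      have h7 : c (g * (g⁻¹ * y * g) * g⁻¹) = c (g⁻¹ * y * g) := by
        rw [hgc _ (hc.BW (hAB hy')), hl, map_smul, hTa]
      have e : g * (g⁻¹ * y * g) * g⁻¹ = y := by group
      rw [e] at h7
      have hyB : y ∈ B := by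
        have := hgB _ (hAB hy')
        rwa [e] at this
      have h8 := hc.mem_X_of_eq hyB (hAB hy') h7
      have e2 : y = y * (g⁻¹ * y * g)⁻¹ * (g⁻¹ * y * g) := by group
      rw [e2]
      exact mul_mem (hRL h8) (hAL hy')
    have hgR : cj g R = R := cj_eq_iff.2 hgN
    obtain ⟨k, hk, hkA⟩ := h.K_trans hR' hL hRL (hA'.cj g) h6 hA' hAL (by
      intro e
      rw [← hgR] at e
      exact hne (cj_inj.1 e).symm) hne.symm
    have hkN : k ∈ normalizer (R : Set G) := centralizer_le_normalizer _ (kx_le_cent hk)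
    have hY' := hY.cj (k * g)
    have h9 : cj (k * g) R = R := cj_eq_iff.2 (mul_mem hkN hgN)
    have h10 : cj (k * g) A = A := by rw [← cj_cj, hkA]
    rw [h9, h10] at hY'
    obtain ⟨w, hw, hwφ⟩ := h5 φ hφ
    have hkc : ∀ x ∈ ws V R, c (k * x * k⁻¹) = c x := by
      intro x hx
      have e : k * x * k⁻¹ = kp k x * x := by simp only [kp]; group
      rw [e, hc.c_mul_X (h.kp_mem hR' hk hx) hx]
    have hkc' : ∀ x ∈ ws V R, c (k⁻¹ * x * k) = c x := by
      intro x hx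
      have h11 : k⁻¹ * x * k ∈ ws V R := by
        have := h.ws_conj hR' (inv_mem hkN) hx
        rwa [inv_inv] at this
      have h12 := hkc _ h11
      have e : k * (k⁻¹ * x * k) * k⁻¹ = x := by group
      rw [e] at h12
      exact h12.symm
    have hgc' : ∀ x ∈ ws V R, LinearEquiv.transvection hρ (c (g⁻¹ * x * g)) = c x := by
      intro x hx
      have h11 : g⁻¹ * x * g ∈ ws V R := by
        have := h.ws_conj hR' (inv_mem hgN) hx
        rwa [inv_inv] at this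
      have h12 := hgc _ h11
      have e : g * (g⁻¹ * x * g) * g⁻¹ = x := by group
      rw [e] at h12
      exact h12.symm
    refine ⟨_, hY', k * g * w * (k * g)⁻¹, by rw [ws_cj]; exact conj_mem_cj hw, fun d hd => ?_, fun x hx => ?_⟩
    · -- the complement is centralised by the whole of `W_{Y'}`
      obtain ⟨h13, -⟩ := hcr A _ hY' (hAB)
      exact h13 d hd _ (by rw [ws_cj]; exact conj_mem_cj hw)
    · have hkg : (k * g) ∈ normalizer (R : Set G) := mul_mem hkN hgN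
      have hx1 : (k * g)⁻¹ * x * (k * g) ∈ ws V R := by
        have := h.ws_conj hR' (inv_mem hkg) hx
        rwa [inv_inv] at this
      have hx2 : k⁻¹ * x * k ∈ ws V R := by
        have := h.ws_conj hR' (inv_mem hkN) hx
        rwa [inv_inv] at this
      have hwN : w ∈ normalizer ((ws V R : Subgroup G) : Set G) := h.ws_norm hY.r.symm hY.l.symm hw
      have hy1 := h.kp_mem_ws hwN hx1
      rw [kp_cj_left]
      have e1 : k * g * kp w ((k * g)⁻¹ * x * (k * g)) * (k * g)⁻¹ =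
          k * (g * kp w ((k * g)⁻¹ * x * (k * g)) * g⁻¹) * k⁻¹ := by group
      rw [e1, hkc _ (h.ws_conj hR' hgN hy1), hgc _ hy1, hwφ _ hx1, map_smul, hTa]
      congr 1
      rw [← hT]
      have e2 : (k * g)⁻¹ * x * (k * g) = g⁻¹ * (k⁻¹ * x * k) * g := by group
      rw [e2, hgc' _ hx2, hkc' x hx]

/-- **the centraliser of `U_A` in `W_R`** -/
theorem mem_cent_iff (hex : ∃ A R B, Cr V Z A R B) (hRA : Adj V Z R A) (hAB : A ≤ B) {a w : G} (ha : a ∈ A)
    (ha1 : a ≠ 1) (hw : w ∈ ws V R) :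
    w ∈ centralizer ((UU V Z A : Subgroup G) : Set G) ↔ ∀ ψ, τ.Gd (c a) ψ → ψ (c w) = 0 := by
  have haR : a ∉ R := fun e => hRA.ne (h.pts_eq hRA.left hRA.right e ha ha1)
  have hv0 : c a ≠ 0 := hc.c_ne (hAB ha) haR
  constructor
  · intro h1 ψ hψ
    obtain ⟨Y, hY, x, hx, h2⟩ := h.full hR hc hB hcr hex hRA hAB ha ha1 hψ
    have h3 := mem_centralizer_iff.1 h1 x (le_UU hY.r.symm hx)
    have h4 := h2.2 w hw
    rw [kp_eq_one.2 h3, hc.c_one] at h4
    exact (smul_eq_zero.1 h4.symm).resolve_right hv0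
  · intro h1
    rw [← zpowers_le, ← Subgroup.le_centralizer_iff]
    refine sSup_le ?_
    rintro _ ⟨Y, hY, rfl⟩
    rw [Subgroup.le_centralizer_iff, zpowers_le, mem_centralizer_iff]
    intro x hx
    by_cases hcom : Com V R Y
    · exact mem_centralizer_iff.1 (hcom hw) x hx
    have hcrY : Cr V Z R A Y := ⟨hRA, hY.symm, hcom⟩
    obtain ⟨h2, Φ, h3⟩ := hcr A Y hcrY hAB
    obtain ⟨h4, h5, -⟩ := h3 a ha ha1
    obtain ⟨φ, hφ, h6⟩ := h5 x hx
    obtain ⟨b, hb, d, hd, rfl⟩ := hc.sup w hw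
    have hbW := hc.BW hb
    have h7 : c (b * d) = c b := by rw [hc.add b hbW d (hc.CW hd), hc.c_C hd, add_zero]
    have h8 := h6 b hbW
    rw [← h7, h1 φ (h4.gd h.ok hφ), zero_smul] at h8
    -- `[x, b] ∈ R`
    have hxN : x ∈ normalizer (R : Set G) := centralizer_le_normalizer _ (h.ws_le_cent hY hRA.symm hx)
    have hxa : x * a * x⁻¹ ∈ B := by
      have h9 : x * a = a * x := (mem_centralizer_iff.1 (h.ws_le_cent' hY hx) a ha).symm
      rw [h9, mul_inv_cancel_right]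
      exact hAB ha
    have hxB := h.norm_blk hR hB hxN (hAB ha) haR hxa
    have h10 : kp x b ∈ R := hc.mem_X (mul_mem (h.blk_conj_mem hxB hb) (inv_mem hb)) h8
    -- `[x, b] ∈ W_Y`
    have hbN : b ∈ normalizer ((ws V Y : Subgroup G) : Set G) := h.ws_norm hRA hY.symm hbW
    have h11 : kp x b ∈ ws V Y := by
      have e : kp x b = x * (b * x⁻¹ * b⁻¹) := by simp only [kp]; group
      rw [e]
      exact mul_mem hx ((mem_normalizer_iff.1 hbN _).1 (inv_mem hx))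
    have h12 : x * b = b * x := kp_eq_one.1 (h.star hcrY h10 h11)
    rw [← mul_assoc, h12, mul_assoc, h2 d hd x hx, ← mul_assoc]

end Root

end Cfsg.Agent.Omega.NO3S.MidQ
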